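import Mathlib

set_option autoImplicit false

namespace Cfsg.Agent.Helper17

open Subgroup

variable {G : Type*} [Group G]

/-- For a simple group and a proper subgroup `H`, the action on `G ⧸ H` is faithful. -/
theorem toPermHom_injective_of_simple [IsSimpleGroup G] (H : Subgroup G) (hH : H ≠ ⊤) :
    Function.Injective (MulAction.toPermHom G (G ⧸ H)) := by
  rw [← MonoidHom.ker_eq_bot_iff]
  have hker : (MulAction.toPermHom G (G ⧸ H)).ker = H.normalCore :=
    (Subgroup.normalCore_eq_ker H).symm
  rcases (MulAction.toPermHom G (G ⧸ H)).normal_ker.eq_bot_or_eq_top with h | h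
  · exact h
  · exfalso
    rw [hker] at h
    exact hH (top_le_iff.mp (h ▸ H.normalCore_le))

/-- A homomorphism from a non-commutative simple group to a commutative group is trivial. -/
theorem hom_to_comm_trivial [IsSimpleGroup G] (hG : ¬ IsMulCommutative G)
    {A : Type*} [CommGroup A] (f : G →* A) (g : G) : f g = 1 := by
  rcases f.normal_ker.eq_bot_or_eq_top with h | h
  · exfalso
    apply hG
    have hinj : Function.Injective f := (MonoidHom.ker_eq_bot_iff f).mp h
    refine ⟨⟨fun a b => hinj ?_⟩⟩
    rw [map_mul, map_mul, mul_comm]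
  · have : g ∈ f.ker := h ▸ Subgroup.mem_top g
    exact this

/-- Embedding theorem: a non-abelian simple group with a proper subgroup of index `n` embeds
in the alternating group of degree `n`. -/
theorem exists_embedding_alternating [Finite G] [IsSimpleGroup G] (hG : ¬ IsMulCommutative G)
    (H : Subgroup G) (hH : H ≠ ⊤) :
    ∃ f : G →* ↥(alternatingGroup (Fin H.index)), Function.Injective f := by
  classical
  have hidx : Nat.card (G ⧸ H) = H.index := rfl
  have : Fintype (G ⧸ H) := Fintype.ofFinite _
  have hcard : Fintype.card (G ⧸ H) = Fintype.card (Fin H.index) := by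
    rw [Fintype.card_fin, ← Nat.card_eq_fintype_card, hidx]
  let e : (G ⧸ H) ≃ Fin H.index := Fintype.equivOfCardEq hcard
  let φ : G →* Equiv.Perm (Fin H.index) :=
    (e.permCongrHom.toMonoidHom).comp (MulAction.toPermHom G (G ⧸ H))
  have hφ : Function.Injective φ := by
    intro a b hab
    apply toPermHom_injective_of_simple H hH
    exact e.permCongrHom.injective hab
  have hmem : ∀ g, φ g ∈ alternatingGroup (Fin H.index) := by
    intro g
    rw [Equiv.Perm.mem_alternatingGroup]
    exact hom_to_comm_trivial hG (Equiv.Perm.sign.comp φ) g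
  refine ⟨φ.codRestrict _ hmem, ?_⟩
  intro a b hab
  apply hφ
  have := congrArg Subtype.val hab
  simpa using this

end Cfsg.Agent.Helper17
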