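import Mathlib
import Cfsg.Agent.Helper17.Embed

set_option autoImplicit false

namespace Cfsg.Agent.Helper17

open Subgroup

variable {G : Type*} [Group G]

/-- A simple group whose order is not prime is not commutative. -/
theorem not_comm_of_simple_of_not_prime [Finite G] [IsSimpleGroup G]
    (h : ¬ (Nat.card G).Prime) : ¬ IsMulCommutative G := by
  intro hc
  let : CommGroup G := { (inferInstance : Group G) with mul_comm := fun a b => hc.is_comm.comm a b }
  exact h (IsSimpleGroup.prime_card (α := G))

/-- In a non-abelian finite simple group, `2 * |G|` divides `n!` for the index `n` of any proper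
subgroup. -/
theorem two_mul_card_dvd_factorial_index [Finite G] [IsSimpleGroup G] (hG : ¬ IsMulCommutative G)
    (H : Subgroup G) (hH : H ≠ ⊤) : 2 * Nat.card G ∣ (H.index).factorial := by
  classical
  obtain ⟨f, hf⟩ := exists_embedding_alternating hG H hH
  have h1 : Nat.card G ∣ Nat.card ↥(alternatingGroup (Fin H.index)) :=
    Subgroup.card_dvd_of_injective f hf
  have hidx : 2 ≤ H.index := by
    have h0 : H.index ≠ 0 := Subgroup.index_ne_zero_of_finite
    have h1 : H.index ≠ 1 := fun h => hH (Subgroup.index_eq_one.mp h)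
    omega
  have : Nontrivial (Fin H.index) := Fin.nontrivial_iff_two_le.mpr hidx
  have h2 : 2 * Nat.card ↥(alternatingGroup (Fin H.index)) = (H.index).factorial := by
    rw [two_mul_nat_card_alternatingGroup, Nat.card_perm, Nat.card_eq_fintype_card, Fintype.card_fin]
  rw [← h2]
  exact Nat.mul_dvd_mul_left 2 h1

/-- Sylow count divides the `p'`-part. -/
theorem card_sylow_dvd_of_card_eq [Finite G] {p : ℕ} [Fact p.Prime] {k m : ℕ}
    (hG : Nat.card G = p ^ k * m) (hm : ¬ p ∣ m) : Nat.card (Sylow p G) ∣ m := by
  obtain ⟨P⟩ : Nonempty (Sylow p G) := inferInstance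
  have h1 : Nat.card (Sylow p G) ∣ (P : Subgroup G).index := P.card_dvd_index
  have h2 : Nat.card (P : Subgroup G) * (P : Subgroup G).index = Nat.card G :=
    (P : Subgroup G).card_mul_index
  have hp : p.Prime := Fact.out
  have hcop : Nat.Coprime (p ^ k) ((P : Subgroup G).index) := by
    apply Nat.Coprime.pow_left
    rw [Nat.Prime.coprime_iff_not_dvd hp]
    exact P.not_dvd_index
  have h3 : (P : Subgroup G).index ∣ p ^ k * m := by
    rw [← hG, ← h2]; exact dvd_mul_left _ _
  exact h1.trans (hcop.symm.dvd_of_dvd_mul_left h3)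

/-- The order of a Sylow `p`-subgroup when `|G| = p^k * m` with `p ∤ m`. -/
theorem card_sylow_subgroup_of_card_eq [Finite G] {p : ℕ} [Fact p.Prime] {k m : ℕ}
    (hG : Nat.card G = p ^ k * m) (hm : ¬ p ∣ m) (P : Sylow p G) :
    Nat.card (P : Subgroup G) = p ^ k := by
  have hp : p.Prime := Fact.out
  rw [P.card_eq_multiplicity, hG]
  congr 1
  have hm0 : m ≠ 0 := fun h => hm (h ▸ dvd_zero p)
  rw [Nat.factorization_mul (pow_ne_zero _ hp.ne_zero) hm0]
  simp [hp.factorization, Nat.factorization_eq_zero_of_not_dvd hm]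

/-- `|N(P)| * n_p = |G|`. -/
theorem card_normalizer_mul_card_sylow [Finite G] {p : ℕ} [Fact p.Prime] (P : Sylow p G) :
    Nat.card (normalizer ((P : Subgroup G) : Set G)) * Nat.card (Sylow p G) = Nat.card G := by
  rw [P.card_eq_index_normalizer]
  exact Subgroup.card_mul_index _

/-- In a simple group whose order is not a power of `p` but divisible by `p`, there is more than one
Sylow `p`-subgroup. -/
theorem card_sylow_ne_one_of_simple [Finite G] [IsSimpleGroup G] {p : ℕ} [Fact p.Prime] {k m : ℕ}
    (hG : Nat.card G = p ^ k * m) (hm : ¬ p ∣ m) (hk : k ≠ 0) (hm1 : m ≠ 1) :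
    Nat.card (Sylow p G) ≠ 1 := by
  intro h1
  have hp : p.Prime := Fact.out
  obtain ⟨P⟩ : Nonempty (Sylow p G) := inferInstance
  have : Subsingleton (Sylow p G) := (Nat.card_eq_one_iff_unique.mp h1).1
  have hN : (P : Subgroup G).Normal := Sylow.normal_of_subsingleton P
  have hcard := card_sylow_subgroup_of_card_eq hG hm P
  have hm0 : m ≠ 0 := fun h => hm (h ▸ dvd_zero p)
  rcases hN.eq_bot_or_eq_top with h | h
  · rw [h, Subgroup.card_bot] at hcard
    have : 1 < p ^ k := Nat.one_lt_pow hk hp.one_lt
    omega
  · rw [h, Subgroup.card_top, hG] at hcard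
    have hpk : 0 < p ^ k := pow_pos hp.pos k
    have : p ^ k * m = p ^ k * 1 := by rw [mul_one]; exact hcard
    exact hm1 (Nat.eq_of_mul_eq_mul_left hpk this)

/-- **Burnside for simple groups**: in a finite simple group a nontrivial proper Sylow subgroup
is not central in its normalizer. -/
theorem not_normalizer_le_centralizer_of_simple [Finite G] [IsSimpleGroup G] {p : ℕ} [Fact p.Prime]
    (P : Sylow p G) (h1 : Nat.card (P : Subgroup G) ≠ 1)
    (h2 : Nat.card (P : Subgroup G) ≠ Nat.card G) :
    ¬ (normalizer ((P : Subgroup G) : Set G) ≤ centralizer ((P : Subgroup G) : Set G)) := by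
  intro hP
  have hc := MonoidHom.ker_transferSylow_isComplement' P hP
  have hcard := hc.card_mul_card
  rcases (MonoidHom.transferSylow P hP).normal_ker.eq_bot_or_eq_top with h | h
  · rw [h, Subgroup.card_bot, one_mul] at hcard
    exact h2 hcard
  · rw [h, Subgroup.card_top] at hcard
    have hpos : 0 < Nat.card G := Nat.card_pos
    have : Nat.card G * Nat.card (P : Subgroup G) = Nat.card G * 1 := by rw [mul_one]; exact hcard
    exact h1 (Nat.eq_of_mul_eq_mul_left hpos this)

/-- `[N(P) : C(P)]` divides `|Aut P|`. -/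
theorem relIndex_centralizer_normalizer_dvd_card_mulAut [Finite G] (H : Subgroup G) :
    (centralizer (H : Set G)).relIndex (normalizer (H : Set G)) ∣ Nat.card (MulAut H) := by
  have key := Subgroup.card_dvd_of_injective _ (QuotientGroup.kerLift_injective H.normalizerMonoidHom)
  rwa [normalizerMonoidHom_ker, ← index, ← relIndex] at key


/-- `|C(H)| * [N(H):C(H)] = |N(H)|`. -/
theorem card_centralizer_mul_relIndex [Finite G] (H : Subgroup G) :
    Nat.card (centralizer (H : Set G)) * (centralizer (H : Set G)).relIndex (normalizer (H : Set G))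
      = Nat.card (normalizer (H : Set G)) := by
  have hle : centralizer (H : Set G) ≤ normalizer (H : Set G) := Subgroup.centralizer_le_normalizer (H : Set G)
  have h1 := Subgroup.relIndex_mul_index hle
  have h2 := Subgroup.card_mul_index (centralizer (H : Set G))
  have h3 := Subgroup.card_mul_index (normalizer (H : Set G))
  have hpos : 0 < (normalizer (H : Set G)).index := Nat.pos_of_ne_zero Subgroup.index_ne_zero_of_finite
  apply Nat.eq_of_mul_eq_mul_right hpos
  rw [mul_assoc, h1, h2, h3]

/-- For a Sylow subgroup of prime order `p`, `d = [N:C]` divides `p - 1` and `p * d` divides `|N|`. -/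
theorem relIndex_dvd_of_card_sylow_prime [Finite G] {p : ℕ} [Fact p.Prime] (P : Sylow p G)
    (hP : Nat.card (P : Subgroup G) = p) :
    (centralizer ((P : Subgroup G) : Set G)).relIndex (normalizer ((P : Subgroup G) : Set G)) ∣ p - 1 ∧
    p * (centralizer ((P : Subgroup G) : Set G)).relIndex (normalizer ((P : Subgroup G) : Set G)) ∣
      Nat.card (normalizer ((P : Subgroup G) : Set G)) := by
  have hp : p.Prime := Fact.out
  have : Fact (Nat.card (P : Subgroup G)).Prime := ⟨hP.symm ▸ hp⟩
  have hcyc : IsCyclic (P : Subgroup G) := isCyclic_of_prime_card (p := Nat.card (P : Subgroup G)) rfl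
  constructor
  · have h := relIndex_centralizer_normalizer_dvd_card_mulAut (P : Subgroup G)
    rwa [IsCyclic.card_mulAut, hP, Nat.totient_prime hp] at h
  · have : IsMulCommutative (P : Subgroup G) := ⟨⟨fun a b => by
      let := hcyc.commGroup; exact mul_comm a b⟩⟩
    have hle : (P : Subgroup G) ≤ centralizer ((P : Subgroup G) : Set G) := Subgroup.le_centralizer _
    have hdvd : p ∣ Nat.card (centralizer ((P : Subgroup G) : Set G)) := by
      have := Subgroup.card_dvd_of_le hle
      rwa [hP] at this
    rw [← card_centralizer_mul_relIndex]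
    exact Nat.mul_dvd_mul_right hdvd _

/-- In a finite simple group, if a Sylow `p`-subgroup has prime order `p` (and `G` is bigger),
then `d = [N(P):C(P)]` satisfies `1 < d`, `d ∣ p - 1` and `p * d ∣ |N(P)|`. -/
theorem exists_dvd_of_simple_sylow_prime [Finite G] [IsSimpleGroup G] {p : ℕ} [Fact p.Prime]
    (P : Sylow p G) (hP : Nat.card (P : Subgroup G) = p) (hG : Nat.card G ≠ p) :
    ∃ d, 1 < d ∧ d ∣ p - 1 ∧ p * d ∣ Nat.card (normalizer ((P : Subgroup G) : Set G)) := by
  have hp : p.Prime := Fact.out
  obtain ⟨h1, h2⟩ := relIndex_dvd_of_card_sylow_prime P hP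
  refine ⟨_, ?_, h1, h2⟩
  have hne : ¬ (normalizer ((P : Subgroup G) : Set G) ≤ centralizer ((P : Subgroup G) : Set G)) :=
    not_normalizer_le_centralizer_of_simple P (by rw [hP]; exact hp.one_lt.ne') (by rw [hP]; exact hG.symm)
  have h0 : (centralizer ((P : Subgroup G) : Set G)).relIndex (normalizer ((P : Subgroup G) : Set G)) ≠ 0 :=
    Subgroup.index_ne_zero_of_finite
  have h1' : (centralizer ((P : Subgroup G) : Set G)).relIndex (normalizer ((P : Subgroup G) : Set G)) ≠ 1 :=
    fun h => hne (Subgroup.relIndex_eq_one.mp h)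
  omega

end Cfsg.Agent.Helper17
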