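import Mathlib
import Cfsg.Agent.Helper17.SylowKit

set_option autoImplicit false

namespace Cfsg.Agent.Helper17

open Subgroup

variable {G : Type*} [Group G]

/-- If Sylow `p`-subgroups have order `p`, an element of order `p` generates a Sylow subgroup. -/
theorem exists_sylow_eq_zpowers [Finite G] {p : ℕ} [Fact p.Prime]
    (hP : ∀ P : Sylow p G, Nat.card (P : Subgroup G) = p) (g : G) (hg : orderOf g = p) :
    ∃ Q : Sylow p G, (Q : Subgroup G) = zpowers g := by
  have hcard : Nat.card (zpowers g) = p ^ 1 := by rw [Nat.card_zpowers, hg, pow_one]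
  obtain ⟨Q, hQ⟩ := (IsPGroup.of_card hcard).exists_le_sylow
  refine ⟨Q, (Subgroup.eq_of_le_of_card_ge hQ ?_).symm⟩
  rw [hP Q, hcard, pow_one]

/-- If Sylow `p`-subgroups have order `p`, the number of elements of order `p` is `n_p * (p - 1)`. -/
theorem card_orderOf_eq_prime [Finite G] {p : ℕ} [Fact p.Prime]
    (hP : ∀ P : Sylow p G, Nat.card (P : Subgroup G) = p) :
    Nat.card {g : G // orderOf g = p} = Nat.card (Sylow p G) * (p - 1) := by
  classical
  have hp : p.Prime := Fact.out
  have key : ∀ (S : Sylow p G) (g : G), g ∈ (S : Subgroup G) → g ≠ 1 → orderOf g = p := by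
    intro S g hg hne
    have h1 : orderOf g ∣ p := by
      have := orderOf_dvd_natCard (⟨g, hg⟩ : (S : Subgroup G))
      rwa [hP S, Subgroup.orderOf_mk] at this
    rcases (Nat.dvd_prime hp).mp h1 with h | h
    · exact absurd (orderOf_eq_one_iff.mp h) hne
    · exact h
  have huniq : ∀ (S : Sylow p G) (g : G), g ∈ (S : Subgroup G) → orderOf g = p →
      (S : Subgroup G) = zpowers g := by
    intro S g hg ho
    have hle : zpowers g ≤ (S : Subgroup G) := zpowers_le.mpr hg
    refine (Subgroup.eq_of_le_of_card_ge hle ?_).symm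
    rw [hP S, Nat.card_zpowers, ho]
  let f : (Σ S : Sylow p G, {g : (S : Subgroup G) // g ≠ 1}) → {g : G // orderOf g = p} :=
    fun x => ⟨x.2.1.1, key x.1 x.2.1.1 x.2.1.2 (fun h => x.2.2 (Subtype.ext h))⟩
  have hf : Function.Bijective f := by
    constructor
    · rintro ⟨S, ⟨⟨g, hg⟩, hne⟩⟩ ⟨S', ⟨⟨g', hg'⟩, hne'⟩⟩ h
      have hgg : g = g' := congrArg Subtype.val h
      subst hgg
      have ho : orderOf g = p := key S g hg (fun h => hne (Subtype.ext h))
      have hSS : S = S' := Sylow.ext ((huniq S g hg ho).trans (huniq S' g hg' ho).symm)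
      subst hSS
      rfl
    · rintro ⟨g, ho⟩
      obtain ⟨S, hS⟩ := exists_sylow_eq_zpowers hP g ho
      have hg : g ∈ (S : Subgroup G) := hS ▸ mem_zpowers g
      refine ⟨⟨S, ⟨⟨g, hg⟩, ?_⟩⟩, rfl⟩
      intro h
      have h1 : g = 1 := congrArg Subtype.val h
      rw [h1, orderOf_one] at ho
      exact hp.one_lt.ne ho
  haveI := Fintype.ofFinite (Sylow p G)
  rw [← Nat.card_congr (Equiv.ofBijective f hf), Nat.card_sigma]
  have hfib : ∀ S : Sylow p G, Nat.card {g : (S : Subgroup G) // g ≠ 1} = p - 1 := by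
    intro S
    haveI := Fintype.ofFinite (S : Subgroup G)
    rw [Nat.card_eq_fintype_card, Fintype.card_subtype_compl, ← Nat.card_eq_fintype_card, hP S]
    simp
  simp only [hfib]
  rw [Finset.sum_const, Finset.card_univ, Nat.card_eq_fintype_card, smul_eq_mul]

end Cfsg.Agent.Helper17
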