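import Mathlib
import Cfsg.Agent.Helper17.SylowKit
import Cfsg.Agent.Helper17.CountOrder

set_option autoImplicit false

namespace Cfsg.Agent.Helper17

open Subgroup MulAction
open scoped Pointwise

section PrimeDegree

variable {Γ : Type*} [Group Γ] [Finite Γ] {α : Type*} [Fintype α] [MulAction Γ α]
  [FaithfulSMul Γ α] [IsPretransitive Γ α] {p : ℕ} [Fact p.Prime]

omit [IsPretransitive Γ α] [Fact p.Prime] [Finite Γ] in
theorem card_dvd_factorial_of_faithful (hα : Fintype.card α = p) : Nat.card Γ ∣ p.factorial := by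
  classical
  have h := Subgroup.card_dvd_of_injective (MulAction.toPermHom Γ α) MulAction.toPerm_injective
  rwa [Nat.card_perm, Nat.card_eq_fintype_card (α := α), hα] at h

omit [FaithfulSMul Γ α] [Fact p.Prime] [Finite Γ] in
theorem prime_dvd_card_of_transitive (hα : Fintype.card α = p) (hp0 : p ≠ 0) : p ∣ Nat.card Γ := by
  haveI : Nonempty α := by
    rw [← Fintype.card_pos_iff, hα]; omega
  obtain ⟨a⟩ : Nonempty α := inferInstance
  have h := MulAction.index_stabilizer_of_transitive Γ a
  rw [Nat.card_eq_fintype_card, hα] at h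
  rw [← h]
  exact Subgroup.index_dvd_card _

theorem card_sylow_of_prime_degree (hα : Fintype.card α = p) (P : Sylow p Γ) :
    Nat.card (P : Subgroup Γ) = p := by
  have hp : p.Prime := Fact.out
  have h1 := card_dvd_factorial_of_faithful (Γ := Γ) hα
  have h2 := prime_dvd_card_of_transitive (Γ := Γ) hα hp.ne_zero
  have hfac : (p - 1 + 1).factorial = (p - 1 + 1) * (p - 1).factorial := Nat.factorial_succ (p - 1)
  have hp1 : p - 1 + 1 = p := by have := hp.two_le; omega
  rw [hp1] at hfac
  have hndvd : ¬ p ∣ (p - 1).factorial := by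
    rw [hp.dvd_factorial]; have := hp.two_le; omega
  rw [P.card_eq_multiplicity]
  have hk1 : 1 ≤ (Nat.card Γ).factorization p :=
    hp.factorization_pos_of_dvd Nat.card_pos.ne' h2
  have hk2 : (Nat.card Γ).factorization p ≤ 1 := by
    by_contra hlt
    push Not at hlt
    have h3 : p ^ 2 ∣ Nat.card Γ :=
      (hp.pow_dvd_iff_le_factorization Nat.card_pos.ne').mpr hlt
    have h4 : p ^ 2 ∣ p * (p - 1).factorial := hfac ▸ h3.trans h1
    rw [pow_two] at h4
    exact hndvd ((Nat.mul_dvd_mul_iff_left hp.pos).mp h4)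
  have : (Nat.card Γ).factorization p = 1 := le_antisymm hk2 hk1
  rw [this, pow_one]

omit [Finite Γ] in
/-- a nontrivial normal subgroup of a transitive group of prime degree is transitive, so its order
is divisible by `p` -/
theorem prime_dvd_card_normal (hα : Fintype.card α = p) (K : Subgroup Γ) [K.Normal] (hK : K ≠ ⊥) :
    p ∣ Nat.card K := by
  have hp : p.Prime := Fact.out
  haveI : IsPreprimitive Γ α := IsPreprimitive.of_prime_card (by
    rw [Nat.card_eq_fintype_card, hα]; exact hp)
  have hfix : fixedPoints K α ≠ Set.univ := by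
    intro h
    apply hK
    rw [eq_bot_iff]
    intro k hk
    rw [mem_bot]
    apply FaithfulSMul.eq_of_smul_eq_smul (α := α)
    intro a
    have : a ∈ fixedPoints K α := h ▸ Set.mem_univ a
    have := this ⟨k, hk⟩
    simpa using this
  haveI : IsPretransitive K α := IsQuasiPreprimitive.isPretransitive_of_normal hfix
  exact prime_dvd_card_of_transitive (Γ := K) hα hp.ne_zero

theorem isSimpleGroup_of_prime_degree (hα : Fintype.card α = p) (P : Sylow p Γ)
    (hn : 1 < Nat.card (Sylow p Γ))
    (ht : (((P : Subgroup Γ).subgroupOf (normalizer ((P : Subgroup Γ) : Set Γ))).index).Prime) :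
    IsSimpleGroup Γ := by
  have hp : p.Prime := Fact.out
  have hcardS : ∀ S : Sylow p Γ, Nat.card (S : Subgroup Γ) = p :=
    fun S => card_sylow_of_prime_degree hα S
  have hPcard := hcardS P
  haveI : Nontrivial Γ := by
    by_contra h
    rw [not_nontrivial_iff_subsingleton] at h
    have hsub : Subsingleton (Sylow p Γ) :=
      ⟨fun S T => Sylow.ext (Subsingleton.elim _ _)⟩
    have : Nat.card (Sylow p Γ) ≤ 1 := Finite.card_le_one_iff_subsingleton.mpr hsub
    omega
  refine ⟨fun K hK => ?_⟩
  by_contra hcon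
  push Not at hcon
  obtain ⟨hKbot, hKtop⟩ := hcon
  have hpK : p ∣ Nat.card K := prime_dvd_card_normal hα K hKbot
  -- P ≤ K
  have hPK : (P : Subgroup Γ) ≤ K := by
    obtain ⟨x, hx⟩ := exists_prime_orderOf_dvd_card' (G := K) p hpK
    have hx' : orderOf (x : Γ) = p := by rw [Subgroup.orderOf_coe]; exact hx
    obtain ⟨Q, hQ⟩ := exists_sylow_eq_zpowers hcardS (x : Γ) hx'
    have hQK : (Q : Subgroup Γ) ≤ K := by rw [hQ, zpowers_le]; exact x.2
    obtain ⟨g, hg⟩ := MulAction.exists_smul_eq Γ Q P
    intro y hy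
    have hy' : y ∈ ((g • Q : Sylow p Γ) : Subgroup Γ) := hg ▸ hy
    rw [Sylow.coe_subgroup_smul, Subgroup.mem_pointwise_smul_iff_inv_smul_mem] at hy'
    have h1 : g⁻¹ * y * g ∈ K := hQK (by simpa [MulAut.smul_def] using hy')
    have h2 := hK.conj_mem _ h1 g
    simpa [mul_assoc] using h2
  have hF : normalizer ((P : Subgroup Γ) : Set Γ) ⊔ K = ⊤ := Sylow.normalizer_sup_eq_top' P hPK
  set N := normalizer ((P : Subgroup Γ) : Set Γ) with hN
  have hPN : (P : Subgroup Γ) ≤ N := le_normalizer
  have hPL : (P : Subgroup Γ) ≤ N ⊓ K := le_inf hPN hPK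
  have hmul := relIndex_mul_relIndex (P : Subgroup Γ) (N ⊓ K) N hPL inf_le_left
  have hq : ((P : Subgroup Γ).relIndex N).Prime := ht
  rw [← hmul] at hq
  rcases (Nat.prime_mul_iff.mp hq) with ⟨-, h1⟩ | ⟨-, h1⟩
  · -- (N ⊓ K).relIndex N = 1 → N ≤ K → K = ⊤
    have hNK : N ≤ N ⊓ K := relIndex_eq_one.mp h1
    have : N ≤ K := hNK.trans inf_le_right
    apply hKtop
    rw [← hF]
    exact (sup_eq_right.mpr this).symm
  · -- P.relIndex (N ⊓ K) = 1 → N ⊓ K = P
    have hLP : N ⊓ K ≤ (P : Subgroup Γ) := relIndex_eq_one.mp h1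
    have hL : N ⊓ K = (P : Subgroup Γ) := le_antisymm hLP hPL
    -- inside K
    set P' : Sylow p K := P.subtype hPK with hP'
    have hP'card : Nat.card (P' : Subgroup K) = p := by
      rw [hP', Sylow.coe_subtype]
      rw [Nat.card_congr (subgroupOfEquivOfLe hPK).toEquiv, hPcard]
    have hnorm : normalizer ((P' : Subgroup K) : Set K) = (P' : Subgroup K) := by
      rw [hP', Sylow.coe_subtype, ← subgroupOf_normalizer_eq hPK, ← hN, ← inf_subgroupOf_right, hL]
    haveI : Fact (Nat.card (P' : Subgroup K)).Prime := ⟨hP'card.symm ▸ hp⟩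
    haveI hcyc : IsCyclic (P' : Subgroup K) := isCyclic_of_prime_card rfl
    haveI : IsMulCommutative (P' : Subgroup K) := ⟨⟨fun a b => by
      let _ := hcyc.commGroup; exact mul_comm a b⟩⟩
    have hNC : normalizer ((P' : Subgroup K) : Set K) ≤ centralizer ((P' : Subgroup K) : Set K) := by
      rw [hnorm]; exact Subgroup.le_centralizer _
    set f := MonoidHom.transferSylow P' hNC with hf
    have hcompl := MonoidHom.ker_transferSylow_isComplement' P' hNC
    have hndvd := MonoidHom.not_dvd_card_ker_transferSylow P' hNC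
    -- characterization of the kernel
    have hchar : ∀ k : K, k ∈ f.ker ↔ ¬ p ∣ orderOf k := by
      intro k
      constructor
      · intro hk hdvd
        apply hndvd
        have := orderOf_dvd_natCard (⟨k, hk⟩ : f.ker)
        rw [Subgroup.orderOf_mk] at this
        exact hdvd.trans this
      · intro hk
        rw [MonoidHom.mem_ker]
        have h1 : orderOf (f k) ∣ orderOf k := orderOf_map_dvd f k
        have h2 : orderOf (f k) ∣ p := by
          have := orderOf_dvd_natCard (f k)
          rwa [hP'card] at this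
        rcases (Nat.dvd_prime hp).mp h2 with h | h
        · exact orderOf_eq_one_iff.mp h
        · exact absurd (h ▸ h1) hk
    -- M = image of the kernel in Γ is normal in Γ
    set M : Subgroup Γ := f.ker.map K.subtype with hM
    have hMnormal : M.Normal := by
      refine ⟨fun m hm g => ?_⟩
      obtain ⟨k, hk, rfl⟩ := hm
      have hgk : g * (k : Γ) * g⁻¹ ∈ K := hK.conj_mem _ k.2 g
      refine ⟨⟨g * (k : Γ) * g⁻¹, hgk⟩, ?_, rfl⟩
      rw [SetLike.mem_coe, hchar] at hk ⊢
      have h1 : orderOf (⟨g * (k : Γ) * g⁻¹, hgk⟩ : K) = orderOf k := by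
        rw [← Subgroup.orderOf_coe, ← Subgroup.orderOf_coe k]
        have : SemiconjBy g (k : Γ) (g * (k : Γ) * g⁻¹) := by
          unfold SemiconjBy; group
        exact (this.orderOf_eq).symm
      rwa [h1]
    have hMcard : Nat.card M = Nat.card f.ker :=
      Subgroup.card_map_of_injective K.subtype_injective
    have hMbot : M = ⊥ := by
      by_contra hne
      have := prime_dvd_card_normal hα M hne
      rw [hMcard] at this
      exact hndvd this
    have hkerbot : Nat.card f.ker = 1 := by
      rw [← hMcard, hMbot, Subgroup.card_bot]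
    have hKcard : Nat.card K = p := by
      have := hcompl.card_mul_card
      rw [hkerbot, one_mul, hP'card] at this
      exact this.symm
    have hKP : (P : Subgroup Γ) = K :=
      Subgroup.eq_of_le_of_card_ge hPK (by rw [hKcard, hPcard])
    have hPnormal : (P : Subgroup Γ).Normal := hKP ▸ hK
    have huniq := Sylow.unique_of_normal P hPnormal
    have : Nat.card (Sylow p Γ) = 1 := Nat.card_unique
    omega

end PrimeDegree

end Cfsg.Agent.Helper17
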