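import Mathlib

set_option autoImplicit false

namespace Cfsg.Agent.Helper17

open Subgroup

theorem isKleinFour_of_card_four_of_not_isCyclic {T : Type*} [Group T] (h4 : Nat.card T = 4)
    (hc : ¬ IsCyclic T) : IsKleinFour T := by
  haveI : Finite T := Nat.finite_of_card_ne_zero (by rw [h4]; norm_num)
  refine ⟨h4, ?_⟩
  have hord : ∀ t : T, t ^ 2 = 1 := by
    intro t
    have hdvd : orderOf t ∣ 4 := h4 ▸ orderOf_dvd_natCard t
    have hne : orderOf t ≠ 4 := by
      intro h
      exact hc (isCyclic_of_orderOf_eq_card t (by rw [h, h4]))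
    have hle : orderOf t ≤ 4 := Nat.le_of_dvd (by norm_num) hdvd
    have h12 : orderOf t ∣ 2 := by
      interval_cases h : orderOf t <;> simp_all
    exact orderOf_dvd_iff_pow_eq_one.mp h12
  have hdvd : Monoid.exponent T ∣ 2 := Monoid.exponent_dvd_of_forall_pow_eq_one hord
  have hne1 : Monoid.exponent T ≠ 1 := by
    intro h
    have := Monoid.exp_eq_one_iff.mp h
    have : Nat.card T = 1 := Nat.card_eq_one_iff_unique.mpr ⟨this, ⟨1⟩⟩
    omega
  rcases (Nat.dvd_prime Nat.prime_two).mp hdvd with h | h
  · exact absurd h hne1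
  · exact h

theorem card_mulAut_kleinFour_dvd {T : Type*} [Group T] [IsKleinFour T] :
    Nat.card (MulAut T) ∣ 6 := by
  classical
  haveI : Finite T := IsKleinFour.instFinite
  let S : SubMulAction (MulAut T) T :=
    { carrier := {t | t ≠ 1}
      smul_mem' := fun φ t ht => by
        change _ ≠ _ at ht ⊢
        intro h
        apply ht
        have : φ t = 1 := h
        exact (map_eq_one_iff φ φ.injective).mp this }
  let f : MulAut T →* Equiv.Perm S := MulAction.toPermHom (MulAut T) S
  have hf : Function.Injective f := by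
    intro φ ψ h
    ext t
    by_cases ht : t = 1
    · simp [ht]
    · have := congrArg (fun σ => ((σ ⟨t, ht⟩ : S) : T)) h
      simpa [f] using this
  have hcard : Nat.card S = 3 := by
    have h4 : Nat.card T = 4 := IsKleinFour.card_four
    have : Nat.card S = Nat.card {t : T // t ≠ 1} := rfl
    rw [this]
    haveI := Fintype.ofFinite T
    rw [Nat.card_eq_fintype_card, Fintype.card_subtype_compl, ← Nat.card_eq_fintype_card, h4]
    simp
  have := Subgroup.card_dvd_of_injective f hf
  rw [Nat.card_perm, hcard] at this
  exact this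

end Cfsg.Agent.Helper17
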