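import Mathlib

set_option autoImplicit false

namespace Cfsg.Agent.Helper17

open Subgroup

variable {G : Type*} [Group G]

theorem card_lt_of_lt' {H K : Subgroup G} [Finite K] (h : H < K) : Nat.card H < Nat.card K := by
  refine lt_of_le_of_ne (Subgroup.card_le_of_le h.le) ?_
  intro heq
  exact h.ne (Subgroup.eq_of_le_of_card_ge h.le heq.ge)

/-- A proper subgroup `D` of a `p`-subgroup `R` is properly contained in its normalizer
inside `R`. -/
theorem exists_mem_normalizer_not_mem [Finite G] {p : ℕ} [Fact p.Prime] {D R : Subgroup G}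
    (hR : IsPGroup p R) (hDR : D < R) : ∃ x ∈ R, x ∈ normalizer (D : Set G) ∧ x ∉ D := by
  haveI : Group.IsNilpotent R := hR.isNilpotent
  have hnc : NormalizerCondition R := Group.normalizerCondition_of_isNilpotent
  have hlt : D.subgroupOf R < ⊤ := by
    rw [lt_top_iff_ne_top]
    intro h
    rw [subgroupOf_eq_top] at h
    exact absurd (le_antisymm hDR.le h) hDR.ne
  have h2 := hnc _ hlt
  obtain ⟨x, hx1, hx2⟩ := SetLike.exists_of_lt h2
  rw [← subgroupOf_normalizer_eq hDR.le] at hx1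
  exact ⟨x.1, x.2, mem_subgroupOf.mp hx1, fun h => hx2 (mem_subgroupOf.mpr h)⟩

theorem sylow_inf_lt_left {p : ℕ} {P Q : Sylow p G} (hPQ : P ≠ Q) :
    (P : Subgroup G) ⊓ (Q : Subgroup G) < (P : Subgroup G) := by
  refine lt_of_le_of_ne inf_le_left ?_
  intro h
  apply hPQ
  have hle : (P : Subgroup G) ≤ (Q : Subgroup G) := inf_eq_left.mp h
  exact Sylow.ext (P.3 Q.2 hle).symm

theorem sylow_inf_lt_right {p : ℕ} {P Q : Sylow p G} (hPQ : P ≠ Q) :
    (P : Subgroup G) ⊓ (Q : Subgroup G) < (Q : Subgroup G) := by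
  rw [inf_comm]; exact sylow_inf_lt_left (Ne.symm hPQ)

/-- membership in the image of a subgroup of a subgroup -/
theorem mem_map_subtype_iff {N : Subgroup G} (S : Subgroup N) (y : N) :
    (y : G) ∈ S.map N.subtype ↔ y ∈ S := by
  constructor
  · rintro ⟨z, hz, hzy⟩
    have : z = y := Subtype.ext hzy
    exact this ▸ hz
  · intro hy
    exact ⟨y, hy, rfl⟩

/-- If `D` is a `p`-subgroup, `P` a Sylow `p`-subgroup with some `x ∈ P ∩ N(D)` outside `D`, then
every Sylow `p`-subgroup `S` of `N(D)` (mapped to `G`) properly contains `D`. -/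
theorem lt_map_sylow_normalizer [Finite G] {p : ℕ} [Fact p.Prime] (D : Subgroup G)
    (hDp : IsPGroup p D) (P : Sylow p G) (hDP : D ≤ P) {x : G} (hxP : x ∈ (P : Subgroup G))
    (hxN : x ∈ normalizer (D : Set G)) (hxD : x ∉ D)
    (S : Sylow p ↥(normalizer (D : Set G))) :
    D < S.toSubgroup.map (normalizer (D : Set G)).subtype := by
  have hDN : D ≤ normalizer (D : Set G) := le_normalizer
  have hp' : IsPGroup p (D.subgroupOf (normalizer (D : Set G))) := hDp.comap_subtype
  have h1 : D.subgroupOf (normalizer (D : Set G)) ≤ S.toSubgroup := hp'.le_sylow_of_normal S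
  have hle : D ≤ S.toSubgroup.map (normalizer (D : Set G)).subtype := by
    intro d hd
    exact ⟨⟨d, hDN hd⟩, h1 (mem_subgroupOf.mpr hd), rfl⟩
  refine lt_of_le_of_ne hle ?_
  intro heq
  have hKp : IsPGroup p ((normalizer (D : Set G) ⊓ (P : Subgroup G)).subgroupOf (normalizer (D : Set G))) :=
    (P.2.to_le inf_le_right).comap_subtype
  obtain ⟨S₀, hS₀⟩ := hKp.exists_le_sylow
  have hcard : Nat.card S₀.toSubgroup = Nat.card S.toSubgroup := by
    rw [S₀.card_eq_multiplicity, S.card_eq_multiplicity]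
  have hDK : D.subgroupOf (normalizer (D : Set G)) <
      (normalizer (D : Set G) ⊓ (P : Subgroup G)).subgroupOf (normalizer (D : Set G)) := by
    refine lt_of_le_of_ne ?_ ?_
    · intro y hy
      rw [mem_subgroupOf] at hy ⊢
      exact mem_inf.mpr ⟨y.2, hDP hy⟩
    · intro h
      apply hxD
      have : (⟨x, hxN⟩ : normalizer (D : Set G)) ∈
          (normalizer (D : Set G) ⊓ (P : Subgroup G)).subgroupOf (normalizer (D : Set G)) :=
        mem_subgroupOf.mpr (mem_inf.mpr ⟨hxN, hxP⟩)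
      rw [← h] at this
      exact mem_subgroupOf.mp this
  have hc1 := card_lt_of_lt' hDK
  have hc2 := Subgroup.card_le_of_le hS₀
  have hc3 : Nat.card (D.subgroupOf (normalizer (D : Set G))) = Nat.card S.toSubgroup := by
    have h3 : D.subgroupOf (normalizer (D : Set G)) = S.toSubgroup :=
      le_antisymm h1 (fun y hy => mem_subgroupOf.mpr (heq.ge ((mem_map_subtype_iff _ y).mpr hy)))
    rw [h3]
  omega

theorem max_inter_main [Finite G] {p : ℕ} [Fact p.Prime] (P Q : Sylow p G) (hPQ : P ≠ Q)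
    (D : Subgroup G) (hD : D = (P : Subgroup G) ⊓ (Q : Subgroup G))
    (hmax : ∀ P' Q' : Sylow p G, P' ≠ Q' →
      Nat.card ↥((P' : Subgroup G) ⊓ (Q' : Subgroup G)) ≤ Nat.card D) :
    1 < Nat.card (Sylow p ↥(normalizer (D : Set G))) ∧
    (∀ S T : Sylow p ↥(normalizer (D : Set G)), S ≠ T →
      S.toSubgroup ⊓ T.toSubgroup = D.subgroupOf (normalizer (D : Set G))) ∧
    ∀ S : Sylow p ↥(normalizer (D : Set G)), ∃! T : Sylow p G,
      S.toSubgroup.map (normalizer (D : Set G)).subtype ≤ (T : Subgroup G) := by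
  have hDP : D ≤ P := hD ▸ inf_le_left
  have hDQ : D ≤ Q := hD ▸ inf_le_right
  have hDltP : D < P := hD ▸ sylow_inf_lt_left hPQ
  have hDltQ : D < Q := hD ▸ sylow_inf_lt_right hPQ
  have hDp : IsPGroup p D := P.2.to_le hDP
  obtain ⟨xP, hxPP, hxPN, hxPD⟩ := exists_mem_normalizer_not_mem P.2 hDltP
  obtain ⟨xQ, hxQQ, hxQN, hxQD⟩ := exists_mem_normalizer_not_mem Q.2 hDltQ
  have key1 : ∀ S : Sylow p ↥(normalizer (D : Set G)),
      D < S.toSubgroup.map (normalizer (D : Set G)).subtype :=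
    fun S => lt_map_sylow_normalizer D hDp P hDP hxPP hxPN hxPD S
  have key2 : ∀ T₁ T₂ : Sylow p G, D ≤ T₁ → D ≤ T₂ → T₁ ≠ T₂ →
      (T₁ : Subgroup G) ⊓ (T₂ : Subgroup G) = D := by
    intro T₁ T₂ h1 h2 hne
    exact (Subgroup.eq_of_le_of_card_ge (le_inf h1 h2) (hmax T₁ T₂ hne)).symm
  have uniq : ∀ (S : Sylow p ↥(normalizer (D : Set G))) (T₁ T₂ : Sylow p G),
      S.toSubgroup.map (normalizer (D : Set G)).subtype ≤ (T₁ : Subgroup G) →
      S.toSubgroup.map (normalizer (D : Set G)).subtype ≤ (T₂ : Subgroup G) → T₁ = T₂ := by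
    intro S T₁ T₂ h1 h2
    by_contra hne
    have hlt := key1 S
    have := key2 T₁ T₂ (hlt.le.trans h1) (hlt.le.trans h2) hne
    have hle : S.toSubgroup.map (normalizer (D : Set G)).subtype ≤ D := (le_inf h1 h2).trans this.le
    exact absurd (lt_of_lt_of_le hlt hle) (lt_irrefl _)
  have exT : ∀ S : Sylow p ↥(normalizer (D : Set G)), ∃ T : Sylow p G,
      S.toSubgroup.map (normalizer (D : Set G)).subtype ≤ (T : Subgroup G) :=
    fun S => (S.2.map _).exists_le_sylow
  -- a p-subgroup `K ≤ N` of `G` lies in a Sylow subgroup of `N`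
  have inSylow : ∀ K : Subgroup G, IsPGroup p K → ∃ S : Sylow p ↥(normalizer (D : Set G)),
      K.subgroupOf (normalizer (D : Set G)) ≤ S.toSubgroup := by
    intro K hK
    exact (hK.comap_subtype : IsPGroup p (K.subgroupOf (normalizer (D : Set G)))).exists_le_sylow
  refine ⟨?_, ?_, ?_⟩
  · -- more than one Sylow subgroup in N
    by_contra hcon
    push Not at hcon
    have hpos : 0 < Nat.card (Sylow p ↥(normalizer (D : Set G))) := Nat.card_pos
    have hone : Nat.card (Sylow p ↥(normalizer (D : Set G))) = 1 := by omega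
    haveI : Subsingleton (Sylow p ↥(normalizer (D : Set G))) :=
      (Nat.card_eq_one_iff_unique.mp hone).1
    obtain ⟨S⟩ : Nonempty (Sylow p ↥(normalizer (D : Set G))) := inferInstance
    obtain ⟨S₁, hS₁⟩ := exT S
    have hDS₁ : D ≤ S₁ := (key1 S).le.trans hS₁
    have claim : ∀ (R : Sylow p G) (x : G), D ≤ R → x ∈ (R : Subgroup G) →
        x ∈ normalizer (D : Set G) → x ∉ D → S₁ = R := by
      intro R x hDR hxR hxN hxD
      by_contra hne
      have hinf := key2 S₁ R hDS₁ hDR hne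
      apply hxD
      rw [← hinf]
      refine mem_inf.mpr ⟨?_, hxR⟩
      obtain ⟨S₂, hS₂⟩ := inSylow (normalizer (D : Set G) ⊓ (R : Subgroup G)) (R.2.to_le inf_le_right)
      have hS₂' : S₂ = S := Subsingleton.elim _ _
      rw [hS₂'] at hS₂
      have : (⟨x, hxN⟩ : normalizer (D : Set G)) ∈ S.toSubgroup :=
        hS₂ (mem_subgroupOf.mpr (mem_inf.mpr ⟨hxN, hxR⟩))
      exact hS₁ ((mem_map_subtype_iff _ _).mpr this)
    have e1 := claim P xP hDP hxPP hxPN hxPD
    have e2 := claim Q xQ hDQ hxQQ hxQN hxQD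
    exact hPQ (e1.symm.trans e2)
  · intro S T hST
    obtain ⟨S₁, hS₁⟩ := exT S
    obtain ⟨T₁, hT₁⟩ := exT T
    have hDS₁ : D ≤ S₁ := (key1 S).le.trans hS₁
    have hDT₁ : D ≤ T₁ := (key1 T).le.trans hT₁
    have hne : S₁ ≠ T₁ := by
      intro heq
      apply hST
      have hK : IsPGroup p (((S₁ : Subgroup G) ⊓ normalizer (D : Set G)).subgroupOf (normalizer (D : Set G))) :=
        (S₁.2.to_le inf_le_left).comap_subtype
      have hSK : S.toSubgroup ≤ ((S₁ : Subgroup G) ⊓ normalizer (D : Set G)).subgroupOf (normalizer (D : Set G)) := by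
        intro y hy
        exact mem_subgroupOf.mpr (mem_inf.mpr ⟨hS₁ ((mem_map_subtype_iff _ _).mpr hy), y.2⟩)
      have hTK : T.toSubgroup ≤ ((S₁ : Subgroup G) ⊓ normalizer (D : Set G)).subgroupOf (normalizer (D : Set G)) := by
        intro y hy
        exact mem_subgroupOf.mpr (mem_inf.mpr ⟨heq ▸ hT₁ ((mem_map_subtype_iff _ _).mpr hy), y.2⟩)
      have e1 := S.3 hK hSK
      have e2 := T.3 hK hTK
      exact Sylow.ext (e1.symm.trans e2)
    have hinf := key2 S₁ T₁ hDS₁ hDT₁ hne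
    have hp' : IsPGroup p (D.subgroupOf (normalizer (D : Set G))) := hDp.comap_subtype
    apply le_antisymm
    · intro y hy
      obtain ⟨hyS, hyT⟩ := mem_inf.mp hy
      rw [mem_subgroupOf]
      exact hinf.le (mem_inf.mpr ⟨hS₁ ((mem_map_subtype_iff _ _).mpr hyS), hT₁ ((mem_map_subtype_iff _ _).mpr hyT)⟩)
    · exact le_inf (hp'.le_sylow_of_normal S) (hp'.le_sylow_of_normal T)
  · intro S
    obtain ⟨T, hT⟩ := exT S
    exact ⟨T, hT, fun T' hT' => uniq S T' T hT' hT⟩

end Cfsg.Agent.Helper17
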