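import Mathlib

set_option autoImplicit false

namespace Cfsg.Agent.Helper17

open MulAction Fintype

/-- Generalized fixed-point congruence: if every non-trivial orbit has size divisible by `m`, then
`|X| ≡ |Fix| (mod m)`. -/
theorem card_modEq_card_fixedPoints_of_dvd_orbit {P : Type*} [Group P] {X : Type*} [MulAction P X]
    [Finite X] (m : ℕ) (hm : m ≠ 1)
    (h : ∀ x : X, x ∉ fixedPoints P X → m ∣ Nat.card (orbit P x)) :
    Nat.card X ≡ Nat.card (fixedPoints P X) [MOD m] := by
  have := Fintype.ofFinite X
  have := Fintype.ofFinite (fixedPoints P X)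
  have : Nontrivial (ZMod m) := ZMod.nontrivial_iff.mpr hm
  rw [Nat.card_eq_fintype_card, Nat.card_eq_fintype_card]
  classical
    calc
      card X = card (Σ y : Quotient (orbitRel P X), { x // Quotient.mk'' x = y }) :=
        card_congr (Equiv.sigmaFiberEquiv (@Quotient.mk'' _ (orbitRel P X))).symm
      _ = ∑ a : Quotient (orbitRel P X), card { x // Quotient.mk'' x = a } := card_sigma
      _ ≡ ∑ _a : fixedPoints P X, 1 [MOD m] := ?_
      _ = _ := by simp
    rw [← ZMod.natCast_eq_natCast_iff _ _ m, Nat.cast_sum, Nat.cast_sum]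
    have key :
      ∀ x,
        card { y // (Quotient.mk'' y : Quotient (orbitRel P X)) = Quotient.mk'' x } =
          card (orbit P x) :=
      fun x => by simp only [Quotient.eq'']; congr
    refine
      Eq.symm
        (Finset.sum_bij_ne_zero (fun a _ _ => Quotient.mk'' a.1) (fun _ _ _ => Finset.mem_univ _)
          (fun a₁ _ _ a₂ _ _ h =>
            Subtype.ext (mem_fixedPoints'.mp a₂.2 a₁.1 (Quotient.exact' h)))
          (fun b => Quotient.inductionOn' b fun b _ hb => ?_) fun a ha _ => by
          rw [key, mem_fixedPoints_iff_card_orbit_eq_one.mp a.2])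
    have hfix : b ∈ fixedPoints P X := by
      by_contra hne
      apply hb
      have := h b hne
      rw [Nat.card_eq_fintype_card] at this
      change ((card { y // (Quotient.mk'' y : Quotient (orbitRel P X)) = Quotient.mk'' b } : ℕ) : ZMod m) = 0
      rw [key, ZMod.natCast_eq_zero_iff]
      convert this
    exact ⟨⟨b, hfix⟩, Finset.mem_univ _, ne_of_eq_of_ne Nat.cast_one one_ne_zero, rfl⟩

end Cfsg.Agent.Helper17
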