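import Mathlib
import Cfsg.Agent.Helper17.Orbits

set_option autoImplicit false

namespace Cfsg.Agent.Helper17

open MulAction Subgroup

variable {G : Type*} [Group G]

/-- Under the conjugation action of a Sylow subgroup `P` on the set of Sylow subgroups,
the orbit of `R` has `[P : P ∩ R]` elements. -/
theorem card_orbit_sylow_eq_index [Finite G] {p : ℕ} [Fact p.Prime] (P R : Sylow p G) :
    Nat.card (orbit (P : Subgroup G) R) = ((R : Subgroup G).subgroupOf (P : Subgroup G)).index := by
  have h1 : stabilizer (P : Subgroup G) R = (stabilizer G R).subgroupOf (P : Subgroup G) := by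
    ext g
    simp [mem_stabilizer_iff, mem_subgroupOf, Subgroup.smul_def]
  have h2 : (stabilizer G R).subgroupOf (P : Subgroup G) = (R : Subgroup G).subgroupOf (P : Subgroup G) := by
    rw [Sylow.stabilizer_eq_normalizer, ← inf_subgroupOf_left, P.2.inf_normalizer_sylow R,
      inf_subgroupOf_left]
  rw [← h2, ← h1, index_stabilizer, Nat.card_coe_set_eq]

theorem fixedPoints_sylow_eq [Finite G] {p : ℕ} [Fact p.Prime] (P : Sylow p G) :
    fixedPoints (P : Subgroup G) (Sylow p G) = {P} :=
  Set.ext fun Q : Sylow p G =>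
    calc
      Q ∈ fixedPoints (P : Subgroup G) (Sylow p G) ↔ P.1 ≤ Q := P.2.sylow_mem_fixedPoints_iff
      _ ↔ Q.1 = P.1 := ⟨P.3 Q.2, ge_of_eq⟩
      _ ↔ Q ∈ {P} := Sylow.ext_iff.symm.trans Set.mem_singleton_iff.symm

/-- If all pairs of distinct Sylow `p`-subgroups have `[P : P ∩ R]` divisible by `m`,
then `n_p ≡ 1 (mod m)`. -/
theorem card_sylow_modEq_one_of_dvd_index [Finite G] {p : ℕ} [Fact p.Prime] (m : ℕ)
    (h : ∀ P R : Sylow p G, P ≠ R → m ∣ ((R : Subgroup G).subgroupOf (P : Subgroup G)).index) :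
    Nat.card (Sylow p G) ≡ 1 [MOD m] := by
  by_cases hm : m = 1
  · subst hm; exact Nat.modEq_one
  obtain ⟨P⟩ : Nonempty (Sylow p G) := inferInstance
  have key := card_modEq_card_fixedPoints_of_dvd_orbit (P := (P : Subgroup G)) (X := Sylow p G) m hm
    (by
      intro R hR
      rw [card_orbit_sylow_eq_index]
      apply h
      rintro rfl
      apply hR
      rw [fixedPoints_sylow_eq]
      rfl)
  rw [fixedPoints_sylow_eq] at key
  simpa using key

/-- If the number of Sylow p-subgroups of a finite group is not congruent to 1 modulo p^k, then there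
are two distinct Sylow p-subgroups P and R such that the index of P ∩ R in P is at most p^(k-1). -/
theorem exists_sylow_pair_large_inter [Finite G] (p k : ℕ) [Fact p.Prime]
    (h : ¬ Nat.card (Sylow p G) ≡ 1 [MOD p ^ k]) :
    ∃ P R : Sylow p G, P ≠ R ∧ ((R : Subgroup G).subgroupOf (P : Subgroup G)).index ≤ p ^ (k - 1) := by
  have hp : p.Prime := Fact.out
  by_contra hcon
  push Not at hcon
  apply h
  apply card_sylow_modEq_one_of_dvd_index
  intro P R hPR
  have hlt := hcon P R hPR
  -- the index is a power of p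
  have hdvd : ((R : Subgroup G).subgroupOf (P : Subgroup G)).index ∣ Nat.card (P : Subgroup G) :=
    Subgroup.index_dvd_card _
  obtain ⟨n, hn⟩ := P.2.exists_card_eq
  rw [hn] at hdvd
  obtain ⟨j, hj, hj'⟩ := (Nat.dvd_prime_pow hp).mp hdvd
  rw [hj'] at hlt ⊢
  have : k - 1 < j := (Nat.pow_lt_pow_iff_right hp.one_lt).mp hlt
  exact pow_dvd_pow p (by omega)

end Cfsg.Agent.Helper17
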