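import Mathlib
import Cfsg.Agent.Helper17.SylowKit
import Cfsg.Agent.Helper17.SylowInter
import Cfsg.Agent.Helper17.MaxInter

set_option autoImplicit false

namespace Cfsg.Agent.Helper17

open Subgroup

variable {G : Type*} [Group G]

/-- An abelian subgroup `P` normalizes each of its subgroups. -/
theorem le_normalizer_of_comm {P D : Subgroup G} (hDP : D ≤ P)
    (hc : ∀ a b : P, a * b = b * a) : P ≤ normalizer (D : Set G) := by
  intro x hx
  have hcomm : ∀ d ∈ D, x * d = d * x := fun d hd =>
    congrArg Subtype.val (hc ⟨x, hx⟩ ⟨d, hDP hd⟩)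
  rw [mem_normalizer_iff]
  intro d
  constructor
  · intro hd
    rw [hcomm d hd, mul_inv_cancel_right]; exact hd
  · intro hd
    have h2 := hcomm _ hd
    have : x * d * x⁻¹ = d := by
      have h3 : x * (x * d * x⁻¹) = x * d := by rw [h2]; group
      exact mul_left_cancel h3
    rw [← this]; exact hd

/-- A subgroup `H` containing two distinct Sylow `p`-subgroups of `G` has order at least
`(p + 1) * |P|`; moreover `|H| = |P| * m` where `m` is a multiple of `n_p(H) ≥ p + 1`. -/
theorem card_ge_of_two_sylow_le [Finite G] {p : ℕ} [Fact p.Prime] {H : Subgroup G}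
    (P R : Sylow p G) (hPR : P ≠ R) (hP : (P : Subgroup G) ≤ H) (hR : (R : Subgroup G) ≤ H) :
    ∃ n m : ℕ, p + 1 ≤ n ∧ n % p = 1 ∧ Nat.card H = Nat.card (P : Subgroup G) * (n * m) := by
  have hp : p.Prime := Fact.out
  have hne : P.subtype hP ≠ R.subtype hR := fun h => hPR (Sylow.subtype_injective h)
  have hmod : Nat.card (Sylow p H) ≡ 1 [MOD p] := card_sylow_modEq_one p H
  have h2 : 2 ≤ Nat.card (Sylow p H) := by
    by_contra hlt
    push Not at hlt
    have hpos : 0 < Nat.card (Sylow p H) := Nat.card_pos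
    have hone : Nat.card (Sylow p H) = 1 := by omega
    exact hne ((Nat.card_eq_one_iff_unique.mp hone).1.elim _ _)
  have hdvd : Nat.card (Sylow p H) ∣ ((P.subtype hP : Sylow p H) : Subgroup H).index :=
    (P.subtype hP).card_dvd_index
  obtain ⟨m, hm⟩ := hdvd
  have hcard : Nat.card ((P.subtype hP : Sylow p H) : Subgroup H) = Nat.card (P : Subgroup G) := by
    rw [Sylow.coe_subtype]
    exact Nat.card_congr (subgroupOfEquivOfLe hP).toEquiv
  have hmul := Subgroup.card_mul_index ((P.subtype hP : Sylow p H) : Subgroup H)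
  rw [hcard, hm] at hmul
  refine ⟨Nat.card (Sylow p H), m, ?_, ?_, hmul.symm⟩
  · -- n ≡ 1 mod p and n ≥ 2 → n ≥ p + 1
    have h1 : Nat.card (Sylow p H) % p = 1 % p := hmod
    rw [Nat.mod_eq_of_lt hp.one_lt] at h1
    by_contra hlt
    push Not at hlt
    have hle : Nat.card (Sylow p H) ≤ p := by omega
    rcases Nat.lt_or_eq_of_le hle with h | h
    · rw [Nat.mod_eq_of_lt h] at h1; omega
    · rw [h, Nat.mod_self] at h1; omega
  · have h1 : Nat.card (Sylow p H) % p = 1 % p := hmod
    rwa [Nat.mod_eq_of_lt hp.one_lt] at h1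

/-- In a non-abelian simple group, if a proper subgroup has index at most `k`, then
`2 * |G|` divides `k!`. -/
theorem two_mul_card_dvd_factorial_of_index_le [Finite G] [IsSimpleGroup G]
    (hG : ¬ IsMulCommutative G) (H : Subgroup G) (hH : H ≠ ⊤) {k : ℕ} (hk : H.index ≤ k) :
    2 * Nat.card G ∣ k.factorial :=
  (two_mul_card_dvd_factorial_index hG H hH).trans (Nat.factorial_dvd_factorial hk)

/-- In a simple group, a nontrivial proper subgroup is not normal, so its normalizer is proper. -/
theorem normalizer_ne_top_of_simple [Finite G] [IsSimpleGroup G] (D : Subgroup G)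
    (h1 : Nat.card D ≠ 1) (h2 : Nat.card D ≠ Nat.card G) : normalizer (D : Set G) ≠ ⊤ := by
  intro htop
  have hN : D.Normal := normalizer_eq_top_iff.mp htop
  rcases hN.eq_bot_or_eq_top with h | h
  · rw [h, Subgroup.card_bot] at h1; exact h1 rfl
  · rw [h, Subgroup.card_top] at h2; exact h2 rfl

/-- `[P : P ⊓ R] * |P ⊓ R| = |P|`. -/
theorem index_subgroupOf_mul_card_inf [Finite G] (P R : Subgroup G) :
    (R.subgroupOf P).index * Nat.card (P ⊓ R : Subgroup G) = Nat.card P := by
  have h1 := Subgroup.card_mul_index (R.subgroupOf P)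
  have h2 : Nat.card (R.subgroupOf P) = Nat.card (P ⊓ R : Subgroup G) := by
    rw [← inf_subgroupOf_left]
    exact Nat.card_congr (subgroupOfEquivOfLe inf_le_left).toEquiv
  rw [h2] at h1
  rw [mul_comm]; exact h1

end Cfsg.Agent.Helper17
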