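import Mathlib
import Cfsg.Agent.Helper17.CountOrder

set_option autoImplicit false

namespace Cfsg.Agent.Helper17

open Subgroup MulAction
open scoped Pointwise

variable {G : Type*} [Group G]

/-- In `N(P)`, `P` Sylow of prime order `p`: every element `z ∈ N(P)` whose order is `p` lies in `P`. -/
theorem mem_sylow_of_mem_normalizer_of_orderOf [Finite G] {p : ℕ} [Fact p.Prime] (P : Sylow p G)
    {z : G} (hzN : z ∈ normalizer ((P : Subgroup G) : Set G)) (hz : ∃ k, orderOf z = p ^ k) :
    z ∈ (P : Subgroup G) := by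
  -- zpowers z is a p-group normalizing P hence inside P
  obtain ⟨k, hk⟩ := hz
  have hpz : IsPGroup p (zpowers z) := IsPGroup.of_card (n := k) (by rw [Nat.card_zpowers, hk])
  have hle : zpowers z ≤ normalizer ((P : Subgroup G) : Set G) := zpowers_le.mpr hzN
  have h1 : zpowers z ⊓ normalizer ((P : Subgroup G) : Set G) = zpowers z ⊓ (P : Subgroup G) :=
    hpz.inf_normalizer_sylow P
  have h2 : zpowers z ⊓ normalizer ((P : Subgroup G) : Set G) = zpowers z := inf_eq_left.mpr hle
  rw [h2] at h1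
  have : zpowers z ≤ (P : Subgroup G) := inf_eq_left.mp h1.symm
  exact this (mem_zpowers z)

/-- conjugation form: `g • P = Q` iff ... membership -/
theorem mem_smul_sylow_iff {p : ℕ} (g y : G) (P : Sylow p G) :
    y ∈ ((g • P : Sylow p G) : Subgroup G) ↔ g⁻¹ * y * g ∈ (P : Subgroup G) := by
  rw [Sylow.coe_subgroup_smul, Subgroup.mem_pointwise_smul_iff_inv_smul_mem]
  simp [MulAut.smul_def]

theorem card_fixedBy_eq_one [Finite G] {p : ℕ} [Fact p.Prime] (P : Sylow p G)
    (hP : Nat.card (P : Subgroup G) = p) (y : G) (hy : orderOf y = p) :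
    Nat.card (fixedBy (G ⧸ normalizer ((P : Subgroup G) : Set G)) y) = 1 := by
  have hp : p.Prime := Fact.out
  have hcard : ∀ S : Sylow p G, Nat.card (S : Subgroup G) = p := by
    intro S
    rw [S.card_eq_multiplicity, ← P.card_eq_multiplicity, hP]
  obtain ⟨Q, hQ⟩ := exists_sylow_eq_zpowers hcard y hy
  obtain ⟨g₀, hg₀⟩ := MulAction.exists_smul_eq G P Q
  have hfix : ∀ g : G, (QuotientGroup.mk g : G ⧸ normalizer ((P : Subgroup G) : Set G)) ∈
      fixedBy (G ⧸ normalizer ((P : Subgroup G) : Set G)) y ↔ g • P = Q := by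
    intro g
    rw [mem_fixedBy, MulAction.Quotient.smul_mk, QuotientGroup.eq]
    simp only [smul_eq_mul, mul_inv_rev]
    constructor
    · intro h
      -- g⁻¹ y⁻¹ g ∈ N(P) hence g⁻¹ y g ∈ N(P), of order p, so in P
      have h1 : g⁻¹ * y * g ∈ normalizer ((P : Subgroup G) : Set G) := by
        have := inv_mem h
        simpa [mul_assoc] using this
      have h2 : orderOf (g⁻¹ * y * g) = p := by
        have : SemiconjBy g⁻¹ y (g⁻¹ * y * g) := by unfold SemiconjBy; group
        rw [← this.orderOf_eq, hy]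
      have h3 : g⁻¹ * y * g ∈ (P : Subgroup G) :=
        mem_sylow_of_mem_normalizer_of_orderOf P h1 ⟨1, by rw [h2, pow_one]⟩
      -- so y ∈ g • P, hence Q = zpowers y ≤ g • P, equal by cardinality
      have h4 : y ∈ ((g • P : Sylow p G) : Subgroup G) := (mem_smul_sylow_iff g y P).mpr h3
      have h5 : (Q : Subgroup G) ≤ ((g • P : Sylow p G) : Subgroup G) := by
        rw [hQ, zpowers_le]; exact h4
      exact (Sylow.ext (Subgroup.eq_of_le_of_card_ge h5 (by rw [hcard, hcard]))).symm
    · intro h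
      have h4 : y ∈ ((g • P : Sylow p G) : Subgroup G) := by rw [h, hQ]; exact mem_zpowers y
      have h3 := (mem_smul_sylow_iff g y P).mp h4
      have := inv_mem (le_normalizer h3)
      simpa [mul_assoc] using this
  have hset : fixedBy (G ⧸ normalizer ((P : Subgroup G) : Set G)) y =
      {(QuotientGroup.mk g₀ : G ⧸ normalizer ((P : Subgroup G) : Set G))} := by
    ext c
    induction c using QuotientGroup.induction_on with
    | H g =>
      rw [hfix, Set.mem_singleton_iff, QuotientGroup.eq]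
      constructor
      · intro h
        -- g • P = g₀ • P → g⁻¹ g₀ ∈ N(P)
        have : (g⁻¹ * g₀) • P = P := by rw [mul_smul, hg₀, ← h, inv_smul_smul]
        exact Sylow.smul_eq_iff_mem_normalizer.mp this
      · intro h
        have : (g⁻¹ * g₀) • P = P := Sylow.smul_eq_iff_mem_normalizer.mpr h
        rw [mul_smul, hg₀] at this
        rw [← this, smul_inv_smul]
  rw [hset]
  simp

theorem sylow_inf_eq_bot_of_ne [Finite G] {p : ℕ} [Fact p.Prime] (P P₁ : Sylow p G)
    (hP : Nat.card (P : Subgroup G) = p) (hne : P₁ ≠ P) :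
    (P₁ : Subgroup G) ⊓ (P : Subgroup G) = ⊥ := by
  have hp : p.Prime := Fact.out
  have hdvd : Nat.card ((P₁ : Subgroup G) ⊓ (P : Subgroup G) : Subgroup G) ∣ p := by
    have := Subgroup.card_dvd_of_le (inf_le_right : (P₁ : Subgroup G) ⊓ (P : Subgroup G) ≤ (P : Subgroup G))
    rwa [hP] at this
  rcases (Nat.dvd_prime hp).mp hdvd with h | h
  · exact Subgroup.card_eq_one.mp h
  · exfalso
    have h1 : (P₁ : Subgroup G) ⊓ (P : Subgroup G) = (P : Subgroup G) :=
      Subgroup.eq_of_le_of_card_ge inf_le_right (by rw [h, hP])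
    have h2 : (P : Subgroup G) ≤ (P₁ : Subgroup G) := inf_eq_right.mp h1
    exact hne (Sylow.ext (P.3 P₁.2 h2))

theorem key_fixed [Finite G] {p : ℕ} [Fact p.Prime] (P : Sylow p G)
    (hP : Nat.card (P : Subgroup G) = p) {x : G}
    (hxN : x ∈ normalizer ((P : Subgroup G) : Set G))
    (hxC : x ∉ centralizer ((P : Subgroup G) : Set G)) (g u : G) (hu : u ∈ (P : Subgroup G))
    (h1 : g⁻¹ * x * g ∈ normalizer ((P : Subgroup G) : Set G))
    (h2 : (u * g)⁻¹ * x * (u * g) ∈ normalizer ((P : Subgroup G) : Set G)) :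
    g⁻¹ * u * g ∈ normalizer ((P : Subgroup G) : Set G) := by
  have hp : p.Prime := Fact.out
  by_cases hu1 : u = 1
  · subst hu1; simp
  set P₁ : Sylow p G := g⁻¹ • P with hP₁
  have hmem : ∀ z, z ∈ (P₁ : Subgroup G) ↔ g * z * g⁻¹ ∈ (P : Subgroup G) := by
    intro z
    rw [hP₁, mem_smul_sylow_iff]; simp
  have hw : g⁻¹ * u * g ∈ (P₁ : Subgroup G) := by
    rw [hmem]; simpa [mul_assoc] using hu
  by_cases hPP : P₁ = P
  · rw [hPP] at hw; exact le_normalizer hw
  exfalso
  set a := g⁻¹ * x * g with ha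
  set w := g⁻¹ * u * g with hwdef
  -- a normalizes P₁
  have haN₁ : a ∈ normalizer ((P₁ : Subgroup G) : Set G) := by
    rw [mem_normalizer_iff]
    intro z
    rw [hmem, hmem]
    have := (mem_normalizer_iff.mp hxN) (g * z * g⁻¹)
    rw [this]
    have e : g * (a * z * a⁻¹) * g⁻¹ = x * (g * z * g⁻¹) * x⁻¹ := by rw [ha]; group
    rw [e]
  have hw' : a * w * a⁻¹ ∈ (P₁ : Subgroup G) := (mem_normalizer_iff.mp haN₁ w).mp hw
  have hb : w⁻¹ * a * w ∈ normalizer ((P : Subgroup G) : Set G) := by
    have e : w⁻¹ * a * w = (u * g)⁻¹ * x * (u * g) := by rw [ha, hwdef]; group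
    rw [e]; exact h2
  have hc : w⁻¹ * (a * w * a⁻¹) ∈ normalizer ((P : Subgroup G) : Set G) := by
    have e : w⁻¹ * (a * w * a⁻¹) = (w⁻¹ * a * w) * a⁻¹ := by group
    rw [e]; exact mul_mem hb (inv_mem h1)
  have hd : w⁻¹ * (a * w * a⁻¹) ∈ (P₁ : Subgroup G) := mul_mem (inv_mem hw) hw'
  have hinf : (P₁ : Subgroup G) ⊓ normalizer ((P : Subgroup G) : Set G) =
      (P₁ : Subgroup G) ⊓ (P : Subgroup G) := P₁.2.inf_normalizer_sylow P
  have he : w⁻¹ * (a * w * a⁻¹) ∈ (P₁ : Subgroup G) ⊓ (P : Subgroup G) := by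
    rw [← hinf]; exact mem_inf.mpr ⟨hd, hc⟩
  rw [sylow_inf_eq_bot_of_ne P P₁ hP hPP, mem_bot] at he
  -- a commutes with w, so x commutes with u
  have hcomm : a * w = w * a := by
    have : a * w * a⁻¹ = w := by
      have := congrArg (fun t => w * t) he
      simpa [mul_assoc] using this
    calc a * w = (a * w * a⁻¹) * a := by group
      _ = w * a := by rw [this]
  have hxu : x * u = u * x := by
    have : g * (a * w) * g⁻¹ = g * (w * a) * g⁻¹ := by rw [hcomm]
    rw [ha, hwdef] at this
    simpa [mul_assoc] using this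
  -- u generates P
  apply hxC
  have hou : orderOf u = p := by
    have h1 : orderOf u ∣ p := by
      have := orderOf_dvd_natCard (⟨u, hu⟩ : (P : Subgroup G))
      rwa [hP, Subgroup.orderOf_mk] at this
    rcases (Nat.dvd_prime hp).mp h1 with h | h
    · exact absurd (orderOf_eq_one_iff.mp h) hu1
    · exact h
  have hgen : (P : Subgroup G) = zpowers u :=
    (Subgroup.eq_of_le_of_card_ge (zpowers_le.mpr hu) (by rw [Nat.card_zpowers, hou, hP])).symm
  rw [mem_centralizer_iff]
  intro h hh
  have hh' : h ∈ zpowers u := hgen ▸ hh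
  obtain ⟨k, rfl⟩ := mem_zpowers_iff.mp hh'
  have : Commute x u := hxu
  exact (this.zpow_right k).eq.symm

theorem card_fixedBy_le_card_orbits [Finite G] {p : ℕ} [Fact p.Prime] (P : Sylow p G)
    (hP : Nat.card (P : Subgroup G) = p) {x : G}
    (hxN : x ∈ normalizer ((P : Subgroup G) : Set G))
    (hxC : x ∉ centralizer ((P : Subgroup G) : Set G)) :
    Nat.card (fixedBy (G ⧸ normalizer ((P : Subgroup G) : Set G)) x) ≤
      Nat.card (orbitRel.Quotient ↥(P : Subgroup G) (G ⧸ normalizer ((P : Subgroup G) : Set G))) := by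
  let f : fixedBy (G ⧸ normalizer ((P : Subgroup G) : Set G)) x →
      orbitRel.Quotient ↥(P : Subgroup G) (G ⧸ normalizer ((P : Subgroup G) : Set G)) :=
    fun c => Quotient.mk'' c.1
  apply Nat.card_le_card_of_injective f
  rintro ⟨c₁, hc₁⟩ ⟨c₂, hc₂⟩ h
  apply Subtype.ext
  simp only
  have hrel : c₁ ∈ orbit ↥(P : Subgroup G) c₂ := Quotient.exact' h
  obtain ⟨u, hu⟩ := hrel
  induction c₂ using QuotientGroup.induction_on with
  | H g =>
    have hfix : ∀ g' : G, (QuotientGroup.mk g' : G ⧸ normalizer ((P : Subgroup G) : Set G)) ∈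
        fixedBy (G ⧸ normalizer ((P : Subgroup G) : Set G)) x ↔
        g'⁻¹ * x * g' ∈ normalizer ((P : Subgroup G) : Set G) := by
      intro g'
      rw [mem_fixedBy, MulAction.Quotient.smul_mk, QuotientGroup.eq]
      simp only [smul_eq_mul, mul_inv_rev]
      constructor
      · intro h; have := inv_mem h; simpa [mul_assoc] using this
      · intro h; have := inv_mem h; simpa [mul_assoc] using this
    have hu' : c₁ = QuotientGroup.mk ((u : G) * g) := by
      rw [← hu]; rfl
    subst hu'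
    rw [QuotientGroup.eq]
    have h1 := (hfix g).mp hc₂
    have h2 := (hfix ((u : G) * g)).mp hc₁
    have := key_fixed P hP hxN hxC g (u : G) u.2 h1 h2
    have := inv_mem this
    simpa [mul_assoc] using this

end Cfsg.Agent.Helper17
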