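import Mathlib

set_option autoImplicit false

namespace Cfsg.Agent.Helper17

open Subgroup MulAction

/-- If a `p`-subgroup `Q` normalizes `T` and `|T| ≢ 1 (mod p)`, then some non-identity element of `T`
commutes with all of `Q`. -/
theorem exists_ne_one_commute_of_not_modEq {G : Type*} [Group G] [Finite G] {p : ℕ} [Fact p.Prime]
    (Q T : Subgroup G) (hQ : IsPGroup p Q) (hQT : Q ≤ normalizer (T : Set G))
    (hT : ¬ Nat.card T ≡ 1 [MOD p]) : ∃ t ∈ T, t ≠ 1 ∧ ∀ q ∈ Q, q * t = t * q := by
  letI : MulAction Q T := MulAction.compHom T (Subgroup.inclusion hQT)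
  have hsmul : ∀ (q : Q) (t : T), ((q • t : T) : G) = q * t * (q : G)⁻¹ := fun q t => rfl
  have h := hQ.card_modEq_card_fixedPoints T
  by_contra hcon
  push Not at hcon
  apply hT
  have hfix : fixedPoints Q T = {1} := by
    ext t
    simp only [mem_fixedPoints, Set.mem_singleton_iff]
    constructor
    · intro ht
      by_contra hne
      have hne' : (t : G) ≠ 1 := fun h => hne (Subtype.ext h)
      obtain ⟨q, hq, hqt⟩ := hcon t t.2 hne'
      apply hqt
      have := congrArg Subtype.val (ht ⟨q, hq⟩)
      rw [hsmul] at this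
      simp only at this
      calc q * t = q * t * q⁻¹ * q := by group
        _ = t * q := by rw [this]
    · rintro rfl q
      apply Subtype.ext
      rw [hsmul]
      simp
  rw [hfix] at h
  simpa using h

end Cfsg.Agent.Helper17
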