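import Mathlib
import Cfsg.Agent.Helper17.SylowKit
import Cfsg.Agent.Helper17.FixedPt

set_option autoImplicit false

namespace Cfsg.Agent.Helper17.G168

open Subgroup MulAction Cfsg.Agent.Helper17

variable {G : Type*} [Group G] [Finite G] [IsSimpleGroup G]

local instance fact7 : Fact (Nat.Prime 7) := ⟨by norm_num⟩

theorem not_comm (h : Nat.card G = 168) : ¬ IsMulCommutative G :=
  not_comm_of_simple_of_not_prime (by rw [h]; norm_num)

theorem card7 (h : Nat.card G = 168) : Nat.card G = 7 ^ 1 * 24 := by rw [h]; norm_num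
theorem card3 (h : Nat.card G = 168) : Nat.card G = 3 ^ 1 * 56 := by rw [h]; norm_num
theorem card2 (h : Nat.card G = 168) : Nat.card G = 2 ^ 3 * 21 := by rw [h]; norm_num

theorem card_sylow7 (h : Nat.card G = 168) (P : Sylow 7 G) : Nat.card (P : Subgroup G) = 7 := by
  simpa using card_sylow_subgroup_of_card_eq (card7 h) (by norm_num) P

theorem card_sylow3 (h : Nat.card G = 168) (P : Sylow 3 G) : Nat.card (P : Subgroup G) = 3 := by
  simpa using card_sylow_subgroup_of_card_eq (card3 h) (by norm_num) P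

theorem card_sylow2 (h : Nat.card G = 168) (P : Sylow 2 G) : Nat.card (P : Subgroup G) = 8 := by
  simpa using card_sylow_subgroup_of_card_eq (card2 h) (by norm_num) P

/-- no proper subgroup of index `≤ 6`. -/
theorem index_ge (h : Nat.card G = 168) (H : Subgroup G) (hH : H ≠ ⊤) : 7 ≤ H.index := by
  have hdvd := two_mul_card_dvd_factorial_index (not_comm h) H hH
  rw [h] at hdvd
  by_contra hlt
  push Not at hlt
  have h6 : (H.index).factorial ∣ (6).factorial := Nat.factorial_dvd_factorial (by omega)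
  have := hdvd.trans h6
  norm_num [Nat.factorial] at this

theorem n7 (h : Nat.card G = 168) : Nat.card (Sylow 7 G) = 8 := by
  have hdvd : Nat.card (Sylow 7 G) ∣ 24 := card_sylow_dvd_of_card_eq (card7 h) (by norm_num)
  have hmod : Nat.card (Sylow 7 G) ≡ 1 [MOD 7] := card_sylow_modEq_one 7 G
  have hne1 : Nat.card (Sylow 7 G) ≠ 1 :=
    card_sylow_ne_one_of_simple (card7 h) (by norm_num) (by norm_num) (by norm_num)
  have hmem : Nat.card (Sylow 7 G) ∈ Nat.divisors 24 := Nat.mem_divisors.mpr ⟨hdvd, by norm_num⟩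
  have key : ∀ n ∈ Nat.divisors 24, n % 7 = 1 → n ≠ 1 → n = 8 := by decide
  exact key _ hmem hmod hne1

theorem card_normalizer7 (h : Nat.card G = 168) (P : Sylow 7 G) :
    Nat.card (normalizer ((P : Subgroup G) : Set G)) = 21 := by
  have := card_normalizer_mul_card_sylow P
  rw [n7 h, h] at this
  omega

theorem card_centralizer7 (h : Nat.card G = 168) (P : Sylow 7 G) :
    Nat.card (centralizer ((P : Subgroup G) : Set G)) = 7 := by
  obtain ⟨h1, h2⟩ := relIndex_dvd_of_card_sylow_prime P (card_sylow7 h P)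
  have hne : ¬ (normalizer ((P : Subgroup G) : Set G) ≤ centralizer ((P : Subgroup G) : Set G)) :=
    not_normalizer_le_centralizer_of_simple P (by rw [card_sylow7 h P]; norm_num)
      (by rw [card_sylow7 h P, h]; norm_num)
  have hmul := card_centralizer_mul_relIndex (P : Subgroup G)
  rw [card_normalizer7 h P] at hmul h2
  set d := (centralizer ((P : Subgroup G) : Set G)).relIndex (normalizer ((P : Subgroup G) : Set G))
    with hd
  have hd1 : d ≠ 1 := fun h => hne (relIndex_eq_one.mp h)
  have hd3 : d ∣ 3 := by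
    have : 7 * d ∣ 7 * 3 := by simpa using h2
    exact (Nat.mul_dvd_mul_iff_left (by norm_num)).mp this
  have hd3' : d = 3 := by
    rcases (Nat.dvd_prime Nat.prime_three).mp hd3 with h | h
    · exact absurd h hd1
    · exact h
  rw [hd3'] at hmul
  omega

theorem centralizer7_eq (h : Nat.card G = 168) (P : Sylow 7 G) :
    centralizer ((P : Subgroup G) : Set G) = (P : Subgroup G) := by
  have hp : (Nat.card (P : Subgroup G)).Prime := by rw [card_sylow7 h P]; norm_num
  haveI : Fact (Nat.card (P : Subgroup G)).Prime := ⟨hp⟩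
  haveI hcyc : IsCyclic (P : Subgroup G) := isCyclic_of_prime_card rfl
  haveI : IsMulCommutative (P : Subgroup G) := ⟨⟨fun a b => by
      let _ := hcyc.commGroup; exact mul_comm a b⟩⟩
  have hle : (P : Subgroup G) ≤ centralizer ((P : Subgroup G) : Set G) := Subgroup.le_centralizer _
  exact (Subgroup.eq_of_le_of_card_ge hle (by rw [card_centralizer7 h P, card_sylow7 h P])).symm

/-- A subgroup of order 3 is (the carrier of) a Sylow 3-subgroup. -/
theorem exists_sylow3_eq (h : Nat.card G = 168) (y : G) (hy : orderOf y = 3) :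
    ∃ Q : Sylow 3 G, (Q : Subgroup G) = zpowers y := by
  have hcard : Nat.card (zpowers y) = 3 ^ 1 := by rw [Nat.card_zpowers, hy]; norm_num
  obtain ⟨Q, hQ⟩ := (IsPGroup.of_card hcard).exists_le_sylow
  refine ⟨Q, (Subgroup.eq_of_le_of_card_ge hQ ?_).symm⟩
  rw [card_sylow3 h Q, hcard]; norm_num

theorem n3_ne_7 (h : Nat.card G = 168) : Nat.card (Sylow 3 G) ≠ 7 := by
  intro h7
  obtain ⟨P7⟩ : Nonempty (Sylow 7 G) := inferInstance
  have hP7card := card_sylow7 h P7
  set B := normalizer ((P7 : Subgroup G) : Set G) with hB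
  have hBcard : Nat.card B = 21 := card_normalizer7 h P7
  have hC := centralizer7_eq h P7
  -- element of order 3 in B
  obtain ⟨y, hy⟩ := exists_prime_orderOf_dvd_card' (G := B) 3 (by rw [hBcard]; norm_num)
  have hy' : orderOf (y : G) = 3 := by rw [Subgroup.orderOf_coe]; exact hy
  obtain ⟨Q, hQ⟩ := exists_sylow3_eq h (y : G) hy'
  have hyQ : (y : G) ∈ (Q : Subgroup G) := by rw [hQ]; exact mem_zpowers _
  have hQB : (Q : Subgroup G) ≤ B := by rw [hQ, zpowers_le]; exact y.2
  have hinf : (P7 : Subgroup G) ⊓ (Q : Subgroup G) = ⊥ :=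
    disjoint_iff.mp (Subgroup.disjoint_of_coprime_natCard (by rw [hP7card, card_sylow3 h Q]; norm_num))
  -- the stabilizer of Q in P7
  have hprime : (Nat.card (P7 : Subgroup G)).Prime := by rw [hP7card]; norm_num
  haveI : Fact (Nat.card (P7 : Subgroup G)).Prime := ⟨hprime⟩
  have hstab : stabilizer (P7 : Subgroup G) Q = ⊥ := by
    rcases Subgroup.eq_bot_or_eq_top_of_prime_card (stabilizer (P7 : Subgroup G) Q) with h0 | h0
    · exact h0
    · exfalso
      -- every x ∈ P7 normalizes Q
      have hnorm : ∀ x ∈ (P7 : Subgroup G), x ∈ normalizer ((Q : Subgroup G) : Set G) := by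
        intro x hx
        have : (⟨x, hx⟩ : (P7 : Subgroup G)) ∈ stabilizer (P7 : Subgroup G) Q := h0 ▸ mem_top _
        rw [mem_stabilizer_iff] at this
        exact Sylow.smul_eq_iff_mem_normalizer.mp this
      have hcomm : ∀ x ∈ (P7 : Subgroup G), x * (y : G) = (y : G) * x := by
        intro x hx
        have h1 : x * (y : G) * x⁻¹ * (y : G)⁻¹ ∈ (Q : Subgroup G) :=
          mul_mem ((mem_normalizer_iff.mp (hnorm x hx) _).mp hyQ) (inv_mem hyQ)
        have h2 : x * (y : G) * x⁻¹ * (y : G)⁻¹ ∈ (P7 : Subgroup G) := by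
          have : (y : G) * x⁻¹ * (y : G)⁻¹ ∈ (P7 : Subgroup G) :=
            (mem_normalizer_iff.mp y.2 _).mp (inv_mem hx)
          have := mul_mem hx this
          simpa [mul_assoc] using this
        have h3 : x * (y : G) * x⁻¹ * (y : G)⁻¹ ∈ (P7 : Subgroup G) ⊓ (Q : Subgroup G) :=
          mem_inf.mpr ⟨h2, h1⟩
        rw [hinf, mem_bot] at h3
        calc x * (y : G) = (x * (y : G) * x⁻¹ * (y : G)⁻¹) * ((y : G) * x) := by group
          _ = (y : G) * x := by rw [h3, one_mul]
      have hyC : (y : G) ∈ centralizer ((P7 : Subgroup G) : Set G) := by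
        rw [mem_centralizer_iff]
        intro x hx
        exact hcomm x hx
      rw [hC] at hyC
      have : (y : G) ∈ (P7 : Subgroup G) ⊓ (Q : Subgroup G) := mem_inf.mpr ⟨hyC, hyQ⟩
      rw [hinf, mem_bot] at this
      rw [this, orderOf_one] at hy'
      omega
  have horb : (orbit (P7 : Subgroup G) Q).ncard = 7 := by
    rw [← index_stabilizer, hstab, index_bot, hP7card]
  have huniv : orbit (P7 : Subgroup G) Q = Set.univ := by
    rw [Set.eq_univ_iff_ncard, horb, h7]
  -- every Sylow 3-subgroup lies in B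
  have hall : ∀ Q' : Sylow 3 G, (Q' : Subgroup G) ≤ B := by
    intro Q'
    have : Q' ∈ orbit (P7 : Subgroup G) Q := huniv ▸ Set.mem_univ _
    obtain ⟨x, rfl⟩ := this
    intro z hz
    have hz' : z ∈ (((x : G) • Q : Sylow 3 G) : Subgroup G) := hz
    rw [Sylow.coe_subgroup_smul, Subgroup.mem_pointwise_smul_iff_inv_smul_mem] at hz'
    have hz'' : (x : G)⁻¹ * z * (x : G) ∈ (Q : Subgroup G) := by
      simpa [MulAut.smul_def] using hz'
    have hxB : (x : G) ∈ B := le_normalizer x.2
    have := mul_mem (mul_mem hxB (hQB hz'')) (inv_mem hxB)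
    simpa [mul_assoc] using this
  -- so y lies in the normal core of B
  have hcore : (y : G) ∈ B.normalCore := by
    intro g
    have h1 := hall (g • Q)
    apply h1
    rw [Sylow.coe_subgroup_smul, Subgroup.mem_pointwise_smul_iff_inv_smul_mem]
    simpa [MulAut.smul_def, mul_assoc] using hyQ
  rcases (inferInstance : (B.normalCore).Normal).eq_bot_or_eq_top with h0 | h0
  · rw [h0, mem_bot] at hcore
    rw [hcore, orderOf_one] at hy'
    omega
  · have hle : B.normalCore ≤ B := normalCore_le B
    rw [h0, top_le_iff] at hle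
    have : Nat.card B = Nat.card G := by rw [hle, Subgroup.card_top]
    rw [hBcard, h] at this
    omega

theorem n3 (h : Nat.card G = 168) : Nat.card (Sylow 3 G) = 28 := by
  have hdvd : Nat.card (Sylow 3 G) ∣ 56 := card_sylow_dvd_of_card_eq (card3 h) (by norm_num)
  have hmod : Nat.card (Sylow 3 G) ≡ 1 [MOD 3] := card_sylow_modEq_one 3 G
  have hne1 : Nat.card (Sylow 3 G) ≠ 1 :=
    card_sylow_ne_one_of_simple (card3 h) (by norm_num) (by norm_num) (by norm_num)
  have hne7 := n3_ne_7 h
  have hne4 : Nat.card (Sylow 3 G) ≠ 4 := by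
    intro h4
    obtain ⟨P⟩ : Nonempty (Sylow 3 G) := inferInstance
    have hidx : Nat.card (Sylow 3 G) = (normalizer ((P : Subgroup G) : Set G)).index :=
      P.card_eq_index_normalizer
    have hlt := index_ge h (normalizer ((P : Subgroup G) : Set G)) (by
      intro htop
      rw [htop, index_top] at hidx
      omega)
    omega
  have hmem : Nat.card (Sylow 3 G) ∈ Nat.divisors 56 := Nat.mem_divisors.mpr ⟨hdvd, by norm_num⟩
  have key : ∀ n ∈ Nat.divisors 56, n % 3 = 1 → n ≠ 1 → n ≠ 4 → n ≠ 7 → n = 28 := by decide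
  exact key _ hmem hmod hne1 hne4 hne7

theorem card_normalizer3 (h : Nat.card G = 168) (P : Sylow 3 G) :
    Nat.card (normalizer ((P : Subgroup G) : Set G)) = 6 := by
  have := card_normalizer_mul_card_sylow P
  rw [n3 h, h] at this
  omega

theorem card_centralizer3 (h : Nat.card G = 168) (P : Sylow 3 G) :
    Nat.card (centralizer ((P : Subgroup G) : Set G)) = 3 := by
  obtain ⟨h1, h2⟩ := relIndex_dvd_of_card_sylow_prime P (card_sylow3 h P)
  have hne : ¬ (normalizer ((P : Subgroup G) : Set G) ≤ centralizer ((P : Subgroup G) : Set G)) :=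
    not_normalizer_le_centralizer_of_simple P (by rw [card_sylow3 h P]; norm_num)
      (by rw [card_sylow3 h P, h]; norm_num)
  have hmul := card_centralizer_mul_relIndex (P : Subgroup G)
  rw [card_normalizer3 h P] at hmul h2
  set d := (centralizer ((P : Subgroup G) : Set G)).relIndex (normalizer ((P : Subgroup G) : Set G))
    with hd
  have hd1 : d ≠ 1 := fun h => hne (relIndex_eq_one.mp h)
  have hd2 : d ∣ 2 := by simpa using h1
  have hd2' : d = 2 := by
    rcases (Nat.dvd_prime Nat.prime_two).mp hd2 with h | h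
    · exact absurd h hd1
    · exact h
  rw [hd2'] at hmul
  omega

theorem n2_ne_7 (h : Nat.card G = 168) : Nat.card (Sylow 2 G) ≠ 7 := by
  intro h7
  obtain ⟨T⟩ : Nonempty (Sylow 2 G) := inferInstance
  set M := normalizer ((T : Subgroup G) : Set G) with hM
  have hMcard : Nat.card M = 24 := by
    have : Nat.card M * Nat.card (Sylow 2 G) = Nat.card G := card_normalizer_mul_card_sylow T
    rw [h7, h] at this
    omega
  obtain ⟨y, hy⟩ := exists_prime_orderOf_dvd_card' (G := M) 3 (by rw [hMcard]; norm_num)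
  have hy' : orderOf (y : G) = 3 := by rw [Subgroup.orderOf_coe]; exact hy
  obtain ⟨Q, hQ⟩ := exists_sylow3_eq h (y : G) hy'
  have hQM : (Q : Subgroup G) ≤ M := by rw [hQ, zpowers_le]; exact y.2
  obtain ⟨t, htT, ht1, htQ⟩ := exists_ne_one_commute_of_not_modEq (p := 3) (Q : Subgroup G)
    (T : Subgroup G) Q.2 hQM (by rw [card_sylow2 h T]; decide)
  have htC : t ∈ centralizer ((Q : Subgroup G) : Set G) := by
    rw [mem_centralizer_iff]
    intro q hq
    exact htQ q hq
  have h3 : orderOf t ∣ 3 := by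
    have := orderOf_dvd_natCard (⟨t, htC⟩ : centralizer ((Q : Subgroup G) : Set G))
    rwa [card_centralizer3 h Q, Subgroup.orderOf_mk] at this
  have h8 : orderOf t ∣ 8 := by
    have := orderOf_dvd_natCard (⟨t, htT⟩ : (T : Subgroup G))
    rwa [card_sylow2 h T, Subgroup.orderOf_mk] at this
  have h1 : orderOf t ∣ Nat.gcd 3 8 := Nat.dvd_gcd h3 h8
  norm_num at h1
  exact ht1 h1

theorem n2 (h : Nat.card G = 168) : Nat.card (Sylow 2 G) = 21 := by
  have hdvd : Nat.card (Sylow 2 G) ∣ 21 := card_sylow_dvd_of_card_eq (card2 h) (by norm_num)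
  have hne1 : Nat.card (Sylow 2 G) ≠ 1 :=
    card_sylow_ne_one_of_simple (card2 h) (by norm_num) (by norm_num) (by norm_num)
  have hne7 := n2_ne_7 h
  have hne3 : Nat.card (Sylow 2 G) ≠ 3 := by
    intro h4
    obtain ⟨P⟩ : Nonempty (Sylow 2 G) := inferInstance
    have hidx : Nat.card (Sylow 2 G) = (normalizer ((P : Subgroup G) : Set G)).index :=
      P.card_eq_index_normalizer
    have hlt := index_ge h (normalizer ((P : Subgroup G) : Set G)) (by
      intro htop
      rw [htop, index_top] at hidx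
      omega)
    omega
  have hmem : Nat.card (Sylow 2 G) ∈ Nat.divisors 21 := Nat.mem_divisors.mpr ⟨hdvd, by norm_num⟩
  have key : ∀ n ∈ Nat.divisors 21, n ≠ 1 → n ≠ 3 → n ≠ 7 → n = 21 := by decide
  exact key _ hmem hne1 hne3 hne7

end Cfsg.Agent.Helper17.G168
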