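import Mathlib
import Cfsg.Agent.Helper70.Syl1
import Cfsg.Agent.Helper17.Orbits

set_option autoImplicit false
set_option linter.style.haveILetI false
set_option linter.unusedSectionVars false

/-!
# Elements centralizing a Sylow subgroup of prime order, acting on the Sylow subgroups

If `|P| = p`, `n_p = 1 + p q` and the conjugation action on `Syl_p(G)` is faithful, then a
`q`-subgroup of `C_G(P)` has order dividing `p q`.
-/

namespace Cfsg.Agent.Helper17

open scoped Classical
open Subgroup

variable {G : Type*} [Group G] [Finite G] {p : ℕ} [hp : Fact p.Prime]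

/-- The Sylow `p`-subgroups normalized by `c`. -/
noncomputable def fixSyl (p : ℕ) [Fact p.Prime] (c : G) : Finset (Sylow p G) :=
  haveI : Fintype (Sylow p G) := Fintype.ofFinite _
  Finset.univ.filter (fun R : Sylow p G => c • R = R)

theorem mem_fixSyl {c : G} {R : Sylow p G} : R ∈ fixSyl p c ↔ c • R = R := by
  simp [fixSyl]

theorem fixSyl_invariant (P : Sylow p G) (c : G) (hc : c ∈ centralizer ((P : Subgroup G) : Set G)) :
    ∀ g ∈ P, ∀ R ∈ fixSyl p c, g • R ∈ fixSyl p c := by
  intro g hg R hR
  rw [mem_fixSyl] at *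
  have hcomm : g * c = c * g := hc g hg
  rw [← mul_smul, ← hcomm, mul_smul, hR]

theorem self_mem_fixSyl (P : Sylow p G) (c : G) (hc : c ∈ centralizer ((P : Subgroup G) : Set G)) :
    P ∈ fixSyl p c := by
  rw [mem_fixSyl, Sylow.smul_eq_iff_mem_normalizer]
  exact Subgroup.centralizer_le_normalizer _ hc

theorem card_fixSyl_modEq_one (P : Sylow p G) (c : G)
    (hc : c ∈ centralizer ((P : Subgroup G) : Set G)) : (fixSyl p c).card ≡ 1 [MOD p] := by
  have h1 := Helper70.Syl.card_modEq_of_invariant P (fixSyl p c) (fixSyl_invariant P c hc)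
  rwa [if_pos (self_mem_fixSyl P c hc)] at h1

theorem card_fixSyl_le (c : G) : (fixSyl p c).card ≤ Nat.card (Sylow p G) := by
  letI : Fintype (Sylow p G) := Fintype.ofFinite _
  rw [Nat.card_eq_fintype_card]
  exact Finset.card_le_univ _

theorem smul_pow_eq' (c : G) (R : Sylow p G) (h : c • R = R) (k : ℕ) : c ^ k • R = R := by
  induction k with
  | zero => simp
  | succ k ih => rw [pow_succ, mul_smul, h, ih]

theorem card_fixSyl_modEq_card (c : G) {q : ℕ} [hq : Fact q.Prime] (hc : orderOf c = q) :
    Nat.card (Sylow p G) ≡ (fixSyl p c).card [MOD q] := by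
  letI : Fintype (Sylow p G) := Fintype.ofFinite _
  have hZ : IsPGroup q (Subgroup.zpowers c) := by
    apply IsPGroup.of_card (n := 1)
    rw [Nat.card_zpowers, hc, pow_one]
  have hcong := Helper70.PCount.card_modEq_card_fixed (p := q) hZ
    (Finset.univ : Finset (Sylow p G)) (fun _ _ _ => Finset.mem_univ _)
  have hfe : (Finset.univ : Finset (Sylow p G)).filter
      (fun R => ∀ g : Subgroup.zpowers c, g • R = R) = fixSyl p c := by
    ext R
    rw [Finset.mem_filter, mem_fixSyl]
    constructor
    · rintro ⟨-, h⟩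
      exact h ⟨c, Subgroup.mem_zpowers c⟩
    · intro h
      refine ⟨Finset.mem_univ _, ?_⟩
      rintro ⟨g, hg⟩
      obtain ⟨k, rfl⟩ := Subgroup.mem_zpowers_iff.mp hg
      rw [Subgroup.smul_def]
      show c ^ k • R = R
      have hstab : c ∈ MulAction.stabilizer G R := h
      exact zpow_mem hstab k
  rw [hfe, Finset.card_univ, ← Nat.card_eq_fintype_card] at hcong
  exact hcong

theorem eq_one_of_card_fixSyl [IsSimpleGroup G] (h1 : Nat.card (Sylow p G) ≠ 1) (c : G)
    (h : (fixSyl p c).card = Nat.card (Sylow p G)) : c = 1 := by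
  apply Helper70.Syl.eq_one_of_forall_smul_eq (p := p) h1
  intro R
  letI : Fintype (Sylow p G) := Fintype.ofFinite _
  rw [← mem_fixSyl]
  have : fixSyl p c = Finset.univ := by
    rw [← Finset.card_eq_iff_eq_univ, h, Nat.card_eq_fintype_card]
  rw [this]
  exact Finset.mem_univ R

/-- An element of prime order `q` centralizing `P`, when `n_p = 1 + p q`, normalizes only `P`. -/
theorem fixSyl_eq_singleton [IsSimpleGroup G] (P : Sylow p G) {q : ℕ} [hq : Fact q.Prime]
    (hqp : q ≠ p) (hn : Nat.card (Sylow p G) = 1 + p * q) (c : G)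
    (hc : c ∈ centralizer ((P : Subgroup G) : Set G)) (hcq : orderOf c = q) :
    fixSyl p c = {P} := by
  have h1 := card_fixSyl_modEq_one P c hc
  have h2 := card_fixSyl_modEq_card (p := p) c hcq
  have h3 := card_fixSyl_le (p := p) c
  have hcop : Nat.Coprime p q := (Nat.coprime_primes hp.out hq.out).mpr (Ne.symm hqp)
  have hppos : 0 < p := hp.out.pos
  have hqpos : 0 < q := hq.out.pos
  rw [hn] at h2 h3
  have h2' : (fixSyl p c).card ≡ 1 [MOD q] := by
    refine h2.symm.trans ?_
    have : (1 + p * q) % q = 1 % q := by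
      rw [Nat.add_mul_mod_self_right]
    exact this
  have h4 : (fixSyl p c).card ≡ 1 [MOD p * q] :=
    (Nat.modEq_and_modEq_iff_modEq_mul hcop).mp ⟨h1, h2'⟩
  have hne : (fixSyl p c).card ≠ 1 + p * q := by
    intro h
    have := eq_one_of_card_fixSyl (p := p) (by rw [hn]; have := Nat.mul_pos hppos hqpos; omega) c
      (by rw [h, hn])
    rw [this, orderOf_one] at hcq
    exact hq.out.one_lt.ne hcq
  have hpos : 0 < (fixSyl p c).card := Finset.card_pos.mpr ⟨P, self_mem_fixSyl P c hc⟩
  have hcard : (fixSyl p c).card = 1 := by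
    have hd : p * q ∣ (fixSyl p c).card - 1 := (Nat.modEq_iff_dvd' hpos).mp h4.symm
    obtain ⟨k, hk⟩ := hd
    have hpq : 0 < p * q := Nat.mul_pos hppos hqpos
    rcases Nat.eq_zero_or_pos k with rfl | hkpos
    · omega
    · exfalso
      have hk1 : k = 1 := by
        by_contra hk1
        have : 2 ≤ k := by omega
        have : p * q * 2 ≤ p * q * k := Nat.mul_le_mul_left _ this
        omega
      subst hk1
      omega
  obtain ⟨R, hR⟩ := Finset.card_eq_one.mp hcard
  have := self_mem_fixSyl P c hc
  rw [hR, Finset.mem_singleton] at this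
  rw [hR, this]

/-- **Lemma R.** If `|P| = p`-Sylow with `n_p = 1 + p q` in a simple group, a `q`-subgroup of
`C_G(P)` has order dividing `p q`. -/
theorem card_dvd_of_le_centralizer_sylow [IsSimpleGroup G] (P : Sylow p G) {q : ℕ}
    [hq : Fact q.Prime] (hqp : q ≠ p) (hn : Nat.card (Sylow p G) = 1 + p * q) (W : Subgroup G)
    (hW : IsPGroup q W) (hWC : W ≤ centralizer ((P : Subgroup G) : Set G)) :
    Nat.card W ∣ p * q := by
  by_cases hW1 : Nat.card W = 1
  · rw [hW1]; exact one_dvd _
  -- stabilizers of points other than `P` are trivial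
  have hstab : ∀ (w : W) (R : Sylow p G), w • R = R → R ≠ P → w = 1 := by
    intro w R hwR hRP
    by_contra hw1
    obtain ⟨k, hk⟩ := hW w
    have hord : orderOf w ∣ q ^ k := orderOf_dvd_of_pow_eq_one hk
    obtain ⟨j, hj, hjo⟩ := (Nat.dvd_prime_pow hq.out).mp hord
    have hj0 : j ≠ 0 := by
      rintro rfl
      rw [pow_zero, orderOf_eq_one_iff] at hjo
      exact hw1 hjo
    -- `c = w ^ (q ^ (j - 1))` has order `q`
    set c : W := w ^ (q ^ (j - 1)) with hcdef
    have hcq : orderOf c = q := by
      rw [hcdef, orderOf_pow' _ (pow_ne_zero _ hq.out.ne_zero), hjo,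
        Nat.gcd_eq_right (pow_dvd_pow q (Nat.sub_le j 1))]
      have : q ^ j = q ^ (j - 1) * q := by
        rw [← pow_succ]; congr 1; omega
      rw [this, Nat.mul_div_cancel_left _ (pow_pos hq.out.pos _)]
    have hcq' : orderOf (c : G) = q := by rw [Subgroup.orderOf_coe, hcq]
    have hcC : (c : G) ∈ centralizer ((P : Subgroup G) : Set G) := hWC c.2
    have hfix := fixSyl_eq_singleton P hqp hn (c : G) hcC hcq'
    have hcR : (c : G) • R = R := by
      have hwR' : (w : G) • R = R := hwR
      rw [hcdef, Subgroup.coe_pow]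
      exact smul_pow_eq' _ R hwR' _
    have : R ∈ fixSyl p (c : G) := mem_fixSyl.mpr hcR
    rw [hfix, Finset.mem_singleton] at this
    exact hRP this
  have hPfix : P ∈ MulAction.fixedPoints W (Sylow p G) := by
    intro w
    rw [Subgroup.smul_def, Sylow.smul_eq_iff_mem_normalizer]
    exact Subgroup.centralizer_le_normalizer _ (hWC w.2)
  have hfixed : ∀ R : Sylow p G, R ∈ MulAction.fixedPoints W (Sylow p G) → R = P := by
    intro R hR
    by_contra hRP
    apply hW1
    have : ∀ w : W, w = 1 := fun w => hstab w R (hR w) hRP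
    haveI : Subsingleton W := ⟨fun a b => by rw [this a, this b]⟩
    exact Nat.card_unique
  have hcong := card_modEq_card_fixedPoints_of_dvd_orbit (P := W) (X := Sylow p G)
    (Nat.card W) hW1 (by
      intro R hR
      have hRP : R ≠ P := fun h => hR (h ▸ hPfix)
      have hst : MulAction.stabilizer W R = ⊥ := by
        rw [Subgroup.eq_bot_iff_forall]
        intro w hw
        exact hstab w R hw hRP
      have := MulAction.index_stabilizer W R
      rw [hst, Subgroup.index_bot] at this
      rw [Nat.card_coe_set_eq, ← this])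
  have hfp : Nat.card (MulAction.fixedPoints W (Sylow p G)) = 1 := by
    rw [Nat.card_eq_one_iff_unique]
    refine ⟨⟨fun a b => Subtype.ext ?_⟩, ⟨⟨P, hPfix⟩⟩⟩
    rw [hfixed a.1 a.2, hfixed b.1 b.2]
  rw [hfp, hn] at hcong
  have := (Nat.modEq_iff_dvd' (by omega : 1 ≤ 1 + p * q)).mp hcong.symm
  simpa using this

end Cfsg.Agent.Helper17
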