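import Mathlib
import Cfsg.Prelude.Def_Characters
import Cfsg.Prelude.Def_Blocks

set_option autoImplicit false

/-! # S1022: no simple group of order 459648 = 2^7·3^3·7·19 (definitions)

`BrauerData` is the conclusion of S4441 (Brauer's theorem on the principal block for a Sylow
subgroup of prime order) at the prime 19, packaged as a proposition on `X Y εX ε`. -/

namespace Cfsg.Agent.Helper17.O459

open Cfsg Subgroup

universe u

/-- The conclusion of S4441 for a group `G`, the prime 19, a Sylow subgroup `P` and `e`. -/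
def BrauerData (G : Type u) [Group G] (M : Ideal AlgInt) (P : Sylow 19 G) (e : ℕ)
    (X Y : Set (IrrCharacter G)) (εX : IrrCharacter G → ℤ) (ε : ℤ) : Prop :=
  principalBlock M G = X ∪ Y ∧ Disjoint X Y ∧ Nat.card X = e ∧ Nat.card Y = (19 - 1) / e ∧
  (∀ χ ∈ X, (εX χ = 1 ∨ εX χ = -1) ∧ (charDegree (χ : G → ℂ) : ℤ) ≡ εX χ [ZMOD 19] ∧
    ∀ x : G, x ∈ (P : Subgroup G) → x ≠ 1 → ∀ y : G,
      y ∈ centralizer ((P : Subgroup G) : Set G) → ¬ 19 ∣ orderOf y →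
      (χ : G → ℂ) (x * y) = (εX χ : ℂ)) ∧
  (ε = 1 ∨ ε = -1) ∧
  (∀ θ ∈ Y, (charDegree (θ : G → ℂ) : ℤ) ≡ ε * (e : ℤ) [ZMOD 19]) ∧
  (∀ θ ∈ Y, ∀ θ' ∈ Y, ∀ g : G, ¬ 19 ∣ orderOf g → (θ : G → ℂ) g = (θ' : G → ℂ) g) ∧
  ∀ θ ∈ Y, ∀ g : G, ¬ 19 ∣ orderOf g →
    (ε : ℂ) * (θ : G → ℂ) g = ∑ᶠ χ ∈ X, (εX χ : ℂ) * (χ : G → ℂ) g

/-- the divisors of `24192 = 2^7·3^3·7` that are `≡ 1 (mod 19)`. -/
theorem divisors_arith : ∀ n ∈ Nat.divisors 24192, n % 19 = 1 → n = 1 ∨ n = 96 ∨ n = 1008 := by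
  decide +kernel

end Cfsg.Agent.Helper17.O459
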