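import Cfsg.Agent.Helper57.BP.PartI

/-!
# S4705 piece (P02) (helper17 for helper16): an exceptional character of degree `p - 2` with `P`
not in its centre has `δ = -1`.
-/

set_option autoImplicit false

namespace Cfsg.Agent.Helper17.B66

open Cfsg Cfsg.Agent.Helper16 Cfsg.Agent.Helper16.DefOne Cfsg.Agent.Helper82.DefOne
  Cfsg.Agent.Helper77.DefOne Cfsg.Agent.Helper57.BH Cfsg.Agent.Helper57.BP
open scoped ComplexConjugate

universe u

variable {G : Type u} [Group G] [Fintype G] {p : ℕ} [Fact p.Prime] (P : Sylow p G)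

open Classical in
/-- (P02) an exceptional character of degree `p - 2` with `P` not in its centre has `δ = -1` -/
theorem delta_eq_neg_one (hP : Nat.card P = p) [((P : Subgroup G).subgroupOf (nor P)).Normal]
    (hmod : ModCount p P) (hp5 : 5 < p) (θ : IrrCharacter (cen P)) (hθ : IsCanon P θ)
    {X Y : Set (IrrCharacter G)} {ε : IrrCharacter G → ℤ} {δ : ℤ} (D : IsRData P θ X Y ε δ)
    (ψ : IrrCharacter G) (hψ : ψ ∈ Y) (hdeg : charDegree (ψ : G → ℂ) = p - 2)
    (hnc : ∃ x : G, x ∈ (P : Subgroup G) ∧ x ∉ Helper74.charCenter ψ) : δ = -1 := by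
  rcases D.del with hδ | hδ
  swap
  · exact hδ
  exfalso
  obtain ⟨x, hx, hxc⟩ := hnc
  apply hxc
  obtain ⟨φ₀, h1, h2, hrow0⟩ := D.rowY ψ hψ
  have hrow := rowZ_eq_of_mem_Y P hP hmod θ hθ D ψ hψ φ₀ h1 h2 hrow0
  obtain ⟨hdeg', hsum⟩ :=
    orbitSum_of_mem_Y P hP hmod θ hθ D ψ hψ φ₀ h1 h2 hrow hδ (by omega)
  -- `f ∣ p - 1` and `f ∣ p - 2`, so `f = 1`
  have hf1 : (cen P).relIndex (nor P) = 1 := by
    have hd1 : (cen P).relIndex (nor P) ∣ p - 1 := relIndex_cen_nor_dvd P hP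
    have hd2 : (cen P).relIndex (nor P) ∣ p - 2 := by
      rw [← hdeg, hdeg']
      exact dvd_mul_right _ _
    have hd3 : (cen P).relIndex (nor P) ∣ (p - 1) - (p - 2) := Nat.dvd_sub hd1 hd2
    have : (p - 1) - (p - 2) = 1 := by omega
    rw [this] at hd3
    exact Nat.dvd_one.mp hd3
  -- `N = C`: `ψ|_C = φ₀`
  have hle : nor P ≤ cen P := Subgroup.relIndex_eq_one.mp hf1
  have horb : MulAction.orbit (nor P) φ₀ = {φ₀} := by
    ext φ
    constructor
    · rintro ⟨n, rfl⟩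
      exact smul_eq_of_mem_cen P n φ₀ (hle n.2)
    · intro h
      rw [Set.mem_singleton_iff] at h
      rw [h]
      exact MulAction.mem_orbit_self _
  have hval : ∀ c : cen P, (ψ : G → ℂ) (c : G) = (φ₀ : cen P → ℂ) c := by
    intro c
    rw [hsum c, horb, finsum_mem_singleton]
  have hxc' : (⟨x, le_cen P hP hx⟩ : cen P) ∈ Helper74.charCenter φ₀ := by
    apply Helper74.center_le_charCenter φ₀
    apply subgroupOf_cen_le_center P hP
    rw [Subgroup.mem_subgroupOf]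
    exact hx
  rw [Helper74.mem_charCenter_iff] at hxc' ⊢
  have e1 := hval ⟨x, le_cen P hP hx⟩
  have e2 := hval 1
  rw [Subgroup.coe_one, Helper79.irr_one, Helper79.irr_one] at e2
  have e3 : charDegree (ψ : G → ℂ) = charDegree (φ₀ : cen P → ℂ) := by exact_mod_cast e2
  show ‖(ψ : G → ℂ) x‖ = _
  rw [show (ψ : G → ℂ) x = (φ₀ : cen P → ℂ) ⟨x, le_cen P hP hx⟩ from e1, hxc', e3]

end Cfsg.Agent.Helper17.B66
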