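import Mathlib
import Cfsg.Agent.Helper17.SylowKit

/-!
# (G6) for S0984 / LOC (helper17 for helper85): the Klein case is impossible.
-/

set_option autoImplicit false

namespace Cfsg.Agent.Helper17.A7

open Subgroup

universe u

theorem orderOf_conj_eq {X : Type*} [Group X] (g x : X) : orderOf (g * x * g⁻¹) = orderOf x := by
  have := orderOf_injective (MulAut.conj g).toMonoidHom (MulAut.conj g).injective x
  simpa [MulAut.conj_apply] using this

/-- If `p ^ 2 ∤ |H|`, two elements of order `p` generate conjugate subgroups. -/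
theorem exists_conj_mem_zpowers_of_not_sq_dvd {H : Type*} [Group H] [Finite H] {p : ℕ}
    [Fact p.Prime] (hH : ¬ p ^ 2 ∣ Nat.card H) (y1 y2 : H) (h1 : orderOf y1 = p)
    (h2 : orderOf y2 = p) : ∃ h : H, h * y1 * h⁻¹ ∈ zpowers y2 := by
  have hp : p.Prime := Fact.out
  have hne : Nat.card H ≠ 0 := Nat.card_pos.ne'
  have hf : (Nat.card H).factorization p = 1 := by
    have h1' : p ^ 1 ∣ Nat.card H := by
      rw [pow_one, ← h1]; exact orderOf_dvd_natCard y1
    have ha := (hp.pow_dvd_iff_le_factorization hne).1 h1'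
    have hb : ¬ 2 ≤ (Nat.card H).factorization p := fun h =>
      hH ((hp.pow_dvd_iff_le_factorization hne).2 h)
    omega
  let Q1 : Sylow p H := Sylow.ofCard (zpowers y1) (by rw [Nat.card_zpowers, h1, hf, pow_one])
  let Q2 : Sylow p H := Sylow.ofCard (zpowers y2) (by rw [Nat.card_zpowers, h2, hf, pow_one])
  obtain ⟨h, hh⟩ := MulAction.exists_smul_eq H Q1 Q2
  refine ⟨h, ?_⟩
  have hQ2 : (Q2 : Subgroup H) = zpowers y2 := Sylow.coe_ofCard _ _
  have hQ1 : (Q1 : Subgroup H) = zpowers y1 := Sylow.coe_ofCard _ _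
  rw [← hQ2, ← hh, Sylow.coe_subgroup_smul, Subgroup.mem_pointwise_smul_iff_inv_smul_mem]
  have : y1 ∈ (Q1 : Subgroup H) := hQ1 ▸ mem_zpowers y1
  simpa [MulAut.smul_def, mul_assoc] using this

/-- the same inside a subgroup -/
theorem exists_conj_mem_zpowers_of_not_sq_dvd' {G : Type*} [Group G] [Finite G] {p : ℕ}
    [Fact p.Prime] (C : Subgroup G) (hC : ¬ p ^ 2 ∣ Nat.card C) (y1 y2 : G) (hy1 : y1 ∈ C)
    (hy2 : y2 ∈ C) (h1 : orderOf y1 = p) (h2 : orderOf y2 = p) :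
    ∃ h ∈ C, h * y1 * h⁻¹ ∈ zpowers y2 := by
  obtain ⟨h, hh⟩ := exists_conj_mem_zpowers_of_not_sq_dvd hC (⟨y1, hy1⟩ : C) ⟨y2, hy2⟩
    (by rw [Subgroup.orderOf_mk]; exact h1) (by rw [Subgroup.orderOf_mk]; exact h2)
  refine ⟨h.1, h.2, ?_⟩
  obtain ⟨k, hk⟩ := Subgroup.mem_zpowers_iff.1 hh
  refine Subgroup.mem_zpowers_iff.2 ⟨k, ?_⟩
  have := congrArg Subtype.val hk
  simpa using this

variable {G : Type u} [Group G]

/-- (G6) the Klein case is impossible -/
theorem klein_case_false [Finite G] [IsSimpleGroup G] (hcard : Nat.card G = 2520)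
    (hinv : ∀ s t : G, orderOf s = 2 → orderOf t = 2 → IsConj s t) (R : Sylow 3 G)
    (hnoinv : ¬ ∃ t : G, orderOf t = 2 ∧ ∀ r ∈ (R : Subgroup G), t * r = r * t)
    (t1 t2 c1 c2 : G) (ht1 : orderOf t1 = 2) (ht2 : orderOf t2 = 2)
    (hc1R : c1 ∈ (R : Subgroup G)) (hc2R : c2 ∈ (R : Subgroup G))
    (hc1 : orderOf c1 = 3) (hc2 : orderOf c2 = 3) (h1 : t1 * c1 = c1 * t1)
    (h2 : t2 * c2 = c2 * t2) (hne : c2 ∉ Subgroup.zpowers c1)
    (hn1 : ∀ n ∈ Subgroup.normalizer ((R : Subgroup G) : Set G),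
      n * c1 * n⁻¹ ∈ Subgroup.zpowers c1) : False := by
  have : Fact (Nat.Prime 3) := ⟨by norm_num⟩
  have hR9 : Nat.card (R : Subgroup G) = 3 ^ 2 :=
    Cfsg.Agent.Helper17.card_sylow_subgroup_of_card_eq (m := 280) (by rw [hcard]; norm_num) (by norm_num) R
  have hRcomm : IsMulCommutative (R : Subgroup G) :=
    IsPGroup.isMulCommutative_of_card_eq_prime_sq hR9
  obtain ⟨g, hg⟩ := isConj_iff.1 (hinv t1 t2 ht1 ht2)
  -- the centralizer of `t2`
  set C : Subgroup G := centralizer {t2} with hCdef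
  have hC9 : ¬ 3 ^ 2 ∣ Nat.card C := by
    intro h9
    obtain ⟨K, hK⟩ := Sylow.exists_subgroup_card_pow_prime 3 h9
    have hK' : Nat.card (K.map C.subtype) = 3 ^ (Nat.card G).factorization 3 := by
      rw [Subgroup.card_map_of_injective C.subtype_injective, hK, ← hR9, R.card_eq_multiplicity]
    let Q : Sylow 3 G := Sylow.ofCard (K.map C.subtype) hK'
    have hQ : (Q : Subgroup G) = K.map C.subtype := Sylow.coe_ofCard _ _
    obtain ⟨h, hh⟩ := MulAction.exists_smul_eq G R Q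
    apply hnoinv
    refine ⟨h⁻¹ * t2 * h, ?_, ?_⟩
    · have := orderOf_conj_eq h⁻¹ t2
      rw [inv_inv] at this
      rw [this, ht2]
    · intro r hr
      have hmem : h * r * h⁻¹ ∈ (Q : Subgroup G) := by
        rw [← hh, Sylow.coe_subgroup_smul, Subgroup.mem_pointwise_smul_iff_inv_smul_mem]
        simpa [MulAut.smul_def, mul_assoc] using hr
      rw [hQ] at hmem
      have hmemC : h * r * h⁻¹ ∈ C := Subgroup.map_subtype_le K hmem
      have hcomm := Subgroup.mem_centralizer_singleton_iff.1 hmemC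
      -- hcomm : h * r * h⁻¹ * t2 = t2 * (h * r * h⁻¹)
      have := congrArg (fun z => h⁻¹ * z * h) hcomm
      simp only [mul_assoc, inv_mul_cancel_left] at this
      simp only [mul_assoc]
      simpa [mul_assoc] using this.symm
  -- the two elements of order 3 in `C`
  have hc2C : c2 ∈ C := Subgroup.mem_centralizer_singleton_iff.2 h2.symm
  have hgc1C : g * c1 * g⁻¹ ∈ C := by
    apply Subgroup.mem_centralizer_singleton_iff.2
    rw [← hg]
    have := congrArg (fun z => g * z * g⁻¹) h1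
    simp only [mul_assoc] at this ⊢
    simpa [mul_assoc] using this.symm
  obtain ⟨h, hhC, hx⟩ := exists_conj_mem_zpowers_of_not_sq_dvd' C hC9 (g * c1 * g⁻¹) c2 hgc1C hc2C
    (by rw [orderOf_conj_eq, hc1]) hc2
  -- `x = k c1 k⁻¹` with `k = h g`
  have hxk : h * (g * c1 * g⁻¹) * h⁻¹ = (h * g) * c1 * (h * g)⁻¹ := by group
  rw [hxk] at hx
  set k := h * g with hk
  have hxR : k * c1 * k⁻¹ ∈ (R : Subgroup G) := (zpowers_le.2 hc2R) hx
  have hxo : orderOf (k * c1 * k⁻¹) = 3 := by rw [orderOf_conj_eq, hc1]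
  obtain ⟨n, hn, hnx⟩ := R.conj_eq_normalizer_conj_of_mem c1 k⁻¹ hc1R (by rw [inv_inv]; exact hxR)
  rw [inv_inv] at hnx
  have hx1 : k * c1 * k⁻¹ ∈ zpowers c1 := by
    rw [hnx]
    have := hn1 n⁻¹ (inv_mem hn)
    rwa [inv_inv] at this
  -- `⟨x⟩ = ⟨c2⟩`
  have heq : zpowers (k * c1 * k⁻¹) = zpowers c2 := by
    apply Subgroup.eq_of_le_of_card_ge (zpowers_le.2 hx)
    rw [Nat.card_zpowers, Nat.card_zpowers, hxo, hc2]
  apply hne
  have : c2 ∈ zpowers (k * c1 * k⁻¹) := heq ▸ mem_zpowers c2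
  exact (zpowers_le.2 hx1) this

end Cfsg.Agent.Helper17.A7
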