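import Mathlib
import Cfsg.Agent.Helper17.SylowKit

/-!
# (G7) for S0984 / LOC (helper17 for helper85): an involution centralizing `R` gives a subgroup of
index 7 — version with (G2) as a hypothesis.
-/

set_option autoImplicit false

namespace Cfsg.Agent.Helper17.A7

open Subgroup

universe u

variable {G : Type u} [Group G]

/-- the centralizer of an involution is a proper subgroup of a simple group of order 2520 -/
theorem centralizer_ne_top_of_card [Finite G] [IsSimpleGroup G] (hcard : Nat.card G = 2520)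
    (t : G) (ht : orderOf t = 2) : centralizer ({t} : Set G) ≠ ⊤ := by
  intro htop
  have hnc : ¬ IsMulCommutative G :=
    Cfsg.Agent.Helper17.not_comm_of_simple_of_not_prime (by rw [hcard]; norm_num)
  have htc : t ∈ center G := by
    rw [Subgroup.mem_center_iff]
    intro g
    have : g ∈ centralizer ({t} : Set G) := htop ▸ Subgroup.mem_top g
    exact Subgroup.mem_centralizer_singleton_iff.1 this
  rcases (inferInstance : (center G).Normal).eq_bot_or_eq_top with h | h
  · rw [h, Subgroup.mem_bot] at htc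
    rw [htc, orderOf_one] at ht
    omega
  · apply hnc
    refine ⟨⟨fun a b => ?_⟩⟩
    have : b ∈ center G := h ▸ Subgroup.mem_top b
    exact (Subgroup.mem_center_iff.1 this) a

/-- a Sylow 2-subgroup of order 8 contains a central involution; its centralizer has order divisible
by 8; so do the centralizers of all conjugates -/
theorem eight_dvd_card_centralizer [Finite G] (hcard : Nat.card G = 2520)
    (hinv : ∀ s t : G, orderOf s = 2 → orderOf t = 2 → IsConj s t) (t : G) (ht : orderOf t = 2) :
    8 ∣ Nat.card (centralizer ({t} : Set G)) := by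
  have : Fact (Nat.Prime 2) := ⟨by norm_num⟩
  obtain ⟨S⟩ : Nonempty (Sylow 2 G) := inferInstance
  have hS8 : Nat.card (S : Subgroup G) = 2 ^ 3 :=
    Cfsg.Agent.Helper17.card_sylow_subgroup_of_card_eq (m := 315) (by rw [hcard]; norm_num)
      (by norm_num) S
  -- a central involution of `S`
  have hpS : IsPGroup 2 (S : Subgroup G) := S.isPGroup'
  have : Nontrivial (S : Subgroup G) := by
    apply (Finite.one_lt_card_iff_nontrivial).1
    rw [hS8]; norm_num
  have hcn : Nontrivial (center (S : Subgroup G)) := hpS.center_nontrivial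
  have h2dvd : 2 ∣ Nat.card (center (S : Subgroup G)) := by
    obtain ⟨k, hk⟩ := (IsPGroup.iff_card).1 (hpS.to_subgroup (center (S : Subgroup G)))
    have hk0 : k ≠ 0 := by
      rintro rfl
      rw [pow_zero] at hk
      have := (Finite.one_lt_card_iff_nontrivial).2 hcn
      omega
    rw [hk]
    exact dvd_pow_self 2 hk0
  obtain ⟨z, hz⟩ := exists_prime_orderOf_dvd_card' 2 h2dvd
  have hzo : orderOf ((z : (S : Subgroup G)) : G) = 2 := by
    rw [Subgroup.orderOf_coe, Subgroup.orderOf_coe]; exact hz
  obtain ⟨g, hg⟩ := isConj_iff.1 (hinv _ t hzo ht)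
  -- `g S g⁻¹ ≤ C(t)`
  have hle : (g • S : Sylow 2 G).toSubgroup ≤ centralizer ({t} : Set G) := by
    intro y hy
    rw [Sylow.coe_subgroup_smul, Subgroup.mem_pointwise_smul_iff_inv_smul_mem] at hy
    have hy' : g⁻¹ * y * g ∈ (S : Subgroup G) := by
      simpa [MulAut.smul_def, mul_assoc] using hy
    have hc := (Subgroup.mem_center_iff.1 z.2) ⟨g⁻¹ * y * g, hy'⟩
    have hc' : g⁻¹ * y * g * ((z : (S : Subgroup G)) : G) = ((z : (S : Subgroup G)) : G) * (g⁻¹ * y * g) :=
      congrArg Subtype.val hc
    apply Subgroup.mem_centralizer_singleton_iff.2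
    rw [← hg]
    have := congrArg (fun w => g * w * g⁻¹) hc'
    simp only [mul_assoc] at this ⊢
    simpa [mul_assoc] using this
  have h8 : Nat.card ((g • S : Sylow 2 G) : Subgroup G) = 2 ^ 3 :=
    Cfsg.Agent.Helper17.card_sylow_subgroup_of_card_eq (m := 315) (by rw [hcard]; norm_num)
      (by norm_num) (g • S)
  have := Subgroup.card_dvd_of_le hle
  rw [h8] at this
  exact this

/-- `N_G(R) ≤ C_G(t)` when the involution `t` centralizes `R` and `|N_G(R)| = 36` -/
theorem normalizer_le_centralizer_of_card [Finite G] (hcard : Nat.card G = 2520) (R : Sylow 3 G)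
    (hN : Nat.card (Subgroup.normalizer ((R : Subgroup G) : Set G)) = 36) (t : G)
    (ht : orderOf t = 2) (htR : ∀ r ∈ (R : Subgroup G), t * r = r * t) :
    Subgroup.normalizer ((R : Subgroup G) : Set G) ≤ centralizer ({t} : Set G) := by
  have : Fact (Nat.Prime 2) := ⟨by norm_num⟩
  have : Fact (Nat.Prime 3) := ⟨by norm_num⟩
  set N := Subgroup.normalizer ((R : Subgroup G) : Set G) with hNdef
  set H := centralizer ({t} : Set G) with hHdef
  have hR9 : Nat.card (R : Subgroup G) = 3 ^ 2 :=
    Cfsg.Agent.Helper17.card_sylow_subgroup_of_card_eq (m := 280) (by rw [hcard]; norm_num)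
      (by norm_num) R
  have hRN : (R : Subgroup G) ≤ N := Subgroup.le_normalizer
  have hRH : (R : Subgroup G) ≤ H := fun r hr =>
    Subgroup.mem_centralizer_singleton_iff.2 (htR r hr).symm
  -- `t ∈ N`
  have htN : t ∈ N := by
    rw [hNdef, Subgroup.mem_normalizer_iff]
    intro r
    constructor
    · intro hr
      have : t * r * t⁻¹ = r := by rw [htR r hr, mul_inv_cancel_right]
      rw [this]; exact hr
    · intro hr
      have h1 := htR _ hr
      -- t * (t r t⁻¹) = (t r t⁻¹) * t ⇒ t r = r t ... recover r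
      have : r = t * r * t⁻¹ := by
        have h2 : t * (t * r * t⁻¹) * t⁻¹ = t * r * t⁻¹ := by rw [h1, mul_inv_cancel_right]
        have h3 := congrArg (fun w => t⁻¹ * w * t) h2
        simp only [mul_assoc, inv_mul_cancel_left, inv_mul_cancel, mul_one] at h3
        simpa [mul_assoc] using h3.symm
      rw [this]; exact hr
  -- a Sylow 2-subgroup `Q` of `N` containing `t`
  have hpt : IsPGroup 2 (zpowers (⟨t, htN⟩ : N)) := by
    apply IsPGroup.of_card (n := 1)
    rw [Nat.card_zpowers, Subgroup.orderOf_mk, ht, pow_one]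
  obtain ⟨Q, hQ⟩ := hpt.exists_le_sylow
  have hQ4 : Nat.card (Q : Subgroup N) = 2 ^ 2 :=
    Cfsg.Agent.Helper17.card_sylow_subgroup_of_card_eq (m := 9) (by rw [hN]; norm_num) (by norm_num) Q
  have hQcomm : IsMulCommutative (Q : Subgroup N) :=
    IsPGroup.isMulCommutative_of_card_eq_prime_sq hQ4
  have htQ : (⟨t, htN⟩ : N) ∈ (Q : Subgroup N) := hQ (mem_zpowers _)
  have hQH : (Q : Subgroup N).map N.subtype ≤ H := by
    rintro _ ⟨y, hy, rfl⟩
    apply Subgroup.mem_centralizer_singleton_iff.2
    have := hQcomm.is_comm.comm (⟨y, hy⟩ : (Q : Subgroup N)) ⟨⟨t, htN⟩, htQ⟩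
    have h2 := congrArg (fun w : (Q : Subgroup N) => ((w : N) : G)) this
    exact h2
  have hQN : (Q : Subgroup N).map N.subtype ≤ N := Subgroup.map_subtype_le _
  have hQ4' : Nat.card ((Q : Subgroup N).map N.subtype) = 4 := by
    rw [Subgroup.card_map_of_injective N.subtype_injective, hQ4]; norm_num
  -- `M = H ⊓ N` has order divisible by 36
  have h9 : 9 ∣ Nat.card (H ⊓ N : Subgroup G) := by
    have := Subgroup.card_dvd_of_le (le_inf hRH hRN)
    rw [hR9] at this
    exact this
  have h4 : 4 ∣ Nat.card (H ⊓ N : Subgroup G) := by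
    have := Subgroup.card_dvd_of_le (le_inf hQH hQN)
    rw [hQ4'] at this
    exact this
  have h36 : 36 ∣ Nat.card (H ⊓ N : Subgroup G) :=
    (Nat.Coprime.mul_dvd_of_dvd_of_dvd (by norm_num : Nat.Coprime 4 9) h4 h9)
  have hMN : (H ⊓ N : Subgroup G) = N := by
    apply Subgroup.eq_of_le_of_card_ge inf_le_right
    rw [hN]
    exact Nat.le_of_dvd Nat.card_pos h36
  rw [← hMN]
  exact inf_le_left

/-- (G7), with (G2) as a hypothesis -/
theorem index_seven_of_central_involution_aux [Finite G] [IsSimpleGroup G]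
    (hcard : Nat.card G = 2520)
    (hG2 : ∀ (R : Sylow 3 G),
      Nat.card (Subgroup.normalizer ((R : Subgroup G) : Set G)) = 36 →
      ∀ H : Subgroup G, H ≠ ⊤ → Subgroup.normalizer ((R : Subgroup G) : Set G) ≤ H →
      8 ∣ Nat.card H → H.index = 7)
    (hinv : ∀ s t : G, orderOf s = 2 → orderOf t = 2 → IsConj s t) (R : Sylow 3 G)
    (hN : Nat.card (Subgroup.normalizer ((R : Subgroup G) : Set G)) = 36) (t : G)
    (ht : orderOf t = 2) (htR : ∀ r ∈ (R : Subgroup G), t * r = r * t) :
    ∃ H : Subgroup G, H.index = 7 :=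
  ⟨centralizer ({t} : Set G), hG2 R hN _ (centralizer_ne_top_of_card hcard t ht)
    (normalizer_le_centralizer_of_card hcard R hN t ht htR)
    (eight_dvd_card_centralizer hcard hinv t ht)⟩

end Cfsg.Agent.Helper17.A7
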