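import Mathlib
import Cfsg.Agent.Helper17.A7G7aux
import Cfsg.Agent.Helper37.A7G2

/-!
# (G7) for S0984 / LOC (helper17 for helper85): an involution centralizing `R` gives a subgroup of
index 7 (final form, using helper37's (G2)).
-/

set_option autoImplicit false

namespace Cfsg.Agent.Helper17.A7

universe u

variable {G : Type u} [Group G]

/-- (G7) an involution centralizing `R` gives a subgroup of index 7 -/
theorem index_seven_of_central_involution [Finite G] [IsSimpleGroup G]
    (hcard : Nat.card G = 2520)
    (hinv : ∀ s t : G, orderOf s = 2 → orderOf t = 2 → IsConj s t) (R : Sylow 3 G)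
    (hN : Nat.card (Subgroup.normalizer ((R : Subgroup G) : Set G)) = 36) (t : G)
    (ht : orderOf t = 2) (htR : ∀ r ∈ (R : Subgroup G), t * r = r * t) :
    ∃ H : Subgroup G, H.index = 7 :=
  index_seven_of_central_involution_aux hcard
    (fun R hN H hH hle h8 =>
      Cfsg.Agent.Helper37.A7.index_eq_seven_of_normalizer_le hcard R hN H hH hle h8)
    hinv R hN t ht htR

end Cfsg.Agent.Helper17.A7
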