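import Cfsg.Agent.Helper57.BP.PartI

/-!
# S4705 piece (P04) (helper17 for helper16): the `p`-regular elements of `C_G(P)` are central, and
`ψ` is `ψ(1) θ` on them.
-/

set_option autoImplicit false

namespace Cfsg.Agent.Helper17.B66

open Cfsg Cfsg.Agent.Helper16 Cfsg.Agent.Helper16.DefOne Cfsg.Agent.Helper82.DefOne
  Cfsg.Agent.Helper77.DefOne Cfsg.Agent.Helper57.BH Cfsg.Agent.Helper57.BP
open scoped ComplexConjugate

universe u

variable {G : Type u} [Group G] [Fintype G] {p : ℕ} [Fact p.Prime] (P : Sylow p G)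

open Classical in
/-- (P04) the `p`-regular elements of `C_G(P)` are central, and `ψ` is `ψ(1) θ` on them -/
theorem regular_of_mult (hP : Nat.card P = p) (hp5 : 5 < p)
    (θ : IrrCharacter (cen P)) (hθ : IsCanon P θ) (hθ1 : charDegree (θ : cen P → ℂ) = 1)
    (ψ : IrrCharacter G) (hdeg : charDegree (ψ : G → ℂ) = p - 2)
    (hfaith : ∀ g : G, (ψ : G → ℂ) g = (ψ : G → ℂ) 1 → g = 1)
    (φ₀ : IrrCharacter (cen P))
    (hmult : ∀ φ : IrrCharacter (cen P), mult P ψ φ =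
        if can P φ = θ ∧ φ ∉ MulAction.orbit (nor P) φ₀ then 1 else 0)
    (c : cen P) (hc : ¬ p ∣ orderOf c) :
    (c : G) ∈ Subgroup.center G ∧
      (ψ : G → ℂ) (c : G) = (ψ : G → ℂ) 1 * (θ : cen P → ℂ) c := by
  have hp : p.Prime := Fact.out
  have : Finite (IrrCharacter (cen P)) := Helper79.irr_finite'
  -- on regular elements `ψ = S θ`
  have hreg : ∀ x : cen P, ¬ p ∣ orderOf x → (ψ : G → ℂ) (x : G) =
      (∑ᶠ φ : IrrCharacter (cen P), (mult P ψ φ : ℂ)) * (θ : cen P → ℂ) x := by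
    intro x hx
    rw [restrict_eq_finsum_mult P ψ x, finsum_mul]
    apply finsum_congr
    intro φ
    rw [hmult φ]
    split_ifs with h
    · rw [can_apply_regular P hP φ x hx, h.1]
    · simp
  have hθone : (θ : cen P → ℂ) 1 = 1 := by
    rw [Helper78.irrChar_one_eq_charDegree θ.2, hθ1]
    simp
  have h1reg : ¬ p ∣ orderOf (1 : cen P) := by
    rw [orderOf_one]
    exact hp.not_dvd_one
  have hS : (∑ᶠ φ : IrrCharacter (cen P), (mult P ψ φ : ℂ)) = (ψ : G → ℂ) 1 := by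
    have := hreg 1 h1reg
    rw [Subgroup.coe_one, hθone, mul_one] at this
    exact this.symm
  have hval : (ψ : G → ℂ) (c : G) = (ψ : G → ℂ) 1 * (θ : cen P → ℂ) c := by
    rw [hreg c hc, hS]
  refine ⟨?_, hval⟩
  apply mem_center_of_mem_charCenter ψ hfaith
  rw [Helper74.mem_charCenter_iff, hval, norm_mul]
  have hθc : IsCharacter (cen P) (θ : cen P → ℂ) := by
    obtain ⟨n, ρ, -, h⟩ := θ.2
    exact ⟨n, ρ, h⟩
  have h2 := Helper79.isCharacter_linear_mul_conj hθc hθone c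
  have h3 : ‖(θ : cen P → ℂ) c‖ = 1 := by
    rw [Helper74.mul_conj_eq_norm_sq] at h2
    have h4 : ‖(θ : cen P → ℂ) c‖ ^ 2 = 1 := by exact_mod_cast h2
    have h5 : 0 ≤ ‖(θ : cen P → ℂ) c‖ := norm_nonneg _
    nlinarith
  rw [h3, mul_one, Helper79.irr_one]
  simp

end Cfsg.Agent.Helper17.B66
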