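import Mathlib

set_option autoImplicit false

namespace Cfsg.Agent.Helper17

open MulAction Subgroup
open scoped Pointwise

variable {G : Type*} [Group G]

/-- Sylow's theorem inside a subgroup `H` containing a Sylow `p`-subgroup `S` of `G`: every
`p`-subgroup `Q ≤ H` is conjugated into `S` by an element of `H`. -/
theorem exists_conj_mem_sylow_of_le [Finite G] {p : ℕ} [Fact p.Prime] {H : Subgroup G}
    (S : Sylow p G) (hS : (S : Subgroup G) ≤ H) (Q : Subgroup G) (hQ : IsPGroup p Q) (hQH : Q ≤ H) :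
    ∃ h ∈ H, ∀ x ∈ Q, h * x * h⁻¹ ∈ (S : Subgroup G) := by
  have hQ' : IsPGroup p (Q.subgroupOf H) := hQ.comap_subtype
  obtain ⟨Q'', hQ''⟩ := hQ'.exists_le_sylow
  obtain ⟨h, hh⟩ := exists_smul_eq H Q'' (S.subtype hS)
  refine ⟨h.1, h.2, fun x hx => ?_⟩
  have hx' : (⟨x, hQH hx⟩ : H) ∈ (Q'' : Subgroup H) := hQ'' (mem_subgroupOf.mpr hx)
  have h1 : MulAut.conj h • (⟨x, hQH hx⟩ : H) ∈ MulAut.conj h • (Q'' : Subgroup H) :=
    Subgroup.smul_mem_pointwise_smul _ _ _ hx'
  have h2 : (MulAut.conj h • (Q'' : Subgroup H) : Subgroup H) = ((S.subtype hS : Sylow p H) : Subgroup H) := by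
    rw [← hh]; rfl
  rw [h2, Sylow.coe_subtype, mem_subgroupOf] at h1
  simpa [MulAut.smul_def] using h1

/-- **Brodkey's theorem**. -/
theorem brodkey [Finite G] (p : ℕ) [Fact p.Prime]
    (hab : ∀ P : Sylow p G, IsMulCommutative ↥(P : Subgroup G)) :
    ∃ P Q : Sylow p G, (P : Subgroup G) ⊓ (Q : Subgroup G) = ⨅ R : Sylow p G, (R : Subgroup G) := by
  classical
  obtain ⟨⟨S, T⟩, hmin⟩ := Finite.exists_min
    (fun PQ : Sylow p G × Sylow p G => Nat.card ((PQ.1 : Subgroup G) ⊓ (PQ.2 : Subgroup G) : Subgroup G))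
  simp only at hmin
  refine ⟨S, T, le_antisymm ?_ ?_⟩
  swap
  · exact le_inf (iInf_le _ S) (iInf_le _ T)
  set D : Subgroup G := (S : Subgroup G) ⊓ (T : Subgroup G) with hD
  -- S and T normalize D
  have hnorm : ∀ P : Sylow p G, D ≤ (P : Subgroup G) → (P : Subgroup G) ≤ normalizer (D : Set G) := by
    intro P hDP s hs
    have hc : ∀ d ∈ D, s * d = d * s := by
      intro d hd
      have := (hab P).is_comm.comm (⟨s, hs⟩ : (P : Subgroup G)) ⟨d, hDP hd⟩
      exact congrArg Subtype.val this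
    rw [mem_normalizer_iff]
    intro d
    constructor
    · intro hd
      rw [hc d hd, mul_inv_cancel_right]; exact hd
    · intro hd
      have h2 := hc _ hd
      -- s * (s d s⁻¹) = (s d s⁻¹) * s → d = s d s⁻¹
      have : s * d * s⁻¹ = d := by
        have h3 : s * (s * d * s⁻¹) = s * d := by rw [h2]; group
        exact mul_left_cancel h3
      rw [← this]; exact hd
  have hSN := hnorm S inf_le_left
  have hTN := hnorm T inf_le_right
  apply le_iInf
  intro R
  -- conjugate R ⊓ N into S by n ∈ N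
  obtain ⟨n, hnN, hn⟩ := exists_conj_mem_sylow_of_le S hSN ((R : Subgroup G) ⊓ normalizer (D : Set G))
    (R.2.to_le inf_le_left) inf_le_right
  -- R' = n • R
  have hR'T : ((n • R : Sylow p G) : Subgroup G) ⊓ (T : Subgroup G) ≤ D := by
    intro y hy
    obtain ⟨hy1, hy2⟩ := mem_inf.mp hy
    refine mem_inf.mpr ⟨?_, hy2⟩
    -- y = n x n⁻¹ with x ∈ R
    rw [Sylow.coe_subgroup_smul, Subgroup.mem_pointwise_smul_iff_inv_smul_mem] at hy1
    have hx : n⁻¹ * y * n ∈ (R : Subgroup G) := by simpa [MulAut.smul_def] using hy1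
    have hxN : n⁻¹ * y * n ∈ normalizer (D : Set G) :=
      mul_mem (mul_mem (inv_mem hnN) (hTN hy2)) hnN
    have := hn _ (mem_inf.mpr ⟨hx, hxN⟩)
    simpa [mul_assoc] using this
  have hcard := hmin (n • R, T)
  simp only at hcard
  have heq : ((n • R : Sylow p G) : Subgroup G) ⊓ (T : Subgroup G) = D :=
    Subgroup.eq_of_le_of_card_ge hR'T hcard
  -- D ≤ n • R, so n⁻¹ D n ≤ R, and n normalizes D
  intro d hd
  have hd' : n * d * n⁻¹ ∈ D := (mem_normalizer_iff.mp hnN d).mp hd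
  have h1 : n * d * n⁻¹ ∈ ((n • R : Sylow p G) : Subgroup G) := by
    rw [← heq] at hd'; exact (mem_inf.mp hd').1
  rw [Sylow.coe_subgroup_smul, Subgroup.mem_pointwise_smul_iff_inv_smul_mem] at h1
  simpa [MulAut.smul_def, mul_assoc] using h1

end Cfsg.Agent.Helper17
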