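import Mathlib
import Cfsg.Agent.Helper5.UnitaryCenter
import Cfsg.Agent.Helper13.UGen1
import Cfsg.Agent.Helper45.GUBasic

/-!
helper17 for helper3 (S2500 part 5, board #12490): piece (5H2) `regunip_conj_of_normal_form` of
`tools/helper3_cov2p4/Skel5.lean.txt`: two regular unipotent elements of `SU_3(3^a)` with the same
normal form are conjugate in `SU_3`.
-/

set_option autoImplicit false

namespace Cfsg.Agent.Helper17.Cov2P5

open Polynomial Module Matrix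

variable {F : Type*} [Field F] [Fintype F] {q : ℕ}

/-- the unitarity identity for `N = A - 1` -/
theorem h2_unitary (hF : Fintype.card F = q ^ 2) (A : Cfsg.SU 3 F q) (x y : Fin 3 → F) :
    Cfsg.hermForm 3 F q (((A.1.1 : Matrix (Fin 3) (Fin 3) F) - 1) *ᵥ x) y +
      Cfsg.hermForm 3 F q x (((A.1.1 : Matrix (Fin 3) (Fin 3) F) - 1) *ᵥ y) +
      Cfsg.hermForm 3 F q (((A.1.1 : Matrix (Fin 3) (Fin 3) F) - 1) *ᵥ x)
        (((A.1.1 : Matrix (Fin 3) (Fin 3) F) - 1) *ᵥ y) = 0 := by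
  have h : Cfsg.hermForm 3 F q ((A.1.1 : Matrix (Fin 3) (Fin 3) F) *ᵥ x)
      ((A.1.1 : Matrix (Fin 3) (Fin 3) F) *ᵥ y) = Cfsg.hermForm 3 F q x y := A.2 x y
  have e : ∀ z : Fin 3 → F, (A.1.1 : Matrix (Fin 3) (Fin 3) F) *ᵥ z =
      z + ((A.1.1 : Matrix (Fin 3) (Fin 3) F) - 1) *ᵥ z := by
    intro z
    rw [Matrix.sub_mulVec, Matrix.one_mulVec]
    abel
  rw [e x, e y, Cfsg.Agent.Helper13.hermForm_add_left, Cfsg.Agent.Helper13.hermForm_add_right hF,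
    Cfsg.Agent.Helper13.hermForm_add_right hF] at h
  linear_combination h

/-- the Gram matrix of a normal-form basis -/
def h2Gram (q : ℕ) (c₀ : F) : Matrix (Fin 3) (Fin 3) F := !![0, 0, 1; 0, -1, c₀; 1, c₀ ^ q, 0]

omit [Fintype F] in
theorem h2Gram_det (c₀ : F) : (h2Gram q c₀).det = 1 := by
  unfold h2Gram
  rw [Matrix.det_fin_three]
  simp

/-- the matrix with columns `N² v, N v, v` -/
def h2P (N : Matrix (Fin 3) (Fin 3) F) (v : Fin 3 → F) : Matrix (Fin 3) (Fin 3) F :=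
  Matrix.of fun i j => (![N *ᵥ (N *ᵥ v), N *ᵥ v, v] j) i

/-- the Jordan block -/
def h2J : Matrix (Fin 3) (Fin 3) F := !![1, 1, 0; 0, 1, 1; 0, 0, 1]

omit [Fintype F] in
theorem h2P_gram_apply (bar : F →+* F) (hbar : ∀ x, bar x = x ^ q) (N : Matrix (Fin 3) (Fin 3) F)
    (v : Fin 3 → F) (i j : Fin 3) :
    ((h2P N v)ᵀ * (h2P N v).map bar) i j =
      Cfsg.hermForm 3 F q (![N *ᵥ (N *ᵥ v), N *ᵥ v, v] i) (![N *ᵥ (N *ᵥ v), N *ᵥ v, v] j) := by
  rw [Matrix.mul_apply]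
  unfold Cfsg.hermForm
  refine Finset.sum_congr rfl fun k _ => ?_
  rw [Matrix.transpose_apply, Matrix.map_apply, hbar]
  rfl

/-- the Gram matrix of `(N² v, N v, v)` is forced -/
theorem h2_gram (hF : Fintype.card F = q ^ 2) (A : Cfsg.SU 3 F q)
    (h1 : ((A.1.1 : Matrix (Fin 3) (Fin 3) F) - 1) ^ 3 = 0) (c₀ : F) (v3 : Fin 3 → F)
    (hA : Cfsg.hermForm 3 F q (((A.1.1 : Matrix (Fin 3) (Fin 3) F) - 1) *ᵥ
        (((A.1.1 : Matrix (Fin 3) (Fin 3) F) - 1) *ᵥ v3)) v3 = 1 ∧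
      Cfsg.hermForm 3 F q (((A.1.1 : Matrix (Fin 3) (Fin 3) F) - 1) *ᵥ v3) v3 = c₀ ∧
      Cfsg.hermForm 3 F q v3 v3 = 0) (bar : F →+* F) (hbar : ∀ x, bar x = x ^ q) :
    (h2P ((A.1.1 : Matrix (Fin 3) (Fin 3) F) - 1) v3)ᵀ *
      (h2P ((A.1.1 : Matrix (Fin 3) (Fin 3) F) - 1) v3).map bar = h2Gram q c₀ := by
  obtain ⟨g13, g23, g33⟩ := hA
  have hU := h2_unitary hF A
  set N : Matrix (Fin 3) (Fin 3) F := (A.1.1 : Matrix (Fin 3) (Fin 3) F) - 1 with hN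
  set v2 : Fin 3 → F := N *ᵥ v3 with hv2
  set v1 : Fin 3 → F := N *ᵥ v2 with hv1
  have hN1 : N *ᵥ v1 = 0 := by
    rw [hv1, hv2, Matrix.mulVec_mulVec, Matrix.mulVec_mulVec, ← pow_three', h1, Matrix.zero_mulVec]
  have k1 : ∀ y, Cfsg.hermForm 3 F q v1 (N *ᵥ y) = 0 := by
    intro y
    have := hU v1 y
    rw [hN1, Cfsg.Agent.Helper13.hermForm_zero_left, Cfsg.Agent.Helper13.hermForm_zero_left] at this
    linear_combination this
  have k2 : ∀ x, Cfsg.hermForm 3 F q (N *ᵥ x) v1 = 0 := by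
    intro x
    have := hU x v1
    rw [hN1, Cfsg.Agent.Helper13.hermForm_zero_right hF,
      Cfsg.Agent.Helper13.hermForm_zero_right hF] at this
    linear_combination this
  have g12 : Cfsg.hermForm 3 F q v1 v2 = 0 := k1 v3
  have g11 : Cfsg.hermForm 3 F q v1 v1 = 0 := k1 v2
  have g21 : Cfsg.hermForm 3 F q v2 v1 = 0 := k2 v3
  have g31 : Cfsg.hermForm 3 F q v3 v1 = 1 := by
    rw [← Cfsg.Agent.Helper13.hermForm_conj hF v1 v3, g13, one_pow]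
  have g32 : Cfsg.hermForm 3 F q v3 v2 = c₀ ^ q := by
    rw [← Cfsg.Agent.Helper13.hermForm_conj hF v2 v3, g23]
  have g22 : Cfsg.hermForm 3 F q v2 v2 = -1 := by
    have := hU v2 v3
    rw [← hv1, ← hv2, g13, g12] at this
    linear_combination this
  ext i j
  rw [h2P_gram_apply bar hbar]
  fin_cases i <;> fin_cases j
  · exact g11
  · exact g12
  · exact g13
  · exact g21
  · exact g22
  · exact g23
  · exact g31
  · exact g32
  · exact g33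

/-- the matrix with given columns -/
def h2Q (v1 v2 v3 : Fin 3 → F) : Matrix (Fin 3) (Fin 3) F :=
  Matrix.of fun i j => (![v1, v2, v3] j) i

omit [Fintype F] in
theorem mul_h2Q (M : Matrix (Fin 3) (Fin 3) F) (v1 v2 v3 : Fin 3 → F) :
    M * h2Q v1 v2 v3 = h2Q (M *ᵥ v1) (M *ᵥ v2) (M *ᵥ v3) := by
  ext i j
  rw [Matrix.mul_apply]
  fin_cases j <;> rfl

omit [Fintype F] in
theorem h2Q_mul_J (v1 v2 v3 : Fin 3 → F) :
    h2Q v1 v2 v3 * h2J = h2Q v1 (v1 + v2) (v2 + v3) := by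
  ext i j
  rw [Matrix.mul_apply, Fin.sum_univ_three]
  fin_cases j <;> simp [h2Q, h2J]

omit [Fintype F] in
/-- `A P = P J` -/
theorem h2_AP (M : Matrix (Fin 3) (Fin 3) F) (h1 : (M - 1) ^ 3 = 0) (v3 : Fin 3 → F) :
    M * h2P (M - 1) v3 = h2P (M - 1) v3 * h2J := by
  set N : Matrix (Fin 3) (Fin 3) F := M - 1 with hN
  set v2 : Fin 3 → F := N *ᵥ v3 with hv2
  set v1 : Fin 3 → F := N *ᵥ v2 with hv1
  have hN1 : N *ᵥ v1 = 0 := by
    rw [hv1, hv2, Matrix.mulVec_mulVec, Matrix.mulVec_mulVec, ← pow_three', h1, Matrix.zero_mulVec]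
  have e : ∀ z : Fin 3 → F, M *ᵥ z = z + N *ᵥ z := by
    intro z
    rw [hN, Matrix.sub_mulVec, Matrix.one_mulVec]
    abel
  have hP : h2P N v3 = h2Q v1 v2 v3 := rfl
  rw [hP, mul_h2Q, h2Q_mul_J, e v1, e v2, e v3, hN1, add_zero, ← hv1, ← hv2, add_comm v2 v1,
    add_comm v3 v2]

/-- (5H2) -/
theorem regunip_conj_of_normal_form (hF : Fintype.card F = q ^ 2) (a : ℕ) (ha : 1 ≤ a)
    (hq : q = 3 ^ a) (A A' : Cfsg.SU 3 F q)
    (h1 : ((A.1.1 : Matrix (Fin 3) (Fin 3) F) - 1) ^ 3 = 0)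
    (h1' : ((A'.1.1 : Matrix (Fin 3) (Fin 3) F) - 1) ^ 3 = 0)
    (c₀ : F) (v3 v3' : Fin 3 → F)
    (hA : Cfsg.hermForm 3 F q (((A.1.1 : Matrix (Fin 3) (Fin 3) F) - 1) *ᵥ
        (((A.1.1 : Matrix (Fin 3) (Fin 3) F) - 1) *ᵥ v3)) v3 = 1 ∧
      Cfsg.hermForm 3 F q (((A.1.1 : Matrix (Fin 3) (Fin 3) F) - 1) *ᵥ v3) v3 = c₀ ∧
      Cfsg.hermForm 3 F q v3 v3 = 0)
    (hA' : Cfsg.hermForm 3 F q (((A'.1.1 : Matrix (Fin 3) (Fin 3) F) - 1) *ᵥ
        (((A'.1.1 : Matrix (Fin 3) (Fin 3) F) - 1) *ᵥ v3')) v3' = 1 ∧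
      Cfsg.hermForm 3 F q (((A'.1.1 : Matrix (Fin 3) (Fin 3) F) - 1) *ᵥ v3') v3' = c₀ ∧
      Cfsg.hermForm 3 F q v3' v3' = 0) :
    ∃ x : Cfsg.SU 3 F q, x * A * x⁻¹ = A' := by
  classical
  set bar : F →+* F := Cfsg.Agent.Helper5.frobHom hF with hbardef
  have hbar : ∀ x, bar x = x ^ q := fun x => rfl
  have hG := h2_gram hF A h1 c₀ v3 hA bar hbar
  have hG' := h2_gram hF A' h1' c₀ v3' hA' bar hbar
  have hAP := h2_AP (A.1.1 : Matrix (Fin 3) (Fin 3) F) h1 v3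
  have hAP' := h2_AP (A'.1.1 : Matrix (Fin 3) (Fin 3) F) h1' v3'
  set P : Matrix (Fin 3) (Fin 3) F := h2P ((A.1.1 : Matrix (Fin 3) (Fin 3) F) - 1) v3 with hP
  set P' : Matrix (Fin 3) (Fin 3) F := h2P ((A'.1.1 : Matrix (Fin 3) (Fin 3) F) - 1) v3' with hP'
  have hdetP : P.det * bar P.det = 1 := by
    have := congrArg Matrix.det hG
    rw [Matrix.det_mul, Matrix.det_transpose, h2Gram_det] at this
    rw [RingHom.map_det]
    exact this
  have hPdu : IsUnit P.det := IsUnit.of_mul_eq_one _ hdetP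
  have hPu : IsUnit P := (Matrix.isUnit_iff_isUnit_det _).2 hPdu
  have hPtu : IsUnit Pᵀ := by
    rw [Matrix.isUnit_iff_isUnit_det, Matrix.det_transpose]; exact hPdu
  have hPbu : IsUnit (P.map bar) := by
    rw [Matrix.isUnit_iff_isUnit_det]
    have : (P.map bar).det = bar P.det := (RingHom.map_det bar P).symm
    rw [this]
    exact hPdu.map bar
  set Z : Matrix (Fin 3) (Fin 3) F := P' * P⁻¹ with hZ
  have hZP : Z * P = P' := Matrix.nonsing_inv_mul_cancel_right _ _ hPdu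
  clear_value Z
  have hZU : Zᵀ * Z.map bar = 1 := by
    have h3 : Pᵀ * (Zᵀ * Z.map bar) * P.map bar = Pᵀ * 1 * P.map bar := by
      rw [mul_one, hG, ← hG', ← hZP, Matrix.transpose_mul, Matrix.map_mul]
      simp only [Matrix.mul_assoc]
    exact hPtu.mul_left_cancel (hPbu.mul_right_cancel h3)
  have hZpres : ∀ u w : Fin 3 → F, Cfsg.hermForm 3 F q (Z *ᵥ u) (Z *ᵥ w) =
      Cfsg.hermForm 3 F q u w := by
    intro u w
    rw [Cfsg.Agent.Helper45.GU.hermForm_eq 3 bar hbar, Cfsg.Agent.Helper45.GU.hermForm_eq 3 bar hbar,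
      Cfsg.Agent.Helper45.GU.herm_mulVec, hZU, Matrix.one_mulVec]
    rfl
  have hZA : Z * (A.1.1 : Matrix (Fin 3) (Fin 3) F) = (A'.1.1 : Matrix (Fin 3) (Fin 3) F) * Z := by
    have h4 : Z * (A.1.1 : Matrix (Fin 3) (Fin 3) F) * P =
        (A'.1.1 : Matrix (Fin 3) (Fin 3) F) * Z * P := by
      rw [Matrix.mul_assoc, hAP, ← Matrix.mul_assoc, hZP, Matrix.mul_assoc, hZP, hAP']
    exact hPu.mul_right_cancel h4
  -- determinant fix
  set d : F := Z.det with hd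
  have hdd : d * d ^ q = 1 := by
    have := congrArg Matrix.det hZU
    rw [Matrix.det_mul, Matrix.det_transpose, Matrix.det_one] at this
    have h5 : (Z.map bar).det = d ^ q := by
      rw [hd, ← hbar]
      exact (RingHom.map_det bar Z).symm
    rw [h5] at this
    exact this
  obtain ⟨k, rfl⟩ : ∃ k, a = k + 1 := ⟨a - 1, by omega⟩
  set c : F := d ^ (3 ^ k) with hc
  have hc3 : c ^ 3 = d ^ q := by
    rw [hc, ← pow_mul, hq, pow_succ]
  have hcc : c * c ^ q = 1 := by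
    rw [hc, ← pow_mul, mul_comm (3 ^ k) q, pow_mul, ← mul_pow, hdd, one_pow]
  have hMdet : (c • Z).det = 1 := by
    rw [Matrix.det_smul, Fintype.card_fin, hc3, ← hd, mul_comm]
    exact hdd
  have hMpres : ∀ u w : Fin 3 → F, Cfsg.Agent.Helper5.herm q ((c • Z) *ᵥ u) ((c • Z) *ᵥ w) =
      Cfsg.Agent.Helper5.herm q u w := by
    intro u w
    show Cfsg.hermForm 3 F q ((c • Z) *ᵥ u) ((c • Z) *ᵥ w) = Cfsg.hermForm 3 F q u w
    rw [Matrix.smul_mulVec, Matrix.smul_mulVec, Cfsg.Agent.Helper13.hermForm_smul_left,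
      Cfsg.Agent.Helper13.hermForm_smul_right, hZpres, ← mul_assoc, hcc, one_mul]
  refine ⟨Cfsg.Agent.Helper5.mkSU (c • Z) hMdet hMpres, ?_⟩
  rw [mul_inv_eq_iff_eq_mul]
  apply Subtype.ext
  apply Subtype.ext
  show (c • Z) * (A.1.1 : Matrix (Fin 3) (Fin 3) F) = (A'.1.1 : Matrix (Fin 3) (Fin 3) F) * (c • Z)
  rw [Matrix.smul_mul, Matrix.mul_smul, hZA]

end Cfsg.Agent.Helper17.Cov2P5
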