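import Mathlib

set_option autoImplicit false

namespace Cfsg.Agent.Helper17

open Subgroup

variable {G : Type*} [Group G]

/-- An involution normalizing `⟨y⟩` (`y` of prime order) either centralizes or inverts `y`. -/
theorem conj_eq_or_inv_of_involution {p : ℕ} [hp : Fact p.Prime] {y g : G} (hy : orderOf y = p)
    (hg2 : g * g = 1) (hgy : g * y * g⁻¹ ∈ zpowers y) :
    g * y * g⁻¹ = y ∨ g * y * g⁻¹ = y⁻¹ := by
  obtain ⟨k, hk⟩ := Subgroup.mem_zpowers_iff.mp hgy
  have hginv : g⁻¹ = g := inv_eq_of_mul_eq_one_left hg2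
  have h1 : y ^ (k * k) = y := by
    rw [zpow_mul, hk, conj_zpow, hk, hginv]
    calc g * (g * y * g) * g = (g * g) * y * (g * g) := by group
      _ = y := by rw [hg2]; group
  have h2 : (k * k : ℤ) ≡ 1 [ZMOD p] := by
    have := (zpow_eq_zpow_iff_modEq (x := y) (m := k * k) (n := 1)).mp (by rw [h1, zpow_one])
    rwa [hy] at this
  have h3 : ((k : ℤ) : ZMod p) * ((k : ℤ) : ZMod p) = 1 := by
    have := (ZMod.intCast_eq_intCast_iff _ _ p).mpr h2
    push_cast at this
    exact this
  rcases mul_self_eq_one_iff.mp h3 with h4 | h4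
  · left
    have h5 : k ≡ 1 [ZMOD p] := by
      apply (ZMod.intCast_eq_intCast_iff k 1 p).mp
      rw [h4]; simp
    have h6 := (zpow_eq_zpow_iff_modEq (x := y) (m := k) (n := 1)).mpr (by rw [hy]; exact h5)
    rw [← hk, h6, zpow_one]
  · right
    have h5 : k ≡ -1 [ZMOD p] := by
      apply (ZMod.intCast_eq_intCast_iff k (-1) p).mp
      rw [h4]; simp
    have h6 := (zpow_eq_zpow_iff_modEq (x := y) (m := k) (n := -1)).mpr (by rw [hy]; exact h5)
    rw [← hk, h6, zpow_neg, zpow_one]


/-- If `t` is the only involution of `C(P)` (`|P| = p` prime), then `N(P)` contains at most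
`|C(P)| + 1` conjugates of `t`. -/
theorem card_conj_inter_normalizer_le [Finite G] {p : ℕ} [hp : Fact p.Prime] (P : Sylow p G)
    (hP : Nat.card (P : Subgroup G) = p) (t : G) (ht2 : orderOf t = 2)
    (huniq : ∀ c ∈ centralizer ((P : Subgroup G) : Set G), orderOf c = 2 → c = t) :
    Nat.card {g : G // IsConj t g ∧ g ∈ normalizer ((P : Subgroup G) : Set G)}
      ≤ Nat.card (centralizer ((P : Subgroup G) : Set G)) + 1 := by
  -- a generator of P
  have hPnt : Nontrivial (P : Subgroup G) := by
    rw [← Finite.one_lt_card_iff_nontrivial, hP]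
    exact hp.out.one_lt
  obtain ⟨⟨y, hyP⟩, hy1⟩ := exists_ne (1 : (P : Subgroup G))
  have hy1' : y ≠ 1 := fun h => hy1 (Subtype.ext h)
  have hyo : orderOf y = p := by
    have h1 : orderOf y ∣ p := by
      have := orderOf_dvd_natCard (⟨y, hyP⟩ : (P : Subgroup G))
      rwa [hP, Subgroup.orderOf_mk] at this
    rcases (Nat.dvd_prime hp.out).mp h1 with h2 | h2
    · exact absurd (orderOf_eq_one_iff.mp h2) hy1'
    · exact h2
  have hPz : (P : Subgroup G) = zpowers y := by
    symm
    apply Subgroup.eq_of_le_of_card_ge (zpowers_le.mpr hyP)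
    rw [Nat.card_zpowers, hyo, hP]
  -- centralizing `y` means centralizing `P`
  have hcent : ∀ g : G, g * y * g⁻¹ = y → g ∈ centralizer ((P : Subgroup G) : Set G) := by
    intro g hg
    rw [Subgroup.mem_centralizer_iff]
    intro x hx
    rw [SetLike.mem_coe, hPz] at hx
    obtain ⟨k, rfl⟩ := Subgroup.mem_zpowers_iff.mp hx
    have hc : Commute g y := by
      unfold Commute SemiconjBy
      calc g * y = g * y * g⁻¹ * g := by group
        _ = y * g := by rw [hg]
    exact ((hc.zpow_right k).eq).symm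
  -- the elements of the set other than `t` invert `y`
  have hinv : ∀ g : G, IsConj t g → g ∈ normalizer ((P : Subgroup G) : Set G) → g ≠ t →
      g * y * g⁻¹ = y⁻¹ := by
    intro g hgc hgN hgt
    obtain ⟨c, hc⟩ := isConj_iff.mp hgc
    have hgo : orderOf g = 2 := by
      have := (MulAut.conj c).orderOf_eq t
      rw [MulAut.conj_apply, hc] at this
      rw [this, ht2]
    have hg2 : g * g = 1 := by
      have := pow_orderOf_eq_one g
      rwa [hgo, pow_two] at this
    have hgy : g * y * g⁻¹ ∈ zpowers y := by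
      rw [← hPz]
      exact (Subgroup.mem_normalizer_iff.mp hgN y).mp hyP
    rcases conj_eq_or_inv_of_involution hyo hg2 hgy with h | h
    · exact absurd (huniq g (hcent g h) hgo) hgt
    · exact h
  change Nat.card ↥{g : G | IsConj t g ∧ g ∈ normalizer ((P : Subgroup G) : Set G)} ≤ _
  rw [Nat.card_coe_set_eq]
  by_cases hex : ∃ g₀ : G, IsConj t g₀ ∧ g₀ ∈ normalizer ((P : Subgroup G) : Set G) ∧ g₀ ≠ t
  · obtain ⟨g₀, hg₀c, hg₀N, hg₀t⟩ := hex
    have hsub : {g : G | IsConj t g ∧ g ∈ normalizer ((P : Subgroup G) : Set G)} ⊆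
        {t} ∪ (fun c => g₀⁻¹ * c) '' ((centralizer ((P : Subgroup G) : Set G) : Subgroup G) : Set G) := by
      rintro g ⟨hgc, hgN⟩
      by_cases hgt : g = t
      · left; exact hgt
      · right
        refine ⟨g₀ * g, ?_, by group⟩
        apply hcent
        have h1 := hinv g hgc hgN hgt
        have h2 := hinv g₀ hg₀c hg₀N hg₀t
        calc g₀ * g * y * (g₀ * g)⁻¹ = g₀ * (g * y * g⁻¹) * g₀⁻¹ := by group
          _ = g₀ * y⁻¹ * g₀⁻¹ := by rw [h1]
          _ = (g₀ * y * g₀⁻¹)⁻¹ := by group
          _ = y := by rw [h2, inv_inv]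
    calc Set.ncard {g : G | IsConj t g ∧ g ∈ normalizer ((P : Subgroup G) : Set G)}
        ≤ Set.ncard ({t} ∪ (fun c => g₀⁻¹ * c) ''
            ((centralizer ((P : Subgroup G) : Set G) : Subgroup G) : Set G)) :=
          Set.ncard_le_ncard hsub (Set.toFinite _)
      _ ≤ Set.ncard ({t} : Set G) + Set.ncard ((fun c => g₀⁻¹ * c) ''
            ((centralizer ((P : Subgroup G) : Set G) : Subgroup G) : Set G)) :=
          Set.ncard_union_le _ _
      _ ≤ 1 + Set.ncard (((centralizer ((P : Subgroup G) : Set G) : Subgroup G) : Set G)) := by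
          rw [Set.ncard_singleton]
          exact Nat.add_le_add_left (Set.ncard_image_le (Set.toFinite _)) 1
      _ = Nat.card (centralizer ((P : Subgroup G) : Set G)) + 1 := by
          rw [add_comm, ← Nat.card_coe_set_eq]
          rfl
  · push Not at hex
    have hsub : {g : G | IsConj t g ∧ g ∈ normalizer ((P : Subgroup G) : Set G)} ⊆ {t} := by
      rintro g ⟨hgc, hgN⟩
      exact hex g hgc hgN
    calc Set.ncard {g : G | IsConj t g ∧ g ∈ normalizer ((P : Subgroup G) : Set G)}
        ≤ Set.ncard ({t} : Set G) := Set.ncard_le_ncard hsub (Set.toFinite _)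
      _ = 1 := Set.ncard_singleton t
      _ ≤ _ := Nat.le_add_left _ _

end Cfsg.Agent.Helper17
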