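import Mathlib
import Cfsg.Agent.Helper17.CountOrder

set_option autoImplicit false

namespace Cfsg.Agent.Helper17

open Subgroup Equiv

/-- elements of prime order `p` in `Perm α` with `card α < 2 * p` are exactly the `p`-cycles -/
theorem perm_orderOf_eq_prime_iff {α : Type*} [Fintype α] [DecidableEq α] {p : ℕ} (hp : p.Prime)
    (hα : Fintype.card α < 2 * p) (g : Perm α) : orderOf g = p ↔ g.cycleType = {p} := by
  constructor
  · intro ho
    obtain ⟨k, hk⟩ := Equiv.Perm.cycleType_prime_order (σ := g) (ho.symm ▸ hp)
    rw [ho] at hk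
    have hsum := g.sum_cycleType_le
    rw [hk, Multiset.sum_replicate, smul_eq_mul] at hsum
    have hk0 : k = 0 := by
      by_contra hne
      have : 2 * p ≤ (k + 1) * p := Nat.mul_le_mul_right p (by omega)
      omega
    rw [hk, hk0]
    rfl
  · intro hc
    rw [← Equiv.Perm.lcm_cycleType, hc]
    simp

/-- the number of elements of order `p` in `Perm α`, `p ≤ card α < 2p`. -/
theorem perm_card_orderOf_eq_prime {α : Type*} [Fintype α] [DecidableEq α] {p : ℕ} (hp : p.Prime)
    (hα : Fintype.card α < 2 * p) (hα' : p ≤ Fintype.card α) :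
    Nat.card {g : Perm α // orderOf g = p} = (p - 1).factorial * (Fintype.card α).choose p := by
  rw [← Equiv.Perm.card_of_cycleType_singleton hp.two_le hα']
  rw [Nat.card_eq_fintype_card, Fintype.card_subtype]
  congr 1
  ext g
  simp only [Finset.mem_filter, Finset.mem_univ, true_and]
  exact perm_orderOf_eq_prime_iff hp hα g

theorem card_normalizer_sylow_perm {α : Type*} [Fintype α] [DecidableEq α] (p : ℕ) [Fact p.Prime]
    (hα : Fintype.card α = p ∨ Fintype.card α = p + 1) (P : Sylow p (Perm α)) :
    Nat.card ↥(normalizer ((P : Subgroup (Perm α)) : Set (Perm α))) = p * (p - 1) := by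
  have hp : p.Prime := Fact.out
  have hp2 := hp.two_le
  have hlt : Fintype.card α < 2 * p := by rcases hα with h | h <;> omega
  have hle : p ≤ Fintype.card α := by rcases hα with h | h <;> omega
  have hfac : (p - 1 + 1).factorial = (p - 1 + 1) * (p - 1).factorial := Nat.factorial_succ (p - 1)
  have hp1 : p - 1 + 1 = p := by omega
  rw [hp1] at hfac
  have hndvd : ¬ p ∣ (p - 1).factorial := by
    rw [hp.dvd_factorial]; omega
  -- order of the group and of its Sylow subgroups
  have hcardG : ∃ m, Nat.card (Perm α) = p ^ 1 * m ∧ ¬ p ∣ m := by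
    rw [Nat.card_perm, Nat.card_eq_fintype_card]
    rcases hα with h | h
    · exact ⟨(p - 1).factorial, by rw [h, hfac, pow_one], hndvd⟩
    · refine ⟨(p + 1) * (p - 1).factorial, ?_, ?_⟩
      · rw [h, Nat.factorial_succ, hfac, pow_one]; ring
      · intro hd
        rcases (Nat.Prime.dvd_mul hp).mp hd with h1 | h1
        · have : p ∣ 1 := (Nat.dvd_add_right (dvd_refl p)).mp h1
          exact hp.one_lt.ne' (Nat.dvd_one.mp this)
        · exact hndvd h1
  obtain ⟨m, hm1, hm2⟩ := hcardG
  have hP : ∀ Q : Sylow p (Perm α), Nat.card (Q : Subgroup (Perm α)) = p := fun Q => by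
    simpa using card_sylow_subgroup_of_card_eq hm1 hm2 Q
  have hcount := card_orderOf_eq_prime hP
  rw [perm_card_orderOf_eq_prime hp hlt hle] at hcount
  have hN : Nat.card ↥(normalizer ((P : Subgroup (Perm α)) : Set (Perm α))) *
      Nat.card (Sylow p (Perm α)) = (Fintype.card α).factorial := by
    have := card_normalizer_mul_card_sylow P
    rw [Nat.card_perm, Nat.card_eq_fintype_card (α := α)] at this
    exact this
  generalize Nat.card ↥(normalizer ((P : Subgroup (Perm α)) : Set (Perm α))) = N at hN ⊢
  generalize Nat.card (Sylow p (Perm α)) = s at hN hcount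
  have hfpos : 0 < (p - 1).factorial := Nat.factorial_pos _
  rcases hα with h | h
  · rw [h, Nat.choose_self, mul_one] at hcount
    rw [h, hfac] at hN
    -- N * s = p * (p-1)!, (p-1)! = s * (p-1)
    have : N * (p - 1).factorial = (p * (p - 1)) * (p - 1).factorial := by
      calc N * (p - 1).factorial = N * (s * (p - 1)) := by rw [hcount]
        _ = (N * s) * (p - 1) := by ring
        _ = (p * (p - 1).factorial) * (p - 1) := by rw [hN]
        _ = _ := by ring
    exact Nat.eq_of_mul_eq_mul_right hfpos this
  · have hch : (p + 1).choose p = p + 1 := by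
      rw [Nat.choose_succ_self_right]
    rw [h, hch] at hcount
    rw [h, Nat.factorial_succ, hfac] at hN
    have hpos : 0 < (p - 1).factorial * (p + 1) := Nat.mul_pos hfpos (by omega)
    have : N * ((p - 1).factorial * (p + 1)) = (p * (p - 1)) * ((p - 1).factorial * (p + 1)) := by
      calc N * ((p - 1).factorial * (p + 1)) = N * (s * (p - 1)) := by rw [hcount]
        _ = (N * s) * (p - 1) := by ring
        _ = ((p + 1) * (p * (p - 1).factorial)) * (p - 1) := by rw [hN]
        _ = _ := by ring
    exact Nat.eq_of_mul_eq_mul_right hpos this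

end Cfsg.Agent.Helper17
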