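import Mathlib
import Cfsg.Agent.Helper17.PermSylow
import Cfsg.Agent.Helper17.Embed

set_option autoImplicit false

namespace Cfsg.Agent.Helper17

open Subgroup Equiv

/-- order of Sylow `p`-subgroups of `Perm α` for `card α ∈ {p, p+1}` -/
theorem card_sylow_perm {α : Type*} [Fintype α] [DecidableEq α] (p : ℕ) [Fact p.Prime]
    (hα : Fintype.card α = p ∨ Fintype.card α = p + 1) (Q : Sylow p (Perm α)) :
    Nat.card (Q : Subgroup (Perm α)) = p := by
  have hp : p.Prime := Fact.out
  have hp2 := hp.two_le
  have hfac : (p - 1 + 1).factorial = (p - 1 + 1) * (p - 1).factorial := Nat.factorial_succ (p - 1)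
  have hp1 : p - 1 + 1 = p := by omega
  rw [hp1] at hfac
  have hndvd : ¬ p ∣ (p - 1).factorial := by
    rw [hp.dvd_factorial]; omega
  have hcardG : ∃ m, Nat.card (Perm α) = p ^ 1 * m ∧ ¬ p ∣ m := by
    rw [Nat.card_perm, Nat.card_eq_fintype_card]
    rcases hα with h | h
    · exact ⟨(p - 1).factorial, by rw [h, hfac, pow_one], hndvd⟩
    · refine ⟨(p + 1) * (p - 1).factorial, ?_, ?_⟩
      · rw [h, Nat.factorial_succ, hfac, pow_one]; ring
      · intro hd
        rcases (Nat.Prime.dvd_mul hp).mp hd with h1 | h1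
        · have : p ∣ 1 := (Nat.dvd_add_right (dvd_refl p)).mp h1
          exact hp.one_lt.ne' (Nat.dvd_one.mp this)
        · exact hndvd h1
  obtain ⟨m, hm1, hm2⟩ := hcardG
  simpa using card_sylow_subgroup_of_card_eq hm1 hm2 Q

/-- For `A` normal of index 2 and `normalizer P ⊔ A = ⊤`: `2 * |A ⊓ N(P)| = |N(P)|`. -/
theorem two_mul_card_inf_normalizer {G : Type*} [Group G] [Finite G] (A : Subgroup G) [A.Normal]
    (hA : A.index = 2) (P : Subgroup G) (hF : normalizer (P : Set G) ⊔ A = ⊤) :
    2 * Nat.card ↥(A ⊓ normalizer (P : Set G) : Subgroup G) = Nat.card ↥(normalizer (P : Set G)) := by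
  have h1 : A.relIndex (normalizer (P : Set G)) = 2 := by
    rw [← relIndex_sup_right, hF, relIndex_top_right, hA]
  have h2 := Subgroup.card_mul_index (A.subgroupOf (normalizer (P : Set G)))
  rw [← relIndex, h1] at h2
  have e1 : Nat.card ↥(A.subgroupOf (normalizer (P : Set G))) =
      Nat.card ↥(A ⊓ normalizer (P : Set G) : Subgroup G) := by
    rw [← inf_subgroupOf_right]
    exact Nat.card_congr (subgroupOfEquivOfLe inf_le_right).toEquiv
  rw [← e1, ← h2, mul_comm]

/-- **Lemma N**: if a non-abelian simple group has a proper subgroup of index `p` or `p + 1`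
(`p` a prime dividing `|G|`), then `2 * |N_G(P)|` divides `p * (p - 1)` for a Sylow `p`-subgroup. -/
theorem two_mul_card_normalizer_dvd_of_index {G : Type*} [Group G] [Finite G] [IsSimpleGroup G]
    (hG : ¬ IsMulCommutative G) (H : Subgroup G) (hH : H ≠ ⊤) (p : ℕ) [Fact p.Prime]
    (hidx : H.index = p ∨ H.index = p + 1) (hpG : p ∣ Nat.card G) (P : Sylow p G) :
    2 * Nat.card ↥(normalizer ((P : Subgroup G) : Set G)) ∣ p * (p - 1) := by
  classical
  have hp : p.Prime := Fact.out
  generalize hn : H.index = n at hidx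
  have hex := exists_embedding_alternating hG H hH
  rw [hn] at hex
  obtain ⟨f, hf⟩ := hex
  have hcardα : Fintype.card (Fin n) = p ∨ Fintype.card (Fin n) = p + 1 := by
    rw [Fintype.card_fin]; exact hidx
  have hn2 : 2 ≤ n := by rcases hidx with h | h <;> have := hp.two_le <;> omega
  haveI : Nontrivial (Fin n) := Fin.nontrivial_iff_two_le.mpr hn2
  let φ : G →* Perm (Fin n) := (alternatingGroup (Fin n)).subtype.comp f
  have hφ : Function.Injective φ := fun a b hab => hf (Subtype.ext hab)
  have hφA : ∀ g, φ g ∈ alternatingGroup (Fin n) := fun g => (f g).2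
  -- the image of P is a Sylow subgroup
  obtain ⟨Q', hQ'⟩ := (P.2.map φ).exists_le_sylow
  have hcardP : p ≤ Nat.card (P : Subgroup G) := by
    have hdvd : p ∣ Nat.card (P : Subgroup G) := by
      rw [P.card_eq_multiplicity]
      have hpos : 0 < (Nat.card G).factorization p :=
        hp.factorization_pos_of_dvd Nat.card_pos.ne' hpG
      exact dvd_pow_self p hpos.ne'
    exact Nat.le_of_dvd Nat.card_pos hdvd
  have hmapcard : Nat.card ((P : Subgroup G).map φ) = Nat.card (P : Subgroup G) :=
    Subgroup.card_map_of_injective hφ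
  have hQcard := card_sylow_perm p hcardα Q'
  have hPQ : (P : Subgroup G).map φ = (Q' : Subgroup (Perm (Fin n))) :=
    Subgroup.eq_of_le_of_card_ge hQ' (by rw [hQcard, hmapcard]; exact hcardP)
  have hQA : (Q' : Subgroup (Perm (Fin n))) ≤ alternatingGroup (Fin n) := by
    rw [← hPQ]
    rintro _ ⟨g, -, rfl⟩
    exact hφA g
  have hF := Sylow.normalizer_sup_eq_top' Q' hQA
  have h2 := two_mul_card_inf_normalizer (alternatingGroup (Fin n)) alternatingGroup.index_eq_two
    (Q' : Subgroup (Perm (Fin n))) hF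
  rw [card_normalizer_sylow_perm p hcardα Q'] at h2
  -- the image of N_G(P)
  have hNle : (normalizer ((P : Subgroup G) : Set G)).map φ ≤
      alternatingGroup (Fin n) ⊓ normalizer ((Q' : Subgroup (Perm (Fin n))) : Set (Perm (Fin n))) := by
    apply le_inf
    · rintro _ ⟨g, -, rfl⟩
      exact hφA g
    · rw [← hPQ]
      exact le_normalizer_map φ
  have hNcard : Nat.card ((normalizer ((P : Subgroup G) : Set G)).map φ) =
      Nat.card (normalizer ((P : Subgroup G) : Set G)) := Subgroup.card_map_of_injective hφ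
  have hdvd := Subgroup.card_dvd_of_le hNle
  rw [hNcard] at hdvd
  rw [← h2]
  exact Nat.mul_dvd_mul_left 2 hdvd

end Cfsg.Agent.Helper17
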