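import Mathlib
import Cfsg.Agent.Helper17.LemmaN

set_option autoImplicit false

namespace Cfsg.Agent.Helper17

open Subgroup Equiv

/-- `n! = p * m` with `p ∤ m` for `p ≤ n < 2p`. -/
theorem factorial_eq_prime_mul (p n : ℕ) [hpf : Fact p.Prime] (h1 : p ≤ n) (h2 : n < 2 * p) :
    ∃ m, n.factorial = p ^ 1 * m ∧ ¬ p ∣ m := by
  have hp : p.Prime := Fact.out
  have hval : padicValNat p n.factorial = 1 := by
    have e : n = p * 1 + (n - p) := by omega
    rw [e, padicValNat_factorial_mul_add 1 (by omega), padicValNat_factorial_mul]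
    simp
  have hdvd : p ∣ n.factorial := (Nat.Prime.dvd_factorial hp).mpr h1
  obtain ⟨m, hm⟩ := hdvd
  refine ⟨m, by rw [pow_one]; exact hm, ?_⟩
  intro hpm
  obtain ⟨k, hk⟩ := hpm
  have h2' : p ^ 2 ∣ n.factorial := ⟨k, by rw [hm, hk]; ring⟩
  have := (padicValNat_dvd_iff_le (Nat.factorial_ne_zero n)).mp h2'
  omega

/-- order of Sylow `p`-subgroups of `Perm α` for `p ≤ card α < 2p` -/
theorem card_sylow_perm' {α : Type*} [Fintype α] [DecidableEq α] (p : ℕ) [Fact p.Prime]
    (h1 : p ≤ Fintype.card α) (h2 : Fintype.card α < 2 * p) (Q : Sylow p (Perm α)) :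
    Nat.card (Q : Subgroup (Perm α)) = p := by
  obtain ⟨m, hm1, hm2⟩ := factorial_eq_prime_mul p (Fintype.card α) h1 h2
  have hcardG : Nat.card (Perm α) = p ^ 1 * m := by
    rw [Nat.card_perm, Nat.card_eq_fintype_card, hm1]
  simpa using card_sylow_subgroup_of_card_eq hcardG hm2 Q

theorem card_normalizer_sylow_perm' {α : Type*} [Fintype α] [DecidableEq α] (p : ℕ)
    [Fact p.Prime] (h1 : p ≤ Fintype.card α) (h2 : Fintype.card α < 2 * p)
    (P : Sylow p (Perm α)) :
    Nat.card ↥(normalizer ((P : Subgroup (Perm α)) : Set (Perm α)))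
      = p * (p - 1) * (Fintype.card α - p).factorial := by
  have hp : p.Prime := Fact.out
  have hp2 := hp.two_le
  have hfac : (p - 1 + 1).factorial = (p - 1 + 1) * (p - 1).factorial := Nat.factorial_succ (p - 1)
  have hp1 : p - 1 + 1 = p := by omega
  rw [hp1] at hfac
  have hP : ∀ Q : Sylow p (Perm α), Nat.card (Q : Subgroup (Perm α)) = p :=
    fun Q => card_sylow_perm' p h1 h2 Q
  have hcount := card_orderOf_eq_prime hP
  rw [perm_card_orderOf_eq_prime hp h2 h1] at hcount
  have hN : Nat.card ↥(normalizer ((P : Subgroup (Perm α)) : Set (Perm α))) *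
      Nat.card (Sylow p (Perm α)) = (Fintype.card α).factorial := by
    have := card_normalizer_mul_card_sylow P
    rw [Nat.card_perm, Nat.card_eq_fintype_card (α := α)] at this
    exact this
  generalize Nat.card ↥(normalizer ((P : Subgroup (Perm α)) : Set (Perm α))) = N at hN ⊢
  generalize Nat.card (Sylow p (Perm α)) = s at hN hcount
  generalize Fintype.card α = n at *
  have hch := Nat.choose_mul_factorial_mul_factorial h1
  have hfpos : 0 < (p - 1).factorial := Nat.factorial_pos _
  have hcpos : 0 < n.choose p := Nat.choose_pos h1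
  have hpos : 0 < (p - 1).factorial * n.choose p := Nat.mul_pos hfpos hcpos
  have : N * ((p - 1).factorial * n.choose p)
      = (p * (p - 1) * (n - p).factorial) * ((p - 1).factorial * n.choose p) := by
    calc N * ((p - 1).factorial * n.choose p) = N * (s * (p - 1)) := by rw [hcount]
      _ = (N * s) * (p - 1) := by ring
      _ = n.factorial * (p - 1) := by rw [hN]
      _ = (n.choose p * p.factorial * (n - p).factorial) * (p - 1) := by rw [hch]
      _ = (n.choose p * (p * (p - 1).factorial) * (n - p).factorial) * (p - 1) := by rw [hfac]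
      _ = _ := by ring
  exact Nat.eq_of_mul_eq_mul_right hpos this

/-- **Lemma N'**: if a non-abelian simple group has a proper subgroup of index `n`, `p ≤ n < 2p`
(`p` a prime dividing `|G|`), then `2 * |N_G(P)|` divides `p * (p - 1) * (n - p)!`. -/
theorem two_mul_card_normalizer_dvd_of_index' {G : Type*} [Group G] [Finite G] [IsSimpleGroup G]
    (hG : ¬ IsMulCommutative G) (H : Subgroup G) (hH : H ≠ ⊤) (p : ℕ) [Fact p.Prime]
    (h1 : p ≤ H.index) (h2 : H.index < 2 * p) (hpG : p ∣ Nat.card G) (P : Sylow p G) :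
    2 * Nat.card ↥(normalizer ((P : Subgroup G) : Set G))
      ∣ p * (p - 1) * (H.index - p).factorial := by
  classical
  have hp : p.Prime := Fact.out
  generalize hn : H.index = n at h1 h2
  have hex := exists_embedding_alternating hG H hH
  rw [hn] at hex
  obtain ⟨f, hf⟩ := hex
  have hc1 : p ≤ Fintype.card (Fin n) := by rw [Fintype.card_fin]; exact h1
  have hc2 : Fintype.card (Fin n) < 2 * p := by rw [Fintype.card_fin]; exact h2
  have hn2 : 2 ≤ n := by have := hp.two_le; omega
  haveI : Nontrivial (Fin n) := Fin.nontrivial_iff_two_le.mpr hn2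
  let φ : G →* Perm (Fin n) := (alternatingGroup (Fin n)).subtype.comp f
  have hφ : Function.Injective φ := fun a b hab => hf (Subtype.ext hab)
  have hφA : ∀ g, φ g ∈ alternatingGroup (Fin n) := fun g => (f g).2
  obtain ⟨Q', hQ'⟩ := (P.2.map φ).exists_le_sylow
  have hcardP : p ≤ Nat.card (P : Subgroup G) := by
    have hdvd : p ∣ Nat.card (P : Subgroup G) := by
      rw [P.card_eq_multiplicity]
      have hpos : 0 < (Nat.card G).factorization p :=
        hp.factorization_pos_of_dvd Nat.card_pos.ne' hpG
      exact dvd_pow_self p hpos.ne'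
    exact Nat.le_of_dvd Nat.card_pos hdvd
  have hmapcard : Nat.card ((P : Subgroup G).map φ) = Nat.card (P : Subgroup G) :=
    Subgroup.card_map_of_injective hφ
  have hQcard := card_sylow_perm' p hc1 hc2 Q'
  have hPQ : (P : Subgroup G).map φ = (Q' : Subgroup (Perm (Fin n))) :=
    Subgroup.eq_of_le_of_card_ge hQ' (by rw [hQcard, hmapcard]; exact hcardP)
  have hQA : (Q' : Subgroup (Perm (Fin n))) ≤ alternatingGroup (Fin n) := by
    rw [← hPQ]
    rintro _ ⟨g, -, rfl⟩
    exact hφA g
  have hF := Sylow.normalizer_sup_eq_top' Q' hQA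
  have h2' := two_mul_card_inf_normalizer (alternatingGroup (Fin n)) alternatingGroup.index_eq_two
    (Q' : Subgroup (Perm (Fin n))) hF
  rw [card_normalizer_sylow_perm' p hc1 hc2 Q', Fintype.card_fin] at h2'
  have hNle : (normalizer ((P : Subgroup G) : Set G)).map φ ≤
      alternatingGroup (Fin n) ⊓ normalizer ((Q' : Subgroup (Perm (Fin n))) : Set (Perm (Fin n))) := by
    apply le_inf
    · rintro _ ⟨g, -, rfl⟩
      exact hφA g
    · rw [← hPQ]
      exact le_normalizer_map φ
  have hNcard : Nat.card ((normalizer ((P : Subgroup G) : Set G)).map φ) =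
      Nat.card (normalizer ((P : Subgroup G) : Set G)) := Subgroup.card_map_of_injective hφ
  have hdvd := Subgroup.card_dvd_of_le hNle
  rw [hNcard] at hdvd
  rw [← h2']
  exact Nat.mul_dvd_mul_left 2 hdvd

end Cfsg.Agent.Helper17
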