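import Mathlib
import Cfsg.Agent.Helper17.LemmaN2
import Cfsg.Agent.Helper17.SylowKit2
import Cfsg.Agent.Helper17.MaxInter
import Cfsg.Agent.Helper17.FixedCosets

set_option autoImplicit false

namespace Cfsg.Agent.Helper17

open Subgroup

variable {G : Type*} [Group G]

/-- For a Sylow `p`-subgroup `P ≤ H`: `n_p(H) * |H ⊓ N_G(P)| = |H|`. -/
theorem card_sylow_of_le [Finite G] {p : ℕ} [Fact p.Prime] (P : Sylow p G) (H : Subgroup G)
    (hPH : (P : Subgroup G) ≤ H) :
    Nat.card (Sylow p H) * Nat.card (H ⊓ normalizer ((P : Subgroup G) : Set G) : Subgroup G)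
      = Nat.card H := by
  have h1 := Sylow.card_eq_index_normalizer (P.subtype hPH)
  have h2 := Subgroup.card_mul_index (normalizer ((P.subtype hPH : Sylow p H) : Set H))
  rw [← h1] at h2
  have h3 : normalizer ((P.subtype hPH : Sylow p H) : Set H)
      = (normalizer ((P : Subgroup G) : Set G)).subgroupOf H := by
    have := (Subgroup.subgroupOf_normalizer_eq hPH).symm
    rw [← Sylow.coe_subtype] at this
    exact this
  have h4 : Nat.card ↥((normalizer ((P : Subgroup G) : Set G)).subgroupOf H) =
      Nat.card ↥(H ⊓ normalizer ((P : Subgroup G) : Set G) : Subgroup G) := by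
    rw [inf_comm, ← inf_subgroupOf_right]
    exact Nat.card_congr (subgroupOfEquivOfLe inf_le_right).toEquiv
  rw [h3, h4] at h2
  rw [mul_comm]
  exact h2

/-- Two subgroups of `T` whose orders multiply to more than `|T|` meet non-trivially. -/
theorem inf_ne_bot_of_card_lt {A B T : Subgroup G} [Finite T] (hA : A ≤ T) (hB : B ≤ T)
    (h : Nat.card T < Nat.card A * Nat.card B) : A ⊓ B ≠ ⊥ := by
  intro hbot
  let f : A × B → T := fun x => ⟨x.1.1 * x.2.1, T.mul_mem (hA x.1.2) (hB x.2.2)⟩
  have hf : Function.Injective f := by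
    rintro ⟨a, b⟩ ⟨a', b'⟩ hab
    have h1 : a.1 * b.1 = a'.1 * b'.1 := congrArg Subtype.val hab
    have h2 : a'.1⁻¹ * a.1 = b'.1 * b.1⁻¹ := by
      calc a'.1⁻¹ * a.1 = a'.1⁻¹ * (a.1 * b.1) * b.1⁻¹ := by group
        _ = a'.1⁻¹ * (a'.1 * b'.1) * b.1⁻¹ := by rw [h1]
        _ = b'.1 * b.1⁻¹ := by group
    have h3 : a'.1⁻¹ * a.1 ∈ A ⊓ B := by
      refine ⟨A.mul_mem (A.inv_mem a'.2) a.2, ?_⟩
      rw [h2]
      exact B.mul_mem b'.2 (B.inv_mem b.2)
    rw [hbot, Subgroup.mem_bot] at h3
    have h4 : a.1 = a'.1 := by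
      have : a.1 = a'.1 * (a'.1⁻¹ * a.1) := by group
      rw [this, h3, mul_one]
    have h5 : b.1 = b'.1 := by
      have h6 : b'.1 * b.1⁻¹ = 1 := by rw [← h2, h3]
      have : b.1 = (b'.1 * b.1⁻¹)⁻¹ * b'.1 := by group
      rw [this, h6]; group
    exact Prod.ext (Subtype.ext h4) (Subtype.ext h5)
  haveI : Finite A := Finite.of_injective (fun a : A => (⟨a.1, hA a.2⟩ : T))
    (fun a b hab => Subtype.ext (congrArg (fun t : T => t.1) hab))
  haveI : Finite B := Finite.of_injective (fun a : B => (⟨a.1, hB a.2⟩ : T))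
    (fun a b hab => Subtype.ext (congrArg (fun t : T => t.1) hab))
  have := Nat.card_le_card_of_injective f hf
  rw [Nat.card_prod] at this
  omega

/-- If conjugation by `g` maps the finite subgroup `K` into itself, `g` normalizes `K`. -/
theorem mem_normalizer_of_conj_mem {K : Subgroup G} [Finite K] {g : G}
    (h : ∀ x ∈ K, g * x * g⁻¹ ∈ K) : g ∈ normalizer (K : Set G) := by
  have hmap : K.map (MulAut.conj g).toMonoidHom ≤ K := by
    rintro _ ⟨x, hx, rfl⟩
    simpa [MulAut.conj_apply] using h x hx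
  have hmapeq : K.map (MulAut.conj g).toMonoidHom = K :=
    Subgroup.eq_of_le_of_card_ge hmap
      (by rw [Subgroup.card_map_of_injective (MulAut.conj g).injective])
  rw [Subgroup.mem_normalizer_iff]
  intro y
  constructor
  · intro hy
    exact h y hy
  · intro hy
    rw [← hmapeq] at hy
    obtain ⟨z, hz, hzy⟩ := hy
    have : z = y := by
      have h1 : g * z * g⁻¹ = g * y * g⁻¹ := by simpa [MulAut.conj_apply] using hzy
      have h2 := congrArg (fun t => g⁻¹ * t * g) h1
      simpa [mul_assoc] using h2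
    rw [← this]; exact hz

/-- A non-abelian simple group has trivial centre. -/
theorem eq_one_of_mem_center_of_simple [IsSimpleGroup G] (hG : ¬ IsMulCommutative G) {w : G}
    (hw : w ∈ center G) : w = 1 := by
  rcases (inferInstance : (center G).Normal).eq_bot_or_eq_top with hb | ht
  · rw [hb, Subgroup.mem_bot] at hw
    exact hw
  · exfalso
    apply hG
    refine ⟨⟨fun a b => ?_⟩⟩
    have : a ∈ center G := by rw [ht]; exact Subgroup.mem_top a
    exact ((Subgroup.mem_center_iff.mp this) b).symm

/-- In a non-abelian simple group the centralizer of a non-identity element is proper. -/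
theorem centralizer_ne_top_of_simple [IsSimpleGroup G] (hG : ¬ IsMulCommutative G) {w : G}
    (hw : w ≠ 1) : centralizer ({w} : Set G) ≠ ⊤ := by
  intro h
  apply hw
  apply eq_one_of_mem_center_of_simple hG
  rw [Subgroup.mem_center_iff]
  intro b
  have : b ∈ centralizer ({w} : Set G) := by rw [h]; exact Subgroup.mem_top b
  exact (Subgroup.mem_centralizer_singleton_iff.mp this)

end Cfsg.Agent.Helper17
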