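import Mathlib
import Cfsg.Agent.Helper17.Invol
import Cfsg.Agent.Helper17.VTrick

set_option autoImplicit false

namespace Cfsg.Agent.Helper17

open Subgroup

variable {G : Type*} [Group G]

/-- Conjugates of an involution avoid a subgroup of odd prime order. -/
theorem conj_not_mem_of_orderOf_two [Finite G] {K : Subgroup G} {p : ℕ} (hp : p.Prime)
    (hK : Nat.card K = p) (hp2 : p ≠ 2) {t : G} (ht : orderOf t = 2) (g : G) :
    g * t * g⁻¹ ∉ K := by
  intro hmem
  have hord : orderOf (g * t * g⁻¹) = 2 := by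
    have := (MulAut.conj g).orderOf_eq t
    rw [MulAut.conj_apply] at this
    rw [this, ht]
  have := orderOf_dvd_natCard (⟨_, hmem⟩ : K)
  rw [hK, Subgroup.orderOf_mk, hord] at this
  exact hp2 ((Nat.prime_dvd_prime_iff_eq Nat.prime_two hp).mp this).symm

/-- The dihedral count: if `|K| = p` is an odd prime, `|N(K)| = 2p`, `K` contains the centralizers
of its non-identity elements and `t ∈ N(K)` is an involution, then each `u ∈ K \ {1}` is a product
of two conjugates of `t` in exactly `p` ways. -/
theorem card_involution_pairs [Finite G] (K : Subgroup G) {p : ℕ} [hp : Fact p.Prime]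
    (hK : Nat.card K = p) (hp2 : p ≠ 2)
    (hC : ∀ k ∈ K, k ≠ 1 → centralizer ({k} : Set G) ≤ K)
    (hN : Nat.card (normalizer (K : Set G)) = p * 2) {t u : G}
    (htN : t ∈ normalizer (K : Set G)) (ht : orderOf t = 2) (huK : u ∈ K) (hu1 : u ≠ 1) :
    Nat.card {q : G × G // IsConj t q.1 ∧ IsConj t q.2 ∧ q.1 * q.2 = u} = p := by
  have hpodd : Odd p := hp.out.odd_of_ne_two hp2
  have htt : t * t = 1 := by
    have := pow_orderOf_eq_one t
    rwa [ht, pow_two] at this
  have htinv : t⁻¹ = t := inv_eq_of_mul_eq_one_left htt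
  have htK : t ∉ K := by
    have := conj_not_mem_of_orderOf_two hp.out hK hp2 ht 1
    simpa using this
  have huo : orderOf u = p := by
    have h1 : orderOf u ∣ p := by
      have := orderOf_dvd_natCard (⟨u, huK⟩ : K)
      rwa [hK, Subgroup.orderOf_mk] at this
    rcases (Nat.dvd_prime hp.out).mp h1 with h2 | h2
    · exact absurd (orderOf_eq_one_iff.mp h2) hu1
    · exact h2
  have hKz : K = zpowers u := by
    symm
    apply Subgroup.eq_of_le_of_card_ge (zpowers_le.mpr huK)
    rw [Nat.card_zpowers, huo, hK]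
  -- an involution normalizing K and outside K inverts every element of K
  have hinvK : ∀ x : G, x * x = 1 → x ∈ normalizer (K : Set G) → x ∉ K →
      ∀ k ∈ K, x * k * x⁻¹ = k⁻¹ := by
    intro x hxx hxN hxK
    have hxu : x * u * x⁻¹ = u⁻¹ := by
      have hmem : x * u * x⁻¹ ∈ zpowers u := by
        rw [← hKz]
        exact (Subgroup.mem_normalizer_iff.mp hxN u).mp huK
      rcases conj_eq_or_inv_of_involution huo hxx hmem with h | h
      · exfalso
        apply hxK
        apply hC u huK hu1
        rw [Subgroup.mem_centralizer_singleton_iff]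
        calc x * u = x * u * x⁻¹ * x := by group
          _ = u * x := by rw [h]
      · exact h
    intro k hk
    rw [hKz] at hk
    obtain ⟨i, rfl⟩ := Subgroup.mem_zpowers_iff.mp hk
    rw [← conj_zpow, hxu, inv_zpow]
  -- K has index 2 in N(K)
  have hidx : (K.subgroupOf (normalizer (K : Set G))).index = 2 := by
    have h1 := Subgroup.card_mul_index (K.subgroupOf (normalizer (K : Set G)))
    have h2 : Nat.card (K.subgroupOf (normalizer (K : Set G))) = p := by
      rw [Nat.card_congr (subgroupOfEquivOfLe Subgroup.le_normalizer).toEquiv, hK]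
    rw [h2, hN] at h1
    exact Nat.eq_of_mul_eq_mul_left hp.out.pos h1
  -- every element of N(K) \ K is conjugate to t
  have hconj : ∀ x : G, x ∈ normalizer (K : Set G) → x ∉ K → IsConj t x := by
    intro x hxN hxK
    have hmem := Subgroup.mul_mem_iff_of_index_two hidx
      (a := (⟨x, hxN⟩ : ↥(normalizer (K : Set G)))) (b := (⟨t, htN⟩ : ↥(normalizer (K : Set G))))
    have hxt : x * t ∈ K := by
      have : (⟨x, hxN⟩ : ↥(normalizer (K : Set G))) * ⟨t, htN⟩ ∈
          K.subgroupOf (normalizer (K : Set G)) := by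
        rw [hmem]
        constructor
        · intro hx
          exact absurd (Subgroup.mem_subgroupOf.mp hx) hxK
        · intro hx
          exact absurd (Subgroup.mem_subgroupOf.mp hx) htK
      exact Subgroup.mem_subgroupOf.mp this
    -- x = k * t with k = x * t
    set k := x * t with hk
    have hxk : x = k * t := by
      rw [hk, mul_assoc, htt, mul_one]
    obtain ⟨m, hm⟩ := hpodd
    -- k₁ = k ^ (m + 1) satisfies k₁ ^ 2 = k
    have hkp : k ^ p = 1 := by
      have := pow_card_eq_one' (G := K) (x := ⟨k, hxt⟩)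
      rw [hK] at this
      exact congrArg Subtype.val this
    have hk1 : (k ^ (m + 1)) * (k ^ (m + 1)) = k := by
      rw [← pow_add]
      have : m + 1 + (m + 1) = p + 1 := by omega
      rw [this, pow_succ, hkp, one_mul]
    have hk1K : k ^ (m + 1) ∈ K := K.pow_mem hxt _
    rw [isConj_iff]
    refine ⟨k ^ (m + 1), ?_⟩
    have h1 := hinvK t htt htN htK _ (K.inv_mem hk1K)
    rw [inv_inv] at h1
    -- t * k₁⁻¹ * t⁻¹ = k₁
    calc k ^ (m + 1) * t * (k ^ (m + 1))⁻¹
        = k ^ (m + 1) * (t * (k ^ (m + 1))⁻¹ * t⁻¹) * t := by group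
      _ = k ^ (m + 1) * k ^ (m + 1) * t := by rw [h1]
      _ = x := by rw [hk1, ← hxk]
  -- the bijection with N(K) \ K
  have hcardNK : Nat.card {x : G // x ∈ normalizer (K : Set G) ∧ x ∉ K} = p := by
    have h1 : Nat.card {x : G // x ∈ normalizer (K : Set G) ∧ x ∉ K}
        = (((normalizer (K : Set G) : Subgroup G) : Set G) \ (K : Set G)).ncard := by
      rw [← Nat.card_coe_set_eq]
      rfl
    rw [h1, Set.ncard_sdiff (by exact_mod_cast (Subgroup.le_normalizer : K ≤ normalizer (K : Set G)))
      (Set.toFinite _)]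
    have h2 : ((normalizer (K : Set G) : Subgroup G) : Set G).ncard = p * 2 := by
      rw [← Nat.card_coe_set_eq]; exact hN
    have h3 : (K : Set G).ncard = p := by
      rw [← Nat.card_coe_set_eq]; exact hK
    rw [h2, h3]
    omega
  rw [← hcardNK]
  apply Nat.card_congr
  refine
    { toFun := fun q => ⟨q.1.1, ?_⟩
      invFun := fun x => ⟨(x.1, x.1⁻¹ * u), ?_⟩
      left_inv := ?_
      right_inv := ?_ }
  · obtain ⟨⟨x, y⟩, hx, hy, hxy⟩ := q
    simp only at hx hy hxy ⊢
    have hord : ∀ z : G, IsConj t z → z * z = 1 := by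
      intro z hz
      obtain ⟨c, hc⟩ := isConj_iff.mp hz
      rw [← hc]
      calc c * t * c⁻¹ * (c * t * c⁻¹) = c * (t * t) * c⁻¹ := by group
        _ = 1 := by rw [htt]; group
    have hxx := hord x hx
    have hyy := hord y hy
    have hxinv : x⁻¹ = x := inv_eq_of_mul_eq_one_left hxx
    have hyinv : y⁻¹ = y := inv_eq_of_mul_eq_one_left hyy
    have hxu : x * u * x⁻¹ = u⁻¹ := by
      rw [← hxy, mul_inv_rev, hxinv, hyinv]
      calc x * (x * y) * x = (x * x) * y * x := by group
        _ = y * x := by rw [hxx, one_mul]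
    have hxK : x ∉ K := by
      obtain ⟨c, hc⟩ := isConj_iff.mp hx
      rw [← hc]
      exact conj_not_mem_of_orderOf_two hp.out hK hp2 ht c
    refine ⟨?_, hxK⟩
    apply mem_normalizer_of_conj_mem
    intro k hk
    rw [hKz] at hk ⊢
    obtain ⟨i, rfl⟩ := Subgroup.mem_zpowers_iff.mp hk
    rw [← conj_zpow, hxu]
    exact Subgroup.zpow_mem _ (Subgroup.inv_mem _ (Subgroup.mem_zpowers u)) i
  · obtain ⟨x, hxN, hxK⟩ := x
    simp only
    refine ⟨hconj x hxN hxK, hconj _ ?_ ?_, by group⟩
    · exact Subgroup.mul_mem _ (Subgroup.inv_mem _ hxN) (Subgroup.le_normalizer huK)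
    · intro h
      apply hxK
      have : x⁻¹ ∈ K := by
        have := K.mul_mem h (K.inv_mem huK)
        simpa [mul_assoc] using this
      simpa using K.inv_mem this
  · rintro ⟨⟨x, y⟩, hx, hy, hxy⟩
    apply Subtype.ext
    simp only
    rw [← hxy]
    congr 1
    group
  · rintro ⟨x, hxN, hxK⟩
    rfl

end Cfsg.Agent.Helper17
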