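import Mathlib
import Cfsg.Agent.S0851
import Cfsg.Agent.Helper75.TIFNAbelian

set_option autoImplicit false

namespace Cfsg.Agent.Helper17.Exc

open Cfsg
open scoped ComplexConjugate

universe u

section Generic

variable {X : Type u} [Group X] [Fintype X]

/-- If `A - η B` (`A`, `B` characters, `η` an integer) is constant `= T` off the identity of a
non-trivial group, then `T` is an integer `t` and `A 1 - η B 1 ≡ t` modulo the group order. -/
theorem const_congr (hX : Nontrivial X) {A B : X → ℂ} (hA : IsCharacter X A)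
    (hB : IsCharacter X B) (η : ℤ) {T : ℂ} (hT : ∀ x : X, x ≠ 1 → A x - η * B x = T) :
    ∃ (t : ℤ) (a b : ℕ), T = t ∧ A 1 = a ∧ B 1 = b ∧
      ((a : ℤ) - η * b ≡ t [ZMOD (Nat.card X : ℤ)]) := by
  classical
  obtain ⟨x₀, hx₀⟩ := exists_ne (1 : X)
  have hint : IsIntegral ℤ T := by
    rw [← hT x₀ hx₀]
    refine (Helper75.tf_isIntegral_character hA x₀).sub ?_
    exact (isIntegral_algebraMap (R := ℤ) (A := ℂ) (x := η)).mul
      (Helper75.tf_isIntegral_character hB x₀)
  obtain ⟨nA, hnA⟩ := Helper75.tf_sum_character hA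
  obtain ⟨nB, hnB⟩ := Helper75.tf_sum_character hB
  obtain ⟨a, ha⟩ := Helper74.isCharacter_apply_one hA
  obtain ⟨b, hb⟩ := Helper74.isCharacter_apply_one hB
  have hcard : 1 < Nat.card X := Finite.one_lt_card
  have hsum : ∑ x : X, (A x - η * B x)
      = (A 1 - η * B 1) + ((Nat.card X : ℂ) - 1) * T := by
    rw [← Finset.add_sum_erase Finset.univ _ (Finset.mem_univ (1 : X))]
    congr 1
    rw [Finset.sum_congr rfl (fun x hx => hT x (Finset.ne_of_mem_erase hx)), Finset.sum_const,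
      Finset.card_erase_of_mem (Finset.mem_univ _), Finset.card_univ, nsmul_eq_mul,
      ← Nat.card_eq_fintype_card, Nat.cast_sub hcard.le]
    simp
  rw [Finset.sum_sub_distrib, ← Finset.mul_sum, hnA, hnB, ha, hb] at hsum
  have hne : ((Nat.card X : ℂ) - 1) ≠ 0 := by
    intro h
    have h2 : (Nat.card X : ℂ) = 1 := by linear_combination h
    have h3 : Nat.card X = 1 := by exact_mod_cast h2
    omega
  have hTq : T = ((((Nat.card X : ℚ) * nA - (η : ℚ) * ((Nat.card X : ℚ) * nB)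
      - ((a : ℚ) - η * b)) / ((Nat.card X : ℚ) - 1) : ℚ) : ℂ) := by
    push_cast
    rw [eq_div_iff hne]
    linear_combination -hsum
  obtain ⟨t, ht⟩ := Helper75.tf_int_of_rat_integral _ hTq hint
  refine ⟨t, a, b, ht, ha, hb, ?_⟩
  rw [ht] at hsum
  have hZ : ((Nat.card X : ℤ) * nA - η * ((Nat.card X : ℤ) * nB) : ℤ)
      = ((a : ℤ) - η * b) + ((Nat.card X : ℤ) - 1) * t := by
    have : (((Nat.card X : ℤ) * nA - η * ((Nat.card X : ℤ) * nB) : ℤ) : ℂ)
        = ((((a : ℤ) - η * b) + ((Nat.card X : ℤ) - 1) * t : ℤ) : ℂ) := by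
      push_cast
      exact hsum
    exact_mod_cast this
  rw [Int.modEq_iff_dvd]
  refine ⟨t - nA + η * nB, ?_⟩
  linear_combination hZ

end Generic

section NSide

variable {G : Type u} [Group G] [Fintype G] (K : Subgroup G)

/-- the "relevant" predicate, as in S0851 -/
abbrev RelPred (χ : IrrCharacter ↥(Subgroup.normalizer (K : Set G))) : Prop :=
  ∃ k : Subgroup.normalizer (K : Set G), (k : G) ∈ K ∧
    (χ : ↥(Subgroup.normalizer (K : Set G)) → ℂ) k
      ≠ (χ : ↥(Subgroup.normalizer (K : Set G)) → ℂ) 1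

/-- the relevant characters of the normalizer -/
abbrev Rel := {χ : IrrCharacter ↥(Subgroup.normalizer (K : Set G)) // RelPred K χ}

variable {K}
variable [Fintype ↥(Subgroup.normalizer (K : Set G))]

theorem rel_degree (hC : ∀ k ∈ K, k ≠ 1 → Subgroup.centralizer ({k} : Set G) ≤ K)
    (hab : ∀ a ∈ K, ∀ b ∈ K, a * b = b * a) (χ : Rel K) :
    (χ.1 : ↥(Subgroup.normalizer (K : Set G)) → ℂ) 1
      = ((K.subgroupOf (Subgroup.normalizer (K : Set G))).index : ℂ) :=
  Helper75.tf_rel_degree hC hab ⟨χ.1.2, χ.2⟩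

theorem rel_count (hC : ∀ k ∈ K, k ≠ 1 → Subgroup.centralizer ({k} : Set G) ≤ K)
    (hab : ∀ a ∈ K, ∀ b ∈ K, a * b = b * a) :
    Nat.card (Rel K) * (K.subgroupOf (Subgroup.normalizer (K : Set G))).index + 1
      = Nat.card K := by
  have hle : K ≤ Subgroup.normalizer (K : Set G) := Subgroup.le_normalizer
  have hcount := Helper75.tf_count (K.subgroupOf (Subgroup.normalizer (K : Set G)))
    (fun χ hχ => by
      obtain ⟨k, hk, hne⟩ := hχ
      exact Helper75.tf_rel_degree hC hab ⟨χ.2, k, Subgroup.mem_subgroupOf.mp hk, hne⟩)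
  have hKK' : Nat.card (K.subgroupOf (Subgroup.normalizer (K : Set G))) = Nat.card K :=
    Nat.card_congr (Subgroup.subgroupOfEquivOfLe hle).toEquiv
  rw [← hKK', ← hcount]
  rfl

omit [Fintype G] [Fintype ↥(Subgroup.normalizer (K : Set G))] in
theorem centralizer_eq (hC : ∀ k ∈ K, k ≠ 1 → Subgroup.centralizer ({k} : Set G) ≤ K)
    (hab : ∀ a ∈ K, ∀ b ∈ K, a * b = b * a) {k : G} (hk : k ∈ K) (hk1 : k ≠ 1) :
    Subgroup.centralizer ({k} : Set G) = K := by
  apply le_antisymm (hC k hk hk1)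
  intro z hz
  rw [Subgroup.mem_centralizer_singleton_iff]
  exact hab _ hz _ hk

variable [Fintype (IrrCharacter ↥(Subgroup.normalizer (K : Set G)))]
  [DecidablePred (RelPred K)]

theorem nside_sums (hC : ∀ k ∈ K, k ≠ 1 → Subgroup.centralizer ({k} : Set G) ≤ K)
    (hab : ∀ a ∈ K, ∀ b ∈ K, a * b = b * a)
    (k : ↥(Subgroup.normalizer (K : Set G))) (hk : (k : G) ∈ K) (hk1 : k ≠ 1) :
    (∑ χ : Rel K, (χ.1 : ↥(Subgroup.normalizer (K : Set G)) → ℂ) k = -1) ∧
    (∑ χ : Rel K, (χ.1 : ↥(Subgroup.normalizer (K : Set G)) → ℂ) k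
        * conj ((χ.1 : ↥(Subgroup.normalizer (K : Set G)) → ℂ) k)
      = (Nat.card K : ℂ) - ((K.subgroupOf (Subgroup.normalizer (K : Set G))).index : ℂ)) := by
  classical
  have hle : K ≤ Subgroup.normalizer (K : Set G) := Subgroup.le_normalizer
  set e : ℂ := ((K.subgroupOf (Subgroup.normalizer (K : Set G))).index : ℂ) with he
  have he0 : e ≠ 0 := by
    have : (K.subgroupOf (Subgroup.normalizer (K : Set G))).index ≠ 0 :=
      Subgroup.index_ne_zero_of_finite
    rw [he]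
    exact_mod_cast this
  have hdeg : ∀ χ : Rel K, (χ.1 : ↥(Subgroup.normalizer (K : Set G)) → ℂ) 1 = e :=
    fun χ => rel_degree hC hab χ
  have hirr : ∀ χ : {χ : IrrCharacter ↥(Subgroup.normalizer (K : Set G)) // ¬ RelPred K χ},
      ∀ k : ↥(Subgroup.normalizer (K : Set G)), (k : G) ∈ K →
        (χ.1 : ↥(Subgroup.normalizer (K : Set G)) → ℂ) k
          = (χ.1 : ↥(Subgroup.normalizer (K : Set G)) → ℂ) 1 := by
    intro χ k hk
    by_contra h
    exact χ.2 ⟨k, hk, h⟩
  have hcount := rel_count hC hab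
  have hc : (Nat.card (Rel K) : ℂ) * e + 1 = (Nat.card K : ℂ) := by
    rw [he]
    exact_mod_cast hcount
  have htot := Helper74.sum_irr_degree_sq (G := ↥(Subgroup.normalizer (K : Set G)))
  have hsplit1 := Fintype.sum_subtype_add_sum_subtype (RelPred K)
    (fun χ : IrrCharacter ↥(Subgroup.normalizer (K : Set G)) =>
      (χ : ↥(Subgroup.normalizer (K : Set G)) → ℂ) 1 * (χ : ↥(Subgroup.normalizer (K : Set G)) → ℂ) 1)
  have hrel : ∑ χ : Rel K, ((χ.1 : ↥(Subgroup.normalizer (K : Set G)) → ℂ) 1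
      * (χ.1 : ↥(Subgroup.normalizer (K : Set G)) → ℂ) 1)
      = (Nat.card (Rel K) : ℂ) * (e * e) := by
    rw [Finset.sum_congr rfl (fun χ _ => by rw [hdeg χ]), Finset.sum_const, Finset.card_univ,
      nsmul_eq_mul, Nat.card_eq_fintype_card]
  have hNK : (Nat.card ↥(Subgroup.normalizer (K : Set G)) : ℂ) = (Nat.card K : ℂ) * e := by
    have h1 := (K.subgroupOf (Subgroup.normalizer (K : Set G))).card_mul_index
    have hKK' : Nat.card (K.subgroupOf (Subgroup.normalizer (K : Set G))) = Nat.card K :=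
      Nat.card_congr (Subgroup.subgroupOfEquivOfLe hle).toEquiv
    rw [hKK'] at h1
    rw [he, ← h1]
    push_cast
    ring
  have hA : ∑ χ : {χ : IrrCharacter ↥(Subgroup.normalizer (K : Set G)) // ¬ RelPred K χ},
      ((χ.1 : ↥(Subgroup.normalizer (K : Set G)) → ℂ) 1
        * (χ.1 : ↥(Subgroup.normalizer (K : Set G)) → ℂ) 1) = e := by
    rw [hrel, htot, hNK] at hsplit1
    linear_combination hsplit1 - e * hc
  constructor
  · have h0 := Helper75.tf_sum_degree_mul (N := ↥(Subgroup.normalizer (K : Set G))) hk1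
    have hsplit2 := Fintype.sum_subtype_add_sum_subtype (RelPred K)
      (fun χ : IrrCharacter ↥(Subgroup.normalizer (K : Set G)) =>
        (χ : ↥(Subgroup.normalizer (K : Set G)) → ℂ) 1
          * (χ : ↥(Subgroup.normalizer (K : Set G)) → ℂ) k)
    rw [h0] at hsplit2
    have h1 : ∑ χ : Rel K, ((χ.1 : ↥(Subgroup.normalizer (K : Set G)) → ℂ) 1
        * (χ.1 : ↥(Subgroup.normalizer (K : Set G)) → ℂ) k)
        = e * ∑ χ : Rel K, (χ.1 : ↥(Subgroup.normalizer (K : Set G)) → ℂ) k := by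
      rw [Finset.mul_sum]
      exact Finset.sum_congr rfl (fun χ _ => by rw [hdeg χ])
    have h2 : ∑ χ : {χ : IrrCharacter ↥(Subgroup.normalizer (K : Set G)) // ¬ RelPred K χ},
        ((χ.1 : ↥(Subgroup.normalizer (K : Set G)) → ℂ) 1
          * (χ.1 : ↥(Subgroup.normalizer (K : Set G)) → ℂ) k) = e := by
      rw [← hA]
      exact Finset.sum_congr rfl (fun χ _ => by rw [hirr χ k hk])
    rw [h1, h2] at hsplit2
    have h3 : e * (∑ χ : Rel K, (χ.1 : ↥(Subgroup.normalizer (K : Set G)) → ℂ) k + 1) = 0 := by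
      linear_combination hsplit2
    rcases mul_eq_zero.mp h3 with h4 | h4
    · exact absurd h4 he0
    · linear_combination h4
  · have h0 := Helper74.second_orthogonality (G := ↥(Subgroup.normalizer (K : Set G))) k k
    rw [if_pos (IsConj.refl k)] at h0
    have hsplit2 := Fintype.sum_subtype_add_sum_subtype (RelPred K)
      (fun χ : IrrCharacter ↥(Subgroup.normalizer (K : Set G)) =>
        (χ : ↥(Subgroup.normalizer (K : Set G)) → ℂ) k
          * conj ((χ : ↥(Subgroup.normalizer (K : Set G)) → ℂ) k))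
    rw [h0] at hsplit2
    have h2 : ∑ χ : {χ : IrrCharacter ↥(Subgroup.normalizer (K : Set G)) // ¬ RelPred K χ},
        ((χ.1 : ↥(Subgroup.normalizer (K : Set G)) → ℂ) k
          * conj ((χ.1 : ↥(Subgroup.normalizer (K : Set G)) → ℂ) k)) = e := by
      rw [← hA]
      exact Finset.sum_congr rfl (fun χ _ => by
        rw [hirr χ k hk, Helper75.tf_conj_apply_one])
    have hcent : Subgroup.centralizer ({k} : Set ↥(Subgroup.normalizer (K : Set G)))
        = K.subgroupOf (Subgroup.normalizer (K : Set G)) := by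
      have hk1' : (k : G) ≠ 1 := fun h => hk1 (Subtype.ext h)
      apply le_antisymm (Helper75.tf_hC' hC k (Subgroup.mem_subgroupOf.mpr hk) hk1)
      intro z hz
      rw [Subgroup.mem_centralizer_singleton_iff]
      apply Subtype.ext
      exact hab _ (Subgroup.mem_subgroupOf.mp hz) _ hk
    have hKK' : Nat.card (K.subgroupOf (Subgroup.normalizer (K : Set G))) = Nat.card K :=
      Nat.card_congr (Subgroup.subgroupOfEquivOfLe hle).toEquiv
    rw [hcent, hKK', h2] at hsplit2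
    linear_combination hsplit2

end NSide

section GSide

variable {G : Type u} [Group G] [Fintype G] {K : Subgroup G}
  [Fintype ↥(Subgroup.normalizer (K : Set G))]

/-- A class function `Ψ` of `G` and a class function `β` of the normalizer whose inner products
with `ε (f χ - f ξ)` resp. `χ - ξ` agree differ by a constant on `K \ {1}`. -/
theorem const_of_orth (hC : ∀ k ∈ K, k ≠ 1 → Subgroup.centralizer ({k} : Set G) ≤ K)
    (hab : ∀ a ∈ K, ∀ b ∈ K, a * b = b * a) {ε : ℂ} {f : Rel K → IrrCharacter G}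
    (hf : ∀ χ ξ : Rel K, indFun (Subgroup.normalizer (K : Set G))
      ((χ.1 : ↥(Subgroup.normalizer (K : Set G)) → ℂ)
        - (ξ.1 : ↥(Subgroup.normalizer (K : Set G)) → ℂ))
      = ε • ((f χ : G → ℂ) - (f ξ : G → ℂ)))
    {Ψ : G → ℂ} (hΨ : IsClassFunction G Ψ)
    {β : ↥(Subgroup.normalizer (K : Set G)) → ℂ} (hβ : IsClassFunction _ β)
    (h : ∀ χ ξ : Rel K, classInner Ψ (ε • ((f χ : G → ℂ) - (f ξ : G → ℂ)))
      = classInner β ((χ.1 : ↥(Subgroup.normalizer (K : Set G)) → ℂ)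
        - (ξ.1 : ↥(Subgroup.normalizer (K : Set G)) → ℂ))) :
    ∃ T : ℂ, ∀ k : ↥(Subgroup.normalizer (K : Set G)), (k : G) ∈ K → k ≠ 1 →
      Ψ k - β k = T := by
  have hΔ : IsClassFunction ↥(Subgroup.normalizer (K : Set G))
      ((fun x : ↥(Subgroup.normalizer (K : Set G)) => Ψ x) - β) := by
    refine Helper74.isClassFunction_sub ?_ hβ
    intro g x
    exact hΨ g x
  obtain ⟨T, hT⟩ := Helper75.tf_key (K.subgroupOf (Subgroup.normalizer (K : Set G))) hΔ (by
    intro ζ ζ' hζ hζ'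
    have hζR : RelPred K ζ := by
      obtain ⟨k, hk, hne⟩ := hζ
      exact ⟨k, Subgroup.mem_subgroupOf.mp hk, hne⟩
    have hζ'R : RelPred K ζ' := by
      obtain ⟨k, hk, hne⟩ := hζ'
      exact ⟨k, Subgroup.mem_subgroupOf.mp hk, hne⟩
    have hd := rel_degree hC hab (⟨ζ, hζR⟩ : Rel K)
    have hd' := rel_degree hC hab (⟨ζ', hζ'R⟩ : Rel K)
    simp only at hd hd'
    rw [hd, hd', ← smul_sub, Helper15.classInner_smul_right, Helper15.classInner_sub_left,
      ← Helper15.frobenius_reciprocity' _ _ Ψ hΨ, hf ⟨ζ, hζR⟩ ⟨ζ', hζ'R⟩,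
      h ⟨ζ, hζR⟩ ⟨ζ', hζ'R⟩, sub_self, mul_zero])
  refine ⟨T, fun k hk hk1 => ?_⟩
  have := hT k (Subgroup.mem_subgroupOf.mpr hk) hk1
  simpa using this

end GSide

section Values

variable {G : Type u} [Group G] [Fintype G]

/-- The data produced by the second alternative of S0851, with an integral sign. -/
structure ExcData (K : Subgroup G) where
  hTI : ∀ g : G, g ∉ Subgroup.normalizer (K : Set G) → ∀ k ∈ K, g * k * g⁻¹ ∈ K → k = 1
  hC : ∀ k ∈ K, k ≠ 1 → Subgroup.centralizer ({k} : Set G) ≤ K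
  hab : ∀ a ∈ K, ∀ b ∈ K, a * b = b * a
  ε : ℤ
  hε : ε = 1 ∨ ε = -1
  f : Rel K → IrrCharacter G
  hinj : Function.Injective f
  hf : ∀ χ ξ : Rel K, indFun (Subgroup.normalizer (K : Set G))
      ((χ.1 : ↥(Subgroup.normalizer (K : Set G)) → ℂ)
        - (ξ.1 : ↥(Subgroup.normalizer (K : Set G)) → ℂ))
      = (ε : ℂ) • ((f χ : G → ℂ) - (f ξ : G → ℂ))

variable {K : Subgroup G} [Fintype ↥(Subgroup.normalizer (K : Set G))] (D : ExcData K)

omit [Fintype ↥(Subgroup.normalizer (K : Set G))] in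
theorem ExcData.eps_sq : ((D.ε : ℂ)) * (D.ε : ℂ) = 1 := by
  rcases D.hε with h | h <;> rw [h] <;> norm_num

omit [Fintype ↥(Subgroup.normalizer (K : Set G))] in
theorem ExcData.conj_eps : conj (D.ε : ℂ) = (D.ε : ℂ) := by
  simp

/-- A non-exceptional irreducible character is constant on `K \ {1}`. -/
theorem ExcData.nonexc_const (ψ : IrrCharacter G) (hψ : ∀ χ : Rel K, D.f χ ≠ ψ) :
    ∃ T : ℂ, ∀ k : ↥(Subgroup.normalizer (K : Set G)), (k : G) ∈ K → k ≠ 1 →
      (ψ : G → ℂ) k = T := by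
  have h0 : IsClassFunction ↥(Subgroup.normalizer (K : Set G))
      (0 : ↥(Subgroup.normalizer (K : Set G)) → ℂ) := fun _ _ => rfl
  obtain ⟨T, hT⟩ := const_of_orth D.hC D.hab D.hf (Helper74.irr_isClassFunction ψ) h0 (by
    intro χ ξ
    rw [Helper15.classInner_smul_right, Helper15.classInner_sub_right,
      Helper74.irr_inner_ne (hψ χ).symm, Helper74.irr_inner_ne (hψ ξ).symm,
      Helper15.classInner_zero_left]
    ring)
  refine ⟨T, fun k hk hk1 => ?_⟩
  have := hT k hk hk1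
  simpa using this

/-- An exceptional character differs from `ε χ` by a constant on `K \ {1}`. -/
theorem ExcData.exc_const (χ₀ : Rel K) :
    ∃ T : ℂ, ∀ k : ↥(Subgroup.normalizer (K : Set G)), (k : G) ∈ K → k ≠ 1 →
      (D.f χ₀ : G → ℂ) k - (D.ε : ℂ) * (χ₀.1 : ↥(Subgroup.normalizer (K : Set G)) → ℂ) k = T := by
  classical
  have hβ : IsClassFunction ↥(Subgroup.normalizer (K : Set G))
      ((D.ε : ℂ) • (χ₀.1 : ↥(Subgroup.normalizer (K : Set G)) → ℂ)) :=
    Helper74.isClassFunction_smul _ (Helper74.irr_isClassFunction χ₀.1)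
  have key : ∀ χ : Rel K, classInner (D.f χ₀ : G → ℂ) (D.f χ : G → ℂ)
      = classInner (χ₀.1 : ↥(Subgroup.normalizer (K : Set G)) → ℂ)
          (χ.1 : ↥(Subgroup.normalizer (K : Set G)) → ℂ) := by
    intro χ
    by_cases hχ : χ₀ = χ
    · subst hχ
      rw [Helper74.irr_inner_self, Helper74.irr_inner_self]
    · have h1 : D.f χ₀ ≠ D.f χ := fun h => hχ (D.hinj h)
      have h2 : χ₀.1 ≠ χ.1 := fun h => hχ (Subtype.ext h)
      rw [Helper74.irr_inner_ne h1, Helper74.irr_inner_ne h2]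
  obtain ⟨T, hT⟩ := const_of_orth D.hC D.hab D.hf (Helper74.irr_isClassFunction (D.f χ₀)) hβ (by
    intro χ ξ
    rw [Helper15.classInner_smul_right, Helper15.classInner_sub_right, key χ, key ξ,
      Helper15.classInner_smul_left, Helper15.classInner_sub_right, D.conj_eps])
  refine ⟨T, fun k hk hk1 => ?_⟩
  have := hT k hk hk1
  simpa using this

/-- The constant of `exc_const` does not depend on the character. -/
theorem ExcData.exc_const_eq (χ ξ : Rel K) {T T' : ℂ}
    (hT : ∀ k : ↥(Subgroup.normalizer (K : Set G)), (k : G) ∈ K → k ≠ 1 →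
      (D.f χ : G → ℂ) k - (D.ε : ℂ) * (χ.1 : ↥(Subgroup.normalizer (K : Set G)) → ℂ) k = T)
    (hT' : ∀ k : ↥(Subgroup.normalizer (K : Set G)), (k : G) ∈ K → k ≠ 1 →
      (D.f ξ : G → ℂ) k - (D.ε : ℂ) * (ξ.1 : ↥(Subgroup.normalizer (K : Set G)) → ℂ) k = T') :
    T = T' := by
  obtain ⟨k, hk, hne⟩ := χ.2
  have hk1 : k ≠ 1 := fun h => hne (by rw [h])
  have hαcf : IsClassFunction ↥(Subgroup.normalizer (K : Set G))
      ((χ.1 : ↥(Subgroup.normalizer (K : Set G)) → ℂ)
        - (ξ.1 : ↥(Subgroup.normalizer (K : Set G)) → ℂ)) :=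
    Helper74.isClassFunction_sub (Helper74.irr_isClassFunction χ.1)
      (Helper74.irr_isClassFunction ξ.1)
  have hαvan : ∀ x : ↥(Subgroup.normalizer (K : Set G)), (x : G) ∉ K →
      ((χ.1 : ↥(Subgroup.normalizer (K : Set G)) → ℂ)
        - (ξ.1 : ↥(Subgroup.normalizer (K : Set G)) → ℂ)) x = 0 := by
    intro x hx
    rw [Pi.sub_apply, Helper75.tf_vanish D.hC ⟨χ.1.2, χ.2⟩ x hx,
      Helper75.tf_vanish D.hC ⟨ξ.1.2, ξ.2⟩ x hx, sub_zero]
  have h2 := Helper75.tf_indFun_apply K (Subgroup.normalizer (K : Set G)) D.hTI hαcf hαvan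
    k hk hk1
  have h3 := congrFun (D.hf χ ξ) (k : G)
  rw [h2, Pi.sub_apply, Pi.smul_apply, Pi.sub_apply, smul_eq_mul] at h3
  have h4 := hT k hk hk1
  have h5 := hT' k hk hk1
  have h6 := D.eps_sq
  have h7 : (D.ε : ℂ) * (T - T') = 0 := by
    linear_combination (-1 : ℂ) * h3 - (D.ε : ℂ) * h4 + (D.ε : ℂ) * h5
      - ((χ.1 : ↥(Subgroup.normalizer (K : Set G)) → ℂ) k
        - (ξ.1 : ↥(Subgroup.normalizer (K : Set G)) → ℂ) k) * h6
  rcases mul_eq_zero.mp h7 with h8 | h8
  · exfalso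
    rw [h8] at h6
    norm_num at h6
  · linear_combination h8

end Values

end Cfsg.Agent.Helper17.Exc
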