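import Mathlib
import Cfsg.Agent.Helper17.ExcChar

set_option autoImplicit false

namespace Cfsg.Agent.Helper17.Exc

open Cfsg
open scoped ComplexConjugate

universe u

section Integral

variable {G : Type u} [Group G] [Fintype G] {K : Subgroup G}
  [Fintype ↥(Subgroup.normalizer (K : Set G))] (D : ExcData K)

omit [Fintype G] [Fintype ↥(Subgroup.normalizer (K : Set G))] in
theorem card_subgroupOf_normalizer :
    Nat.card (K.subgroupOf (Subgroup.normalizer (K : Set G))) = Nat.card K :=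
  Nat.card_congr (Subgroup.subgroupOfEquivOfLe Subgroup.le_normalizer).toEquiv

/-- Values and degree congruence of a non-exceptional character. -/
theorem ExcData.nonexc_int (ψ : IrrCharacter G) (hψ : ∀ χ : Rel K, D.f χ ≠ ψ)
    (k₀ : ↥(Subgroup.normalizer (K : Set G))) (hk₀ : (k₀ : G) ∈ K) (hk₀1 : k₀ ≠ 1) :
    ∃ a : ℤ, (∀ k : ↥(Subgroup.normalizer (K : Set G)), (k : G) ∈ K → k ≠ 1 →
        (ψ : G → ℂ) k = a) ∧
      ((charDegree (ψ : G → ℂ) : ℤ) ≡ a [ZMOD (Nat.card K : ℤ)]) := by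
  classical
  obtain ⟨T, hT⟩ := D.nonexc_const ψ hψ
  let K' := K.subgroupOf (Subgroup.normalizer (K : Set G))
  let _ : Fintype K' := Fintype.ofFinite K'
  have hnt : Nontrivial K' :=
    ⟨⟨⟨k₀, Subgroup.mem_subgroupOf.mpr hk₀⟩, 1, fun h => hk₀1 (congrArg Subtype.val h)⟩⟩
  let g : K' →* G := (Subgroup.subtype (Subgroup.normalizer (K : Set G))).comp
    (Subgroup.subtype K')
  have hA : IsCharacter K' (fun k : K' => (ψ : G → ℂ) ((k : ↥(Subgroup.normalizer (K : Set G))) : G)) :=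
    Helper74.isCharacter_comp g (Helper74.irr_isCharacter ψ)
  obtain ⟨t, a, b, hTt, ha, _, hcong⟩ := const_congr hnt hA
    (Helper74.isCharacter_zero (G := K')) 0 (T := T) (by
      intro x hx
      have hx1 : (x : ↥(Subgroup.normalizer (K : Set G))) ≠ 1 := fun h => hx (Subtype.ext h)
      have := hT (x : ↥(Subgroup.normalizer (K : Set G))) (Subgroup.mem_subgroupOf.mp x.2) hx1
      simp only [Int.cast_zero, zero_mul, sub_zero]
      exact this)
  refine ⟨t, fun k hk hk1 => by rw [hT k hk hk1, hTt], ?_⟩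
  have ha' : (ψ : G → ℂ) 1 = a := ha
  rw [Helper78.irrChar_one_eq_charDegree ψ.2] at ha'
  have ha'' : charDegree (ψ : G → ℂ) = a := by exact_mod_cast ha'
  rw [ha'', ← card_subgroupOf_normalizer]
  simpa using hcong

/-- Values and degree congruence of the exceptional characters. -/
theorem ExcData.exc_int (χ₀ : Rel K) :
    ∃ c : ℤ, (∀ χ : Rel K, ∀ k : ↥(Subgroup.normalizer (K : Set G)), (k : G) ∈ K → k ≠ 1 →
        (D.f χ : G → ℂ) k
          = (D.ε : ℂ) * (χ.1 : ↥(Subgroup.normalizer (K : Set G)) → ℂ) k + c) ∧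
      ∀ χ : Rel K, ((charDegree (D.f χ : G → ℂ) : ℤ) ≡
        D.ε * ((K.subgroupOf (Subgroup.normalizer (K : Set G))).index : ℤ) + c
          [ZMOD (Nat.card K : ℤ)]) := by
  classical
  obtain ⟨T, hT⟩ := D.exc_const χ₀
  have hTall : ∀ χ : Rel K, ∀ k : ↥(Subgroup.normalizer (K : Set G)), (k : G) ∈ K → k ≠ 1 →
      (D.f χ : G → ℂ) k - (D.ε : ℂ) * (χ.1 : ↥(Subgroup.normalizer (K : Set G)) → ℂ) k = T := by
    intro χ
    obtain ⟨T', hT'⟩ := D.exc_const χ
    have := D.exc_const_eq χ χ₀ hT' hT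
    rw [← this]
    exact hT'
  obtain ⟨k₀, hk₀, hne⟩ := χ₀.2
  have hk₀1 : k₀ ≠ 1 := fun h => hne (by rw [h])
  let K' := K.subgroupOf (Subgroup.normalizer (K : Set G))
  let _ : Fintype K' := Fintype.ofFinite K'
  have hnt : Nontrivial K' :=
    ⟨⟨⟨k₀, Subgroup.mem_subgroupOf.mpr hk₀⟩, 1, fun h => hk₀1 (congrArg Subtype.val h)⟩⟩
  let g : K' →* G := (Subgroup.subtype (Subgroup.normalizer (K : Set G))).comp
    (Subgroup.subtype K')
  have main : ∀ χ : Rel K, ∃ t : ℤ, T = t ∧ ((charDegree (D.f χ : G → ℂ) : ℤ) ≡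
        D.ε * ((K.subgroupOf (Subgroup.normalizer (K : Set G))).index : ℤ) + t
          [ZMOD (Nat.card K : ℤ)]) := by
    intro χ
    have hA : IsCharacter K'
        (fun k : K' => (D.f χ : G → ℂ) ((k : ↥(Subgroup.normalizer (K : Set G))) : G)) :=
      Helper74.isCharacter_comp g (Helper74.irr_isCharacter (D.f χ))
    have hB : IsCharacter K'
        (fun k : K' => (χ.1 : ↥(Subgroup.normalizer (K : Set G)) → ℂ) k) :=
      Helper74.isCharacter_restrict K' (Helper74.irr_isCharacter χ.1)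
    obtain ⟨t, a, b, hTt, ha, hb, hcong⟩ := const_congr hnt hA hB D.ε (T := T) (by
      intro x hx
      have hx1 : (x : ↥(Subgroup.normalizer (K : Set G))) ≠ 1 := fun h => hx (Subtype.ext h)
      exact hTall χ (x : ↥(Subgroup.normalizer (K : Set G))) (Subgroup.mem_subgroupOf.mp x.2) hx1)
    refine ⟨t, hTt, ?_⟩
    have ha' : (D.f χ : G → ℂ) 1 = a := ha
    rw [Helper78.irrChar_one_eq_charDegree (D.f χ).2] at ha'
    have ha'' : charDegree (D.f χ : G → ℂ) = a := by exact_mod_cast ha'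
    have hb' : (χ.1 : ↥(Subgroup.normalizer (K : Set G)) → ℂ) 1 = b := hb
    rw [rel_degree D.hC D.hab χ] at hb'
    have hb'' : (K.subgroupOf (Subgroup.normalizer (K : Set G))).index = b := by
      exact_mod_cast hb'
    rw [ha'', hb'', ← card_subgroupOf_normalizer]
    have h2 : (a : ℤ) - D.ε * b ≡ t [ZMOD (Nat.card K' : ℤ)] := hcong
    have h3 := h2.add_right (D.ε * b)
    have e1 : (a : ℤ) - D.ε * b + D.ε * b = a := by ring
    have e2 : t + D.ε * (b : ℤ) = D.ε * b + t := by ring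
    rw [e1, e2] at h3
    exact h3
  obtain ⟨c, hTc, _⟩ := main χ₀
  refine ⟨c, ?_, ?_⟩
  · intro χ k hk hk1
    have := hTall χ k hk hk1
    rw [hTc] at this
    linear_combination this
  · intro χ
    obtain ⟨t, hTt, hcong⟩ := main χ
    have : t = c := by
      have : (t : ℂ) = (c : ℂ) := by rw [← hTt, ← hTc]
      exact_mod_cast this
    rw [← this]
    exact hcong

end Integral

section Main

variable {G : Type u} [Group G] [Fintype G] {K : Subgroup G}
  [Fintype ↥(Subgroup.normalizer (K : Set G))] (D : ExcData K)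

/-- The principal character is not exceptional (when there are two relevant characters). -/
theorem ExcData.principal_not_exc {χ ξ : Rel K} (hne : χ ≠ ξ) :
    D.f χ ≠ Helper79.principalIrr G := by
  classical
  intro h
  have hξ : D.f ξ ≠ Helper79.principalIrr G := fun h' => hne (D.hinj (h.trans h'.symm))
  have h1 : classInner (indFun (Subgroup.normalizer (K : Set G))
      ((χ.1 : ↥(Subgroup.normalizer (K : Set G)) → ℂ)
        - (ξ.1 : ↥(Subgroup.normalizer (K : Set G)) → ℂ)))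
      ((Helper79.principalIrr G : IrrCharacter G) : G → ℂ) = (D.ε : ℂ) := by
    rw [D.hf χ ξ, Helper15.classInner_smul_left, Helper15.classInner_sub_left, h,
      Helper74.irr_inner_self, Helper74.irr_inner_ne hξ]
    ring
  rw [Helper15.frobenius_reciprocity _ _ _ (Helper74.irr_isClassFunction _)] at h1
  have hone : (fun h : ↥(Subgroup.normalizer (K : Set G)) =>
      ((Helper79.principalIrr G : IrrCharacter G) : G → ℂ) h)
      = ((Helper79.principalIrr ↥(Subgroup.normalizer (K : Set G)) :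
          IrrCharacter ↥(Subgroup.normalizer (K : Set G))) :
            ↥(Subgroup.normalizer (K : Set G)) → ℂ) := rfl
  have hnp : ∀ ζ : Rel K, ζ.1 ≠ Helper79.principalIrr ↥(Subgroup.normalizer (K : Set G)) := by
    intro ζ hζ
    obtain ⟨k, _, hk⟩ := ζ.2
    rw [hζ] at hk
    exact hk rfl
  rw [hone, Helper15.classInner_sub_left, Helper74.irr_inner_ne (hnp χ),
    Helper74.irr_inner_ne (hnp ξ)] at h1
  have h2 := D.eps_sq
  rw [← h1] at h2
  norm_num at h2

/-- All exceptional characters have the same degree. -/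
theorem ExcData.exc_degree_eq (χ ξ : Rel K) :
    (D.f χ : G → ℂ) 1 = (D.f ξ : G → ℂ) 1 := by
  have h := congrFun (D.hf χ ξ) 1
  rw [Helper15.indFun_apply_one, Pi.sub_apply, rel_degree D.hC D.hab χ,
    rel_degree D.hC D.hab ξ, sub_self, mul_zero, Pi.smul_apply, Pi.sub_apply, smul_eq_mul] at h
  have h2 := D.eps_sq
  have h3 : (D.ε : ℂ) ≠ 0 := by
    intro h0
    rw [h0] at h2
    norm_num at h2
  rcases mul_eq_zero.mp h.symm with h4 | h4
  · exact absurd h4 h3
  · linear_combination h4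

end Main

section MainThm

variable {G : Type u} [Group G] [Fintype G] {K : Subgroup G}
  [Fintype ↥(Subgroup.normalizer (K : Set G))] (D : ExcData K)

/-- The arithmetic of the exceptional characters. -/
theorem ExcData.main (hr : 2 ≤ Nat.card (Rel K)) :
    ∃ (c : ℤ) (d : ℕ) (a : IrrCharacter G → ℤ) (s : Finset (IrrCharacter G)),
      d ∣ Nat.card G ∧
      ((d : ℤ) ≡ D.ε * ((K.subgroupOf (Subgroup.normalizer (K : Set G))).index : ℤ) + c
        [ZMOD (Nat.card K : ℤ)]) ∧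
      Helper79.principalIrr G ∈ s ∧ a (Helper79.principalIrr G) = 1 ∧
      (∀ ψ ∈ s, ((charDegree (ψ : G → ℂ) : ℤ) ≡ a ψ [ZMOD (Nat.card K : ℤ)])) ∧
      (∑ ψ ∈ s, a ψ ^ 2 = ((K.subgroupOf (Subgroup.normalizer (K : Set G))).index : ℤ)
        + 2 * D.ε * c - (Nat.card (Rel K) : ℤ) * c ^ 2) ∧
      (∑ ψ ∈ s, a ψ * (charDegree (ψ : G → ℂ) : ℤ)
        = (d : ℤ) * (D.ε - (Nat.card (Rel K) : ℤ) * c)) ∧
      (∑ ψ ∈ s, charDegree (ψ : G → ℂ) ^ 2 + Nat.card (Rel K) * d ^ 2 = Nat.card G) := by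
  classical
  let _ := Helper74.irrFintype G
  let _ := Helper74.irrFintype ↥(Subgroup.normalizer (K : Set G))
  have hnt : Nontrivial (Rel K) := Finite.one_lt_card_iff_nontrivial.mp (by omega)
  obtain ⟨χ₁, χ₂, hne⟩ := exists_pair_ne (Rel K)
  obtain ⟨k₀, hk₀, hk₀ne⟩ := χ₁.2
  have hk₀1 : k₀ ≠ 1 := fun h => hk₀ne (by rw [h])
  have hk₀1' : (k₀ : G) ≠ 1 := fun h => hk₀1 (Subtype.ext h)
  obtain ⟨c, hval, hdegc⟩ := D.exc_int χ₁
  have hnon : ∀ ψ : IrrCharacter G, (∀ χ : Rel K, D.f χ ≠ ψ) →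
      ∃ a : ℤ, ((ψ : G → ℂ) k₀ = a) ∧
        ((charDegree (ψ : G → ℂ) : ℤ) ≡ a [ZMOD (Nat.card K : ℤ)]) := by
    intro ψ hψ
    obtain ⟨a, h1, h2⟩ := D.nonexc_int ψ hψ k₀ hk₀ hk₀1
    exact ⟨a, h1 k₀ hk₀ hk₀1, h2⟩
  let a : IrrCharacter G → ℤ := fun ψ =>
    if h : ∀ χ : Rel K, D.f χ ≠ ψ then Classical.choose (hnon ψ h) else 0
  have ha : ∀ ψ : IrrCharacter G, (∀ χ : Rel K, D.f χ ≠ ψ) →
      ((ψ : G → ℂ) k₀ = a ψ) ∧
        ((charDegree (ψ : G → ℂ) : ℤ) ≡ a ψ [ZMOD (Nat.card K : ℤ)]) := by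
    intro ψ h
    simp only [a, dif_pos h]
    exact Classical.choose_spec (hnon ψ h)
  let E : Finset (IrrCharacter G) := Finset.univ.image D.f
  let s : Finset (IrrCharacter G) := Finset.univ \ E
  have hs : ∀ ψ, ψ ∈ s ↔ ∀ χ : Rel K, D.f χ ≠ ψ := by
    intro ψ
    simp [s, E]
  set d := charDegree (D.f χ₁ : G → ℂ) with hd_def
  have hd : ∀ χ : Rel K, (D.f χ : G → ℂ) 1 = (d : ℂ) := by
    intro χ
    rw [D.exc_degree_eq χ χ₁, Helper78.irrChar_one_eq_charDegree (D.f χ₁).2]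
  have hsplit : ∀ F : IrrCharacter G → ℂ,
      ∑ ψ, F ψ = ∑ χ : Rel K, F (D.f χ) + ∑ ψ ∈ s, F ψ := by
    intro F
    rw [← Finset.sum_sdiff (Finset.subset_univ E),
      Finset.sum_image (fun x _ y _ h => D.hinj h), add_comm]
  obtain ⟨hN1, hN2⟩ := nside_sums D.hC D.hab k₀ hk₀ hk₀1
  have hr' := rel_count D.hC D.hab
  have hrC : (Nat.card (Rel K) : ℂ)
      * ((K.subgroupOf (Subgroup.normalizer (K : Set G))).index : ℂ) + 1 = (Nat.card K : ℂ) := by
    exact_mod_cast hr'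
  have hcardRel : (Finset.univ : Finset (Rel K)).card = Nat.card (Rel K) := by
    rw [Finset.card_univ, Nat.card_eq_fintype_card]
  have heps := D.eps_sq
  refine ⟨c, d, a, s, Helper80.IsIrrCharacter.charDegree_dvd_card (D.f χ₁).2, hdegc χ₁, ?_, ?_,
    fun ψ hψ => (ha ψ ((hs ψ).mp hψ)).2, ?_, ?_, ?_⟩
  · rw [hs]
    intro χ
    by_cases h : χ = χ₁
    · rw [h]; exact D.principal_not_exc hne
    · exact D.principal_not_exc h
  · have hp : ∀ χ : Rel K, D.f χ ≠ Helper79.principalIrr G := by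
      intro χ
      by_cases h : χ = χ₁
      · rw [h]; exact D.principal_not_exc hne
      · exact D.principal_not_exc h
    have h1 := (ha _ hp).1
    have h2 : ((Helper79.principalIrr G : IrrCharacter G) : G → ℂ) (k₀ : G) = 1 := rfl
    rw [h2] at h1
    exact_mod_cast h1.symm
  · -- sum of squares of the values
    have hS1 := Helper74.second_orthogonality (G := G) (k₀ : G) (k₀ : G)
    rw [if_pos (IsConj.refl _), centralizer_eq D.hC D.hab hk₀ hk₀1', hsplit] at hS1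
    have hterm : ∀ χ : Rel K, (D.f χ : G → ℂ) k₀ * conj ((D.f χ : G → ℂ) k₀)
        = (χ.1 : ↥(Subgroup.normalizer (K : Set G)) → ℂ) k₀
            * conj ((χ.1 : ↥(Subgroup.normalizer (K : Set G)) → ℂ) k₀)
          + (D.ε : ℂ) * c * (χ.1 : ↥(Subgroup.normalizer (K : Set G)) → ℂ) k₀
          + (D.ε : ℂ) * c * conj ((χ.1 : ↥(Subgroup.normalizer (K : Set G)) → ℂ) k₀)
          + (c : ℂ) * c := by
      intro χ
      rw [hval χ k₀ hk₀ hk₀1]
      simp only [map_add, map_mul, map_intCast]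
      linear_combination ((χ.1 : ↥(Subgroup.normalizer (K : Set G)) → ℂ) k₀
        * conj ((χ.1 : ↥(Subgroup.normalizer (K : Set G)) → ℂ) k₀)) * heps
    have hE : ∑ χ : Rel K, (D.f χ : G → ℂ) k₀ * conj ((D.f χ : G → ℂ) k₀)
        = ((Nat.card K : ℂ) - ((K.subgroupOf (Subgroup.normalizer (K : Set G))).index : ℂ))
          - 2 * (D.ε : ℂ) * c + (Nat.card (Rel K) : ℂ) * ((c : ℂ) * c) := by
      rw [Finset.sum_congr rfl (fun χ _ => hterm χ), Finset.sum_add_distrib,
        Finset.sum_add_distrib, Finset.sum_add_distrib, ← Finset.mul_sum, ← Finset.mul_sum,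
        ← map_sum, hN1, hN2, Finset.sum_const, hcardRel, nsmul_eq_mul]
      simp only [map_neg, map_one]
      ring
    have hNE : ∑ ψ ∈ s, (ψ : G → ℂ) k₀ * conj ((ψ : G → ℂ) k₀)
        = ∑ ψ ∈ s, ((a ψ : ℂ)) ^ 2 := by
      refine Finset.sum_congr rfl (fun ψ hψ => ?_)
      rw [(ha ψ ((hs ψ).mp hψ)).1, map_intCast]
      ring
    rw [hE, hNE] at hS1
    have hfin : ((∑ ψ ∈ s, a ψ ^ 2 : ℤ) : ℂ)
        = ((((K.subgroupOf (Subgroup.normalizer (K : Set G))).index : ℤ)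
          + 2 * D.ε * c - (Nat.card (Rel K) : ℤ) * c ^ 2 : ℤ) : ℂ) := by
      push_cast
      linear_combination hS1
    exact_mod_cast hfin
  · -- degree equation
    have hS2 := Helper75.tf_sum_degree_mul (N := G) hk₀1'
    rw [hsplit] at hS2
    have hE : ∑ χ : Rel K, (D.f χ : G → ℂ) 1 * (D.f χ : G → ℂ) k₀
        = (d : ℂ) * ((D.ε : ℂ) * (-1) + (Nat.card (Rel K) : ℂ) * c) := by
      have hterm : ∀ χ : Rel K, (D.f χ : G → ℂ) 1 * (D.f χ : G → ℂ) k₀
          = (d : ℂ) * (D.ε : ℂ) * (χ.1 : ↥(Subgroup.normalizer (K : Set G)) → ℂ) k₀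
            + (d : ℂ) * c := by
        intro χ
        rw [hval χ k₀ hk₀ hk₀1, hd χ]
        ring
      rw [Finset.sum_congr rfl (fun χ _ => hterm χ), Finset.sum_add_distrib, ← Finset.mul_sum,
        hN1, Finset.sum_const, hcardRel, nsmul_eq_mul]
      ring
    have hNE : ∑ ψ ∈ s, (ψ : G → ℂ) 1 * (ψ : G → ℂ) k₀
        = ∑ ψ ∈ s, ((a ψ : ℂ)) * (charDegree (ψ : G → ℂ) : ℂ) := by
      refine Finset.sum_congr rfl (fun ψ hψ => ?_)
      rw [(ha ψ ((hs ψ).mp hψ)).1, Helper78.irrChar_one_eq_charDegree ψ.2]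
      ring
    rw [hE, hNE] at hS2
    have hfin : ((∑ ψ ∈ s, a ψ * (charDegree (ψ : G → ℂ) : ℤ) : ℤ) : ℂ)
        = (((d : ℤ) * (D.ε - (Nat.card (Rel K) : ℤ) * c) : ℤ) : ℂ) := by
      push_cast
      linear_combination hS2
    exact_mod_cast hfin
  · -- sum of squares of degrees
    have hS3 := Helper74.sum_irr_degree_sq (G := G)
    rw [hsplit] at hS3
    have hE : ∑ χ : Rel K, (D.f χ : G → ℂ) 1 * (D.f χ : G → ℂ) 1
        = (Nat.card (Rel K) : ℂ) * ((d : ℂ) * d) := by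
      rw [Finset.sum_congr rfl (fun χ _ => by rw [hd χ]), Finset.sum_const, hcardRel,
        nsmul_eq_mul]
    have hNE : ∑ ψ ∈ s, (ψ : G → ℂ) 1 * (ψ : G → ℂ) 1
        = ∑ ψ ∈ s, ((charDegree (ψ : G → ℂ) : ℂ)) ^ 2 := by
      refine Finset.sum_congr rfl (fun ψ _ => ?_)
      rw [Helper78.irrChar_one_eq_charDegree ψ.2]
      ring
    rw [hE, hNE] at hS3
    have hfin : ((∑ ψ ∈ s, charDegree (ψ : G → ℂ) ^ 2 + Nat.card (Rel K) * d ^ 2 : ℕ) : ℂ)
        = ((Nat.card G : ℕ) : ℂ) := by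
      push_cast
      linear_combination hS3
    exact_mod_cast hfin

end MainThm

end Cfsg.Agent.Helper17.Exc
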