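import Mathlib
import Cfsg.Agent.Helper17.ExcChar2

set_option autoImplicit false

namespace Cfsg.Agent.Helper17.Exc

open Cfsg
open scoped ComplexConjugate

universe u

section Comb

variable {ι : Type*} [DecidableEq ι]

theorem int_sq_eq_one {x : ℤ} (h : x ^ 2 = 1) : x = 1 ∨ x = -1 := by
  have h1 : (x - 1) * (x + 1) = 0 := by ring_nf; linarith
  rcases mul_eq_zero.mp h1 with h2 | h2
  · left; linarith
  · right; linarith

theorem sq_sum_one (s : Finset ι) (a : ι → ℤ) (h : ∑ i ∈ s, a i ^ 2 = 1) :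
    ∃ i ∈ s, (a i = 1 ∨ a i = -1) ∧ ∀ j ∈ s, j ≠ i → a j = 0 := by
  have hex : ∃ i ∈ s, a i ≠ 0 := by
    by_contra hcon
    push Not at hcon
    rw [Finset.sum_eq_zero (fun i hi => by rw [hcon i hi]; ring)] at h
    exact zero_ne_one h
  obtain ⟨i, hi, hai⟩ := hex
  have hsplit := Finset.add_sum_erase s (fun i => a i ^ 2) hi
  rw [h] at hsplit
  have hnn : 0 ≤ ∑ j ∈ s.erase i, a j ^ 2 := Finset.sum_nonneg (fun j _ => sq_nonneg _)
  have h1 : 1 ≤ a i ^ 2 := by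
    have : 0 < a i ^ 2 := by positivity
    omega
  have h2 : a i ^ 2 = 1 := by omega
  have h3 : ∑ j ∈ s.erase i, a j ^ 2 = 0 := by omega
  refine ⟨i, hi, int_sq_eq_one h2, ?_⟩
  intro j hj hji
  have := (Finset.sum_eq_zero_iff_of_nonneg (fun j _ => sq_nonneg (a j))).mp h3 j
    (Finset.mem_erase.mpr ⟨hji, hj⟩)
  exact pow_eq_zero_iff (two_ne_zero) |>.mp this

theorem sq_sum_two (s : Finset ι) (a : ι → ℤ) (h : ∑ i ∈ s, a i ^ 2 = 2) :
    ∃ i ∈ s, ∃ j ∈ s, i ≠ j ∧ (a i = 1 ∨ a i = -1) ∧ (a j = 1 ∨ a j = -1) ∧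
      ∀ l ∈ s, l ≠ i → l ≠ j → a l = 0 := by
  have hex : ∃ i ∈ s, a i ≠ 0 := by
    by_contra hcon
    push Not at hcon
    rw [Finset.sum_eq_zero (fun i hi => by rw [hcon i hi]; ring)] at h
    norm_num at h
  obtain ⟨i, hi, hai⟩ := hex
  have hsplit := Finset.add_sum_erase s (fun i => a i ^ 2) hi
  rw [h] at hsplit
  have hnn : 0 ≤ ∑ j ∈ s.erase i, a j ^ 2 := Finset.sum_nonneg (fun j _ => sq_nonneg _)
  have h1 : 1 ≤ a i ^ 2 := by
    have : 0 < a i ^ 2 := by positivity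
    omega
  have h2 : a i ^ 2 = 1 := by
    have hle : a i ^ 2 ≤ 2 := by omega
    have hu : a i ≤ 1 := by nlinarith
    have hl : -1 ≤ a i := by nlinarith
    interval_cases (a i) <;> simp_all
  have h3 : ∑ j ∈ s.erase i, a j ^ 2 = 1 := by omega
  obtain ⟨j, hj, haj, hrest⟩ := sq_sum_one (s.erase i) a h3
  refine ⟨i, hi, j, Finset.mem_of_mem_erase hj, (Finset.ne_of_mem_erase hj).symm,
    int_sq_eq_one h2, haj, ?_⟩
  intro l hl hli hlj
  exact hrest l (Finset.mem_erase.mpr ⟨hli, hl⟩) hlj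

theorem sum_eq_of_support_one (s : Finset ι) (a g : ι → ℤ) {i : ι} (hi : i ∈ s)
    (h : ∀ j ∈ s, j ≠ i → a j = 0) : ∑ j ∈ s, a j * g j = a i * g i := by
  rw [← Finset.add_sum_erase s _ hi, Finset.sum_eq_zero, add_zero]
  intro j hj
  rw [h j (Finset.mem_of_mem_erase hj) (Finset.ne_of_mem_erase hj), zero_mul]

theorem sum_eq_of_support_two (s : Finset ι) (a g : ι → ℤ) {i j : ι} (hi : i ∈ s) (hj : j ∈ s)
    (hij : i ≠ j) (h : ∀ l ∈ s, l ≠ i → l ≠ j → a l = 0) :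
    ∑ l ∈ s, a l * g l = a i * g i + a j * g j := by
  rw [← Finset.add_sum_erase s _ hi,
    ← Finset.add_sum_erase (s.erase i) _ (Finset.mem_erase.mpr ⟨hij.symm, hj⟩),
    Finset.sum_eq_zero, add_zero]
  intro l hl
  have hl1 := Finset.mem_of_mem_erase hl
  rw [h l (Finset.mem_of_mem_erase hl1) (Finset.ne_of_mem_erase hl1) (Finset.ne_of_mem_erase hl),
    zero_mul]

end Comb

section Perfect

variable {G : Type u} [Group G]

/-- A non-principal irreducible character of a perfect group has degree at least two. -/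
theorem one_lt_charDegree_of_perfect (hperf : commutator G = ⊤) (ψ : IrrCharacter G)
    (hψ : ψ ≠ Helper79.principalIrr G) : 1 < charDegree (ψ : G → ℂ) := by
  have hpos := Helper78.charDegree_pos_of_isIrrCharacter ψ.2
  by_contra hcon
  have h1 : charDegree (ψ : G → ℂ) = 1 := by omega
  have h2 : (ψ : G → ℂ) 1 = 1 := by
    rw [Helper78.irrChar_one_eq_charDegree ψ.2, h1]
    simp
  apply hψ
  apply Subtype.ext
  funext u
  have hu : u ∈ commutator G := by rw [hperf]; exact Subgroup.mem_top u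
  exact Helper79.isCharacter_linear_commutator (Helper74.irr_isCharacter ψ) h2 hu

end Perfect

section Zero

variable {G : Type u} [Group G] [Fintype G] {K : Subgroup G}
  [Fintype ↥(Subgroup.normalizer (K : Set G))] (D : ExcData K)

/-- With many relevant characters the constant `c` vanishes. -/
theorem ExcData.main_zero
    (hr : (K.subgroupOf (Subgroup.normalizer (K : Set G))).index + 2 ≤ Nat.card (Rel K)) :
    ∃ (d : ℕ) (a : IrrCharacter G → ℤ) (s : Finset (IrrCharacter G)),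
      d ∣ Nat.card G ∧
      ((d : ℤ) ≡ D.ε * ((K.subgroupOf (Subgroup.normalizer (K : Set G))).index : ℤ)
        [ZMOD (Nat.card K : ℤ)]) ∧
      Helper79.principalIrr G ∈ s ∧ a (Helper79.principalIrr G) = 1 ∧
      (∀ ψ ∈ s, ((charDegree (ψ : G → ℂ) : ℤ) ≡ a ψ [ZMOD (Nat.card K : ℤ)])) ∧
      (∑ ψ ∈ s, a ψ ^ 2 = ((K.subgroupOf (Subgroup.normalizer (K : Set G))).index : ℤ)) ∧
      (∑ ψ ∈ s, a ψ * (charDegree (ψ : G → ℂ) : ℤ) = (d : ℤ) * D.ε) ∧
      (∑ ψ ∈ s, charDegree (ψ : G → ℂ) ^ 2 + Nat.card (Rel K) * d ^ 2 = Nat.card G) := by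
  classical
  obtain ⟨c, d, a, s, h1, h2, h3, h4, h5, h6, h7, h8⟩ := D.main (by omega)
  have hc : c = 0 := by
    have hge : 1 ≤ ∑ ψ ∈ s, a ψ ^ 2 := by
      rw [← Finset.add_sum_erase s _ h3, h4]
      have : 0 ≤ ∑ ψ ∈ s.erase (Helper79.principalIrr G), a ψ ^ 2 :=
        Finset.sum_nonneg (fun j _ => sq_nonneg _)
      linarith
    rw [h6] at hge
    have hr' : ((K.subgroupOf (Subgroup.normalizer (K : Set G))).index : ℤ) + 2
        ≤ (Nat.card (Rel K) : ℤ) := by exact_mod_cast hr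
    have he0 : (0 : ℤ) ≤ ((K.subgroupOf (Subgroup.normalizer (K : Set G))).index : ℤ) :=
      Int.natCast_nonneg _
    have hε2 : D.ε ^ 2 = 1 := by rcases D.hε with h | h <;> rw [h] <;> norm_num
    have h9 : 2 * D.ε * c ≤ c ^ 2 + 1 := by nlinarith [sq_nonneg (c - D.ε)]
    have h10 : (((K.subgroupOf (Subgroup.normalizer (K : Set G))).index : ℤ) + 2) * c ^ 2
        ≤ (Nat.card (Rel K) : ℤ) * c ^ 2 := by nlinarith [sq_nonneg c]
    have h11 : (((K.subgroupOf (Subgroup.normalizer (K : Set G))).index : ℤ) + 1) * c ^ 2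
        ≤ ((K.subgroupOf (Subgroup.normalizer (K : Set G))).index : ℤ) := by nlinarith
    by_contra hc0
    have h12 : 1 ≤ c ^ 2 := by
      have : 0 < c ^ 2 := by positivity
      omega
    nlinarith
  subst hc
  refine ⟨d, a, s, h1, by simpa using h2, h3, h4, h5, by simpa using h6, by simpa using h7, h8⟩

end Zero

section Package

variable {G : Type u} [Group G]

/-- A subgroup of prime order meets its conjugates by non-normalizing elements trivially. -/
theorem ti_of_prime_card [Finite G] (K : Subgroup G) {p : ℕ} (hp : p.Prime)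
    (hK : Nat.card K = p) :
    ∀ g : G, g ∉ Subgroup.normalizer (K : Set G) → ∀ k ∈ K, g * k * g⁻¹ ∈ K → k = 1 := by
  intro g hg k hk hgk
  by_contra hk1
  apply hg
  have hord : orderOf k = p := by
    have h1 : orderOf k ∣ p := by
      have := orderOf_dvd_natCard (⟨k, hk⟩ : K)
      rwa [hK, Subgroup.orderOf_mk] at this
    rcases (Nat.dvd_prime hp).mp h1 with h | h
    · exact absurd (orderOf_eq_one_iff.mp h) hk1
    · exact h
  have hzp : Subgroup.zpowers k = K :=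
    Subgroup.eq_of_le_of_card_ge (Subgroup.zpowers_le.mpr hk) (by rw [Nat.card_zpowers, hord, hK])
  have hmap : K.map (MulAut.conj g).toMonoidHom ≤ K := by
    rintro _ ⟨x, hx, rfl⟩
    have hx' : x ∈ Subgroup.zpowers k := by rw [hzp]; exact hx
    obtain ⟨i, rfl⟩ := Subgroup.mem_zpowers_iff.mp hx'
    rw [map_zpow]
    apply K.zpow_mem
    simpa [MulAut.conj_apply] using hgk
  have hmapeq : K.map (MulAut.conj g).toMonoidHom = K :=
    Subgroup.eq_of_le_of_card_ge hmap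
      (by rw [Subgroup.card_map_of_injective (MulAut.conj g).injective])
  rw [Subgroup.mem_normalizer_iff]
  intro h
  constructor
  · intro hh
    apply hmap
    exact ⟨h, hh, by simp [MulAut.conj_apply]⟩
  · intro hh
    rw [← hmapeq] at hh
    obtain ⟨y, hy, hyh⟩ := hh
    have : y = h := by
      have h1 : g * y * g⁻¹ = g * h * g⁻¹ := by simpa [MulAut.conj_apply] using hyh
      have h2 := congrArg (fun t => g⁻¹ * t * g) h1
      simpa [mul_assoc] using h2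
    rw [← this]; exact hy

theorem comm_of_prime_card (K : Subgroup G) {p : ℕ} (hp : p.Prime) (hK : Nat.card K = p) :
    ∀ a ∈ K, ∀ b ∈ K, a * b = b * a := by
  intro a ha b hb
  haveI : Fact p.Prime := ⟨hp⟩
  have hcyc : IsCyclic K := isCyclic_of_prime_card hK
  let _ := hcyc.commGroup
  have := mul_comm (⟨a, ha⟩ : K) ⟨b, hb⟩
  exact congrArg Subtype.val this

variable [Fintype G]

/-- The exceptional-character data attached to a self-centralizing subgroup of prime order `p`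
whose normalizer has order `p e`, `2 ≤ e`, `e + 1 < p`. -/
theorem exists_excData (K : Subgroup G) {p e : ℕ} (hp : p.Prime) (hK : Nat.card K = p)
    (hC : ∀ k ∈ K, k ≠ 1 → Subgroup.centralizer ({k} : Set G) ≤ K)
    (hN : Nat.card (Subgroup.normalizer (K : Set G)) = p * e) (he : 2 ≤ e) (hep : e + 1 < p)
    [Fintype ↥(Subgroup.normalizer (K : Set G))] :
    ∃ _ : ExcData K, (K.subgroupOf (Subgroup.normalizer (K : Set G))).index = e ∧
      Nat.card (Rel K) * e + 1 = p := by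
  have hTI := ti_of_prime_card K hp hK
  have hab := comm_of_prime_card K hp hK
  have hle : K ≤ Subgroup.normalizer (K : Set G) := Subgroup.le_normalizer
  have hidx : (K.subgroupOf (Subgroup.normalizer (K : Set G))).index = e := by
    have h1 := (K.subgroupOf (Subgroup.normalizer (K : Set G))).card_mul_index
    rw [card_subgroupOf_normalizer, hK, hN] at h1
    exact Nat.eq_of_mul_eq_mul_left hp.pos h1
  have hlt : K < Subgroup.normalizer (K : Set G) := by
    refine lt_of_le_of_ne hle (fun h => ?_)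
    have h1 : Nat.card K = Nat.card (Subgroup.normalizer (K : Set G)) :=
      congrArg (fun H : Subgroup G => Nat.card H) h
    rw [hK, hN] at h1
    have : p * 1 = p * e := by rw [mul_one]; exact h1
    have := Nat.eq_of_mul_eq_mul_left hp.pos this
    omega
  have hcount := rel_count hC hab
  rw [hidx, hK] at hcount
  rcases Cfsg.Agent.S0851.result K hTI hlt hC hab with ⟨_, q, _, _, hcard⟩ | ⟨ε, f, hε, hinj, hf⟩
  · exfalso
    rw [hK, hidx] at hcard
    omega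
  · rcases hε with rfl | rfl
    · exact ⟨⟨hTI, hC, hab, 1, Or.inl rfl, f, hinj, fun χ ξ => by
        rw [hf χ ξ]; simp⟩, hidx, hcount⟩
    · exact ⟨⟨hTI, hC, hab, -1, Or.inr rfl, f, hinj, fun χ ξ => by
        rw [hf χ ξ]; simp⟩, hidx, hcount⟩

end Package

section Apply

variable {G : Type u} [Group G] [Finite G]

omit [Finite G] in
theorem charDegree_principal : charDegree ((Helper79.principalIrr G : IrrCharacter G) : G → ℂ) = 1 := by
  simp [charDegree, Helper79.principalIrr]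

/-- **Brauer's degree equation**, `e = 2`: `G` perfect, `K` of prime order `p ≥ 9` containing
the centralizers of its non-identity elements, `|N_G(K)| = 2p`. -/
theorem brauer_two (hperf : commutator G = ⊤) (K : Subgroup G) {p : ℕ} (hp : p.Prime)
    (hK : Nat.card K = p)
    (hC : ∀ k ∈ K, k ≠ 1 → Subgroup.centralizer ({k} : Set G) ≤ K)
    (hN : Nat.card (Subgroup.normalizer (K : Set G)) = p * 2) (hp9 : 9 ≤ p) :
    ∃ (δ ε : ℤ) (d₁ d r : ℕ), (δ = 1 ∨ δ = -1) ∧ (ε = 1 ∨ ε = -1) ∧ d₁ ∣ Nat.card G ∧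
      d ∣ Nat.card G ∧ 1 < d₁ ∧ ((d₁ : ℤ) ≡ δ [ZMOD (p : ℤ)]) ∧
      ((d : ℤ) ≡ ε * 2 [ZMOD (p : ℤ)]) ∧ 1 + δ * d₁ = d * ε ∧ r * 2 + 1 = p ∧
      1 + d₁ ^ 2 + r * d ^ 2 ≤ Nat.card G := by
  classical
  let _ : Fintype G := Fintype.ofFinite G
  let _ : Fintype ↥(Subgroup.normalizer (K : Set G)) := Fintype.ofFinite _
  obtain ⟨D, hidx, hcount⟩ := exists_excData K hp hK hC hN le_rfl (by omega)
  obtain ⟨d, a, s, h1, h2, h3, h4, h5, h6, h7, h8⟩ := D.main_zero (by rw [hidx]; omega)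
  rw [hidx, hK] at h2
  rw [hidx] at h6
  have hsq := Finset.add_sum_erase s (fun ψ => a ψ ^ 2) h3
  rw [h6, h4] at hsq
  have hsq' : ∑ ψ ∈ s.erase (Helper79.principalIrr G), a ψ ^ 2 = 1 := by
    push_cast at hsq; linarith
  obtain ⟨ψ₁, hψ₁, haψ₁, hrest⟩ := sq_sum_one _ a hsq'
  have hψ₁s := Finset.mem_of_mem_erase hψ₁
  have hψ₁ne := Finset.ne_of_mem_erase hψ₁
  have hdeg := Finset.add_sum_erase s (fun ψ => a ψ * (charDegree (ψ : G → ℂ) : ℤ)) h3
  rw [h7, h4, charDegree_principal,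
    sum_eq_of_support_one _ a (fun ψ => (charDegree (ψ : G → ℂ) : ℤ)) hψ₁ hrest] at hdeg
  have hcong := h5 ψ₁ hψ₁s
  rw [hK] at hcong
  refine ⟨a ψ₁, D.ε, charDegree (ψ₁ : G → ℂ), d, Nat.card (Rel K), haψ₁, D.hε,
    Helper80.IsIrrCharacter.charDegree_dvd_card ψ₁.2, h1,
    one_lt_charDegree_of_perfect hperf ψ₁ hψ₁ne, hcong, h2, ?_, hcount, ?_⟩
  · push_cast at hdeg; linarith
  · rw [← h8]
    have e1 := Finset.add_sum_erase s (fun ψ => charDegree (ψ : G → ℂ) ^ 2) h3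
    have e2 := Finset.single_le_sum (f := fun ψ : IrrCharacter G => charDegree (ψ : G → ℂ) ^ 2)
      (fun _ _ => Nat.zero_le _) hψ₁
    rw [charDegree_principal] at e1
    omega

/-- **Brauer's degree equation**, `e = 3`, `p ≥ 16`. -/
theorem brauer_three (hperf : commutator G = ⊤) (K : Subgroup G) {p : ℕ} (hp : p.Prime)
    (hK : Nat.card K = p)
    (hC : ∀ k ∈ K, k ≠ 1 → Subgroup.centralizer ({k} : Set G) ≤ K)
    (hN : Nat.card (Subgroup.normalizer (K : Set G)) = p * 3) (hp16 : 16 ≤ p) :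
    ∃ (δ₁ δ₂ ε : ℤ) (d₁ d₂ d r : ℕ), (δ₁ = 1 ∨ δ₁ = -1) ∧ (δ₂ = 1 ∨ δ₂ = -1) ∧
      (ε = 1 ∨ ε = -1) ∧ d₁ ∣ Nat.card G ∧ d₂ ∣ Nat.card G ∧ d ∣ Nat.card G ∧ 1 < d₁ ∧ 1 < d₂ ∧
      ((d₁ : ℤ) ≡ δ₁ [ZMOD (p : ℤ)]) ∧ ((d₂ : ℤ) ≡ δ₂ [ZMOD (p : ℤ)]) ∧
      ((d : ℤ) ≡ ε * 3 [ZMOD (p : ℤ)]) ∧ 1 + δ₁ * d₁ + δ₂ * d₂ = d * ε ∧ r * 3 + 1 = p ∧
      1 + d₁ ^ 2 + d₂ ^ 2 + r * d ^ 2 ≤ Nat.card G := by
  classical
  let _ : Fintype G := Fintype.ofFinite G
  let _ : Fintype ↥(Subgroup.normalizer (K : Set G)) := Fintype.ofFinite _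
  obtain ⟨D, hidx, hcount⟩ := exists_excData K hp hK hC hN (by norm_num) (by omega)
  obtain ⟨d, a, s, h1, h2, h3, h4, h5, h6, h7, h8⟩ := D.main_zero (by rw [hidx]; omega)
  rw [hidx, hK] at h2
  rw [hidx] at h6
  have hsq := Finset.add_sum_erase s (fun ψ => a ψ ^ 2) h3
  rw [h6, h4] at hsq
  have hsq' : ∑ ψ ∈ s.erase (Helper79.principalIrr G), a ψ ^ 2 = 2 := by
    push_cast at hsq; linarith
  obtain ⟨ψ₁, hψ₁, ψ₂, hψ₂, h12, haψ₁, haψ₂, hrest⟩ := sq_sum_two _ a hsq'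
  have hψ₁s := Finset.mem_of_mem_erase hψ₁
  have hψ₁ne := Finset.ne_of_mem_erase hψ₁
  have hψ₂s := Finset.mem_of_mem_erase hψ₂
  have hψ₂ne := Finset.ne_of_mem_erase hψ₂
  have hdeg := Finset.add_sum_erase s (fun ψ => a ψ * (charDegree (ψ : G → ℂ) : ℤ)) h3
  rw [h7, h4, charDegree_principal,
    sum_eq_of_support_two _ a (fun ψ => (charDegree (ψ : G → ℂ) : ℤ)) hψ₁ hψ₂ h12 hrest] at hdeg
  have hcong₁ := h5 ψ₁ hψ₁s
  have hcong₂ := h5 ψ₂ hψ₂s
  rw [hK] at hcong₁ hcong₂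
  refine ⟨a ψ₁, a ψ₂, D.ε, charDegree (ψ₁ : G → ℂ), charDegree (ψ₂ : G → ℂ), d,
    Nat.card (Rel K), haψ₁, haψ₂, D.hε,
    Helper80.IsIrrCharacter.charDegree_dvd_card ψ₁.2,
    Helper80.IsIrrCharacter.charDegree_dvd_card ψ₂.2, h1,
    one_lt_charDegree_of_perfect hperf ψ₁ hψ₁ne,
    one_lt_charDegree_of_perfect hperf ψ₂ hψ₂ne, hcong₁, hcong₂, h2, ?_, hcount, ?_⟩
  · push_cast at hdeg; linarith
  · rw [← h8]
    have e1 := Finset.add_sum_erase s (fun ψ => charDegree (ψ : G → ℂ) ^ 2) h3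
    have e2 := Finset.add_sum_erase (s.erase (Helper79.principalIrr G))
      (fun ψ => charDegree (ψ : G → ℂ) ^ 2) hψ₁
    have e3 := Finset.single_le_sum (f := fun ψ : IrrCharacter G => charDegree (ψ : G → ℂ) ^ 2)
      (fun _ _ => Nat.zero_le _) (Finset.mem_erase.mpr ⟨h12.symm, hψ₂⟩)
    rw [charDegree_principal] at e1
    omega

end Apply

end Cfsg.Agent.Helper17.Exc
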