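import Mathlib
import Cfsg.Agent.Helper17.ExcChar3
import Cfsg.Agent.Helper17.SylowKit

set_option autoImplicit false

namespace Cfsg.Agent.Helper17.Exc

open Subgroup Cfsg.Agent.Helper17

variable {G : Type*} [Group G]

theorem commutator_eq_top_of_simple [Finite G] [IsSimpleGroup G] (h : ¬ (Nat.card G).Prime) :
    commutator G = ⊤ := by
  rcases (inferInstance : (commutator G).Normal).eq_bot_or_eq_top with hb | ht
  · exfalso
    apply not_comm_of_simple_of_not_prime h
    rw [commutator_def, Subgroup.commutator_eq_bot_iff_le_centralizer] at hb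
    refine ⟨⟨fun a b => ?_⟩⟩
    have := hb (Subgroup.mem_top a)
    rw [Subgroup.mem_centralizer_iff] at this
    exact (this b (Subgroup.mem_top b)).symm
  · exact ht

/-- Set-up for the exceptional-character argument: a Sylow subgroup of prime order whose
normalizer has order `p e` with `e` having no proper divisor `> 1` dividing `p - 1`
is self-centralizing. -/
theorem self_centralizing_setup [Finite G] [IsSimpleGroup G] {p : ℕ} [Fact p.Prime]
    (P : Sylow p G) (hP : Nat.card (P : Subgroup G) = p) (hG : Nat.card G ≠ p) {e : ℕ}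
    (hN : Nat.card (normalizer ((P : Subgroup G) : Set G)) = p * e)
    (he : ∀ d, 1 < d → d ∣ p - 1 → d ∣ e → d = e) :
    ∀ k ∈ (P : Subgroup G), k ≠ 1 → centralizer ({k} : Set G) ≤ (P : Subgroup G) := by
  have hp : p.Prime := Fact.out
  obtain ⟨h1, h2⟩ := relIndex_dvd_of_card_sylow_prime P hP
  set d := (centralizer ((P : Subgroup G) : Set G)).relIndex
    (normalizer ((P : Subgroup G) : Set G)) with hd
  have hne : ¬ (normalizer ((P : Subgroup G) : Set G) ≤ centralizer ((P : Subgroup G) : Set G)) :=
    not_normalizer_le_centralizer_of_simple P (by rw [hP]; exact hp.one_lt.ne')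
      (by rw [hP]; exact hG.symm)
  have h0 : d ≠ 0 := Subgroup.index_ne_zero_of_finite
  have h1' : d ≠ 1 := fun h => hne (Subgroup.relIndex_eq_one.mp h)
  have hde : d ∣ e := by
    rw [hN] at h2
    exact (Nat.mul_dvd_mul_iff_left hp.pos).mp h2
  have hd_e : d = e := he d (by omega) h1 hde
  have hcard := card_centralizer_mul_relIndex (P : Subgroup G)
  rw [← hd, hN, hd_e] at hcard
  have he0 : 0 < e := by omega
  have hC : Nat.card (centralizer ((P : Subgroup G) : Set G)) = p :=
    Nat.eq_of_mul_eq_mul_right he0 hcard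
  have hab := comm_of_prime_card (P : Subgroup G) hp hP
  have hPC : (P : Subgroup G) ≤ centralizer ((P : Subgroup G) : Set G) := by
    intro x hx
    rw [Subgroup.mem_centralizer_iff]
    intro y hy
    exact hab y hy x hx
  have hCP : centralizer ((P : Subgroup G) : Set G) = (P : Subgroup G) :=
    (Subgroup.eq_of_le_of_card_ge hPC (by rw [hC, hP])).symm
  intro k hk hk1 x hx
  rw [← hCP, Subgroup.mem_centralizer_iff]
  have hord : orderOf k = p := by
    have h1 : orderOf k ∣ p := by
      have := orderOf_dvd_natCard (⟨k, hk⟩ : (P : Subgroup G))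
      rwa [hP, Subgroup.orderOf_mk] at this
    rcases (Nat.dvd_prime hp).mp h1 with h | h
    · exact absurd (orderOf_eq_one_iff.mp h) hk1
    · exact h
  have hzp : Subgroup.zpowers k = (P : Subgroup G) :=
    Subgroup.eq_of_le_of_card_ge (Subgroup.zpowers_le.mpr hk) (by rw [Nat.card_zpowers, hord, hP])
  intro y hy
  have hy' : y ∈ Subgroup.zpowers k := by rw [hzp]; exact hy
  obtain ⟨i, rfl⟩ := Subgroup.mem_zpowers_iff.mp hy'
  have hxk : Commute x k := (Subgroup.mem_centralizer_singleton_iff.mp hx)
  exact ((hxk.zpow_right i).eq).symm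

end Cfsg.Agent.Helper17.Exc
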