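import Mathlib
import Cfsg.Agent.Helper17.ExcChar3

set_option autoImplicit false

namespace Cfsg.Agent.Helper17.Exc

open Cfsg
open scoped ComplexConjugate

universe u

section Values

variable {G : Type u} [Group G] [Fintype G] {K : Subgroup G}
  [Fintype ↥(Subgroup.normalizer (K : Set G))] (D : ExcData K)

/-- Exceptional characters agree at elements having no conjugate in `K`. -/
theorem ExcData.exc_eq_off (χ ξ : Rel K) (t : G) (ht : ∀ g : G, g * t * g⁻¹ ∉ K) :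
    (D.f χ : G → ℂ) t = (D.f ξ : G → ℂ) t := by
  classical
  have h := congrFun (D.hf χ ξ) t
  have hzero : indFun (Subgroup.normalizer (K : Set G))
      ((χ.1 : ↥(Subgroup.normalizer (K : Set G)) → ℂ)
        - (ξ.1 : ↥(Subgroup.normalizer (K : Set G)) → ℂ)) t = 0 := by
    rw [Helper15.indFun_apply']
    have : ∀ x : G, extendByZero (Subgroup.normalizer (K : Set G))
        ((χ.1 : ↥(Subgroup.normalizer (K : Set G)) → ℂ)
          - (ξ.1 : ↥(Subgroup.normalizer (K : Set G)) → ℂ)) (x * t * x⁻¹) = 0 := by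
      intro x
      by_cases hx : x * t * x⁻¹ ∈ Subgroup.normalizer (K : Set G)
      · rw [Helper15.extendByZero_of_mem _ _ hx, Pi.sub_apply,
          Helper75.tf_vanish D.hC (χ := (χ.1 : ↥(Subgroup.normalizer (K : Set G)) → ℂ))
            ⟨χ.1.2, χ.2⟩ ⟨_, hx⟩ (ht x),
          Helper75.tf_vanish D.hC (χ := (ξ.1 : ↥(Subgroup.normalizer (K : Set G)) → ℂ))
            ⟨ξ.1.2, ξ.2⟩ ⟨_, hx⟩ (ht x), sub_zero]
      · exact Helper15.extendByZero_of_not_mem _ _ hx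
    rw [Finset.sum_congr rfl (fun x _ => this x), Finset.sum_const_zero, mul_zero]
  rw [hzero, Pi.smul_apply, Pi.sub_apply, smul_eq_mul] at h
  have h2 := D.eps_sq
  have h3 : (D.ε : ℂ) ≠ 0 := by
    intro h0
    rw [h0] at h2
    norm_num at h2
  rcases mul_eq_zero.mp h.symm with h4 | h4
  · exact absurd h4 h3
  · linear_combination h4

/-- The arithmetic of the exceptional characters, with the character values. -/
theorem ExcData.main' (hr : 2 ≤ Nat.card (Rel K)) :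
    ∃ (c : ℤ) (d : ℕ) (a : IrrCharacter G → ℤ) (s : Finset (IrrCharacter G)),
      d ∣ Nat.card G ∧
      ((d : ℤ) ≡ D.ε * ((K.subgroupOf (Subgroup.normalizer (K : Set G))).index : ℤ) + c
        [ZMOD (Nat.card K : ℤ)]) ∧
      Helper79.principalIrr G ∈ s ∧ a (Helper79.principalIrr G) = 1 ∧
      (∀ ψ ∈ s, ((charDegree (ψ : G → ℂ) : ℤ) ≡ a ψ [ZMOD (Nat.card K : ℤ)])) ∧
      (∑ ψ ∈ s, a ψ ^ 2 = ((K.subgroupOf (Subgroup.normalizer (K : Set G))).index : ℤ)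
        + 2 * D.ε * c - (Nat.card (Rel K) : ℤ) * c ^ 2) ∧
      (∑ ψ ∈ s, a ψ * (charDegree (ψ : G → ℂ) : ℤ)
        = (d : ℤ) * (D.ε - (Nat.card (Rel K) : ℤ) * c)) ∧
      (∑ ψ ∈ s, charDegree (ψ : G → ℂ) ^ 2 + Nat.card (Rel K) * d ^ 2 = Nat.card G) ∧
      (∀ ψ, ψ ∈ s ↔ ∀ χ : Rel K, D.f χ ≠ ψ) ∧
      (∀ χ : Rel K, (D.f χ : G → ℂ) 1 = (d : ℂ)) ∧
      (∀ χ : Rel K, ∀ k : ↥(Subgroup.normalizer (K : Set G)), (k : G) ∈ K → k ≠ 1 →
        (D.f χ : G → ℂ) k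
          = (D.ε : ℂ) * (χ.1 : ↥(Subgroup.normalizer (K : Set G)) → ℂ) k + c) ∧
      (∀ ψ ∈ s, ∀ k : ↥(Subgroup.normalizer (K : Set G)), (k : G) ∈ K → k ≠ 1 →
        (ψ : G → ℂ) k = a ψ) := by
  classical
  let _ := Helper74.irrFintype G
  let _ := Helper74.irrFintype ↥(Subgroup.normalizer (K : Set G))
  have hnt : Nontrivial (Rel K) := Finite.one_lt_card_iff_nontrivial.mp (by omega)
  obtain ⟨χ₁, χ₂, hne⟩ := exists_pair_ne (Rel K)
  obtain ⟨k₀, hk₀, hk₀ne⟩ := χ₁.2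
  have hk₀1 : k₀ ≠ 1 := fun h => hk₀ne (by rw [h])
  have hk₀1' : (k₀ : G) ≠ 1 := fun h => hk₀1 (Subtype.ext h)
  obtain ⟨c, hval, hdegc⟩ := D.exc_int χ₁
  have hnon : ∀ ψ : IrrCharacter G, (∀ χ : Rel K, D.f χ ≠ ψ) →
      ∃ a : ℤ, (∀ k : ↥(Subgroup.normalizer (K : Set G)), (k : G) ∈ K → k ≠ 1 →
        (ψ : G → ℂ) k = a) ∧
        ((charDegree (ψ : G → ℂ) : ℤ) ≡ a [ZMOD (Nat.card K : ℤ)]) := by
    intro ψ hψ
    exact D.nonexc_int ψ hψ k₀ hk₀ hk₀1
  let a : IrrCharacter G → ℤ := fun ψ =>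
    if h : ∀ χ : Rel K, D.f χ ≠ ψ then Classical.choose (hnon ψ h) else 0
  have ha : ∀ ψ : IrrCharacter G, (∀ χ : Rel K, D.f χ ≠ ψ) →
      (∀ k : ↥(Subgroup.normalizer (K : Set G)), (k : G) ∈ K → k ≠ 1 →
        (ψ : G → ℂ) k = a ψ) ∧
        ((charDegree (ψ : G → ℂ) : ℤ) ≡ a ψ [ZMOD (Nat.card K : ℤ)]) := by
    intro ψ h
    simp only [a, dif_pos h]
    exact Classical.choose_spec (hnon ψ h)
  let E : Finset (IrrCharacter G) := Finset.univ.image D.f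
  let s : Finset (IrrCharacter G) := Finset.univ \ E
  have hs : ∀ ψ, ψ ∈ s ↔ ∀ χ : Rel K, D.f χ ≠ ψ := by
    intro ψ
    simp [s, E]
  set d := charDegree (D.f χ₁ : G → ℂ) with hd_def
  have hd : ∀ χ : Rel K, (D.f χ : G → ℂ) 1 = (d : ℂ) := by
    intro χ
    rw [D.exc_degree_eq χ χ₁, Helper78.irrChar_one_eq_charDegree (D.f χ₁).2]
  have hsplit : ∀ F : IrrCharacter G → ℂ,
      ∑ ψ, F ψ = ∑ χ : Rel K, F (D.f χ) + ∑ ψ ∈ s, F ψ := by
    intro F
    rw [← Finset.sum_sdiff (Finset.subset_univ E),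
      Finset.sum_image (fun x _ y _ h => D.hinj h), add_comm]
  obtain ⟨hN1, hN2⟩ := nside_sums D.hC D.hab k₀ hk₀ hk₀1
  have hr' := rel_count D.hC D.hab
  have hrC : (Nat.card (Rel K) : ℂ)
      * ((K.subgroupOf (Subgroup.normalizer (K : Set G))).index : ℂ) + 1 = (Nat.card K : ℂ) := by
    exact_mod_cast hr'
  have hcardRel : (Finset.univ : Finset (Rel K)).card = Nat.card (Rel K) := by
    rw [Finset.card_univ, Nat.card_eq_fintype_card]
  have heps := D.eps_sq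
  refine ⟨c, d, a, s, Helper80.IsIrrCharacter.charDegree_dvd_card (D.f χ₁).2, hdegc χ₁, ?_, ?_,
    fun ψ hψ => (ha ψ ((hs ψ).mp hψ)).2, ?_, ?_, ?_, hs, hd, hval,
    fun ψ hψ => (ha ψ ((hs ψ).mp hψ)).1⟩
  · rw [hs]
    intro χ
    by_cases h : χ = χ₁
    · rw [h]; exact D.principal_not_exc hne
    · exact D.principal_not_exc h
  · have hp : ∀ χ : Rel K, D.f χ ≠ Helper79.principalIrr G := by
      intro χ
      by_cases h : χ = χ₁
      · rw [h]; exact D.principal_not_exc hne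
      · exact D.principal_not_exc h
    have h1 := (ha _ hp).1 k₀ hk₀ hk₀1
    have h2 : ((Helper79.principalIrr G : IrrCharacter G) : G → ℂ) (k₀ : G) = 1 := rfl
    rw [h2] at h1
    exact_mod_cast h1.symm
  · -- sum of squares of the values
    have hS1 := Helper74.second_orthogonality (G := G) (k₀ : G) (k₀ : G)
    rw [if_pos (IsConj.refl _), centralizer_eq D.hC D.hab hk₀ hk₀1', hsplit] at hS1
    have hterm : ∀ χ : Rel K, (D.f χ : G → ℂ) k₀ * conj ((D.f χ : G → ℂ) k₀)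
        = (χ.1 : ↥(Subgroup.normalizer (K : Set G)) → ℂ) k₀
            * conj ((χ.1 : ↥(Subgroup.normalizer (K : Set G)) → ℂ) k₀)
          + (D.ε : ℂ) * c * (χ.1 : ↥(Subgroup.normalizer (K : Set G)) → ℂ) k₀
          + (D.ε : ℂ) * c * conj ((χ.1 : ↥(Subgroup.normalizer (K : Set G)) → ℂ) k₀)
          + (c : ℂ) * c := by
      intro χ
      rw [hval χ k₀ hk₀ hk₀1]
      simp only [map_add, map_mul, map_intCast]
      linear_combination ((χ.1 : ↥(Subgroup.normalizer (K : Set G)) → ℂ) k₀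
        * conj ((χ.1 : ↥(Subgroup.normalizer (K : Set G)) → ℂ) k₀)) * heps
    have hE : ∑ χ : Rel K, (D.f χ : G → ℂ) k₀ * conj ((D.f χ : G → ℂ) k₀)
        = ((Nat.card K : ℂ) - ((K.subgroupOf (Subgroup.normalizer (K : Set G))).index : ℂ))
          - 2 * (D.ε : ℂ) * c + (Nat.card (Rel K) : ℂ) * ((c : ℂ) * c) := by
      rw [Finset.sum_congr rfl (fun χ _ => hterm χ), Finset.sum_add_distrib,
        Finset.sum_add_distrib, Finset.sum_add_distrib, ← Finset.mul_sum, ← Finset.mul_sum,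
        ← map_sum, hN1, hN2, Finset.sum_const, hcardRel, nsmul_eq_mul]
      simp only [map_neg, map_one]
      ring
    have hNE : ∑ ψ ∈ s, (ψ : G → ℂ) k₀ * conj ((ψ : G → ℂ) k₀)
        = ∑ ψ ∈ s, ((a ψ : ℂ)) ^ 2 := by
      refine Finset.sum_congr rfl (fun ψ hψ => ?_)
      rw [(ha ψ ((hs ψ).mp hψ)).1 k₀ hk₀ hk₀1, map_intCast]
      ring
    rw [hE, hNE] at hS1
    have hfin : ((∑ ψ ∈ s, a ψ ^ 2 : ℤ) : ℂ)
        = ((((K.subgroupOf (Subgroup.normalizer (K : Set G))).index : ℤ)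
          + 2 * D.ε * c - (Nat.card (Rel K) : ℤ) * c ^ 2 : ℤ) : ℂ) := by
      push_cast
      linear_combination hS1
    exact_mod_cast hfin
  · -- degree equation
    have hS2 := Helper75.tf_sum_degree_mul (N := G) hk₀1'
    rw [hsplit] at hS2
    have hE : ∑ χ : Rel K, (D.f χ : G → ℂ) 1 * (D.f χ : G → ℂ) k₀
        = (d : ℂ) * ((D.ε : ℂ) * (-1) + (Nat.card (Rel K) : ℂ) * c) := by
      have hterm : ∀ χ : Rel K, (D.f χ : G → ℂ) 1 * (D.f χ : G → ℂ) k₀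
          = (d : ℂ) * (D.ε : ℂ) * (χ.1 : ↥(Subgroup.normalizer (K : Set G)) → ℂ) k₀
            + (d : ℂ) * c := by
        intro χ
        rw [hval χ k₀ hk₀ hk₀1, hd χ]
        ring
      rw [Finset.sum_congr rfl (fun χ _ => hterm χ), Finset.sum_add_distrib, ← Finset.mul_sum,
        hN1, Finset.sum_const, hcardRel, nsmul_eq_mul]
      ring
    have hNE : ∑ ψ ∈ s, (ψ : G → ℂ) 1 * (ψ : G → ℂ) k₀
        = ∑ ψ ∈ s, ((a ψ : ℂ)) * (charDegree (ψ : G → ℂ) : ℂ) := by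
      refine Finset.sum_congr rfl (fun ψ hψ => ?_)
      rw [(ha ψ ((hs ψ).mp hψ)).1 k₀ hk₀ hk₀1, Helper78.irrChar_one_eq_charDegree ψ.2]
      ring
    rw [hE, hNE] at hS2
    have hfin : ((∑ ψ ∈ s, a ψ * (charDegree (ψ : G → ℂ) : ℤ) : ℤ) : ℂ)
        = (((d : ℤ) * (D.ε - (Nat.card (Rel K) : ℤ) * c) : ℤ) : ℂ) := by
      push_cast
      linear_combination hS2
    exact_mod_cast hfin
  · -- sum of squares of degrees
    have hS3 := Helper74.sum_irr_degree_sq (G := G)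
    rw [hsplit] at hS3
    have hE : ∑ χ : Rel K, (D.f χ : G → ℂ) 1 * (D.f χ : G → ℂ) 1
        = (Nat.card (Rel K) : ℂ) * ((d : ℂ) * d) := by
      rw [Finset.sum_congr rfl (fun χ _ => by rw [hd χ]), Finset.sum_const, hcardRel,
        nsmul_eq_mul]
    have hNE : ∑ ψ ∈ s, (ψ : G → ℂ) 1 * (ψ : G → ℂ) 1
        = ∑ ψ ∈ s, ((charDegree (ψ : G → ℂ) : ℂ)) ^ 2 := by
      refine Finset.sum_congr rfl (fun ψ _ => ?_)
      rw [Helper78.irrChar_one_eq_charDegree ψ.2]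
      ring
    rw [hE, hNE] at hS3
    have hfin : ((∑ ψ ∈ s, charDegree (ψ : G → ℂ) ^ 2 + Nat.card (Rel K) * d ^ 2 : ℕ) : ℂ)
        = ((Nat.card G : ℕ) : ℂ) := by
      push_cast
      linear_combination hS3
    exact_mod_cast hfin

end Values

end Cfsg.Agent.Helper17.Exc
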