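import Mathlib
import Cfsg.Agent.Helper17.Invol
import Cfsg.Agent.Helper17.FixedCosets
import Cfsg.Agent.Helper70.PCount7
import Cfsg.Agent.Helper43.ClassCount
import Cfsg.Agent.S1019

set_option autoImplicit false
set_option linter.style.haveILetI false

namespace Cfsg.Agent.Helper17

open Subgroup

variable {G : Type*} [Group G]

/-- every element of a simple group of order `> 2` acts as an even permutation -/
theorem sign_toPerm_eq_one' [Finite G] [IsSimpleGroup G] (hG : 2 < Nat.card G) {Ω : Type*}
    [Fintype Ω] [DecidableEq Ω] [MulAction G Ω] (c : G) :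
    Equiv.Perm.sign (MulAction.toPermHom G Ω c) = 1 := by
  let ψ : G →* ℤˣ := (Equiv.Perm.sign).comp (MulAction.toPermHom G Ω)
  rcases (MonoidHom.normal_ker ψ).eq_bot_or_eq_top with h | h
  · exfalso
    have hinj : Function.Injective ψ := (MonoidHom.ker_eq_bot_iff ψ).mp h
    have := Nat.card_le_card_of_injective ψ hinj
    rw [Nat.card_eq_fintype_card (α := ℤˣ), Fintype.card_units_int] at this
    omega
  · have : c ∈ ψ.ker := by rw [h]; exact Subgroup.mem_top c
    exact MonoidHom.mem_ker.mp this

theorem sign_of_involution' {Ω : Type*} [Fintype Ω] [DecidableEq Ω] (σ : Equiv.Perm Ω)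
    (h2 : orderOf σ = 2) (m : ℕ) (hm : σ.support.card = 2 * m) :
    Equiv.Perm.sign σ = (-1) ^ m := by
  have hprime : (orderOf σ).Prime := by rw [h2]; exact Nat.prime_two
  obtain ⟨n, hn⟩ := Equiv.Perm.cycleType_prime_order hprime
  rw [h2] at hn
  have hsum := Equiv.Perm.sum_cycleType σ
  rw [hn, Multiset.sum_replicate, smul_eq_mul, hm] at hsum
  have hnm : n + 1 = m := by omega
  rw [Equiv.Perm.sign_of_cycleType', hn, Multiset.map_replicate, Multiset.prod_replicate, hnm]
  norm_num

/-- **Parity count.** Let `P` be a Sylow subgroup of prime order in a simple group, and `t` the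
unique involution of `C(P)`, with `C(t) = N(P)`.  Then the number `F` of fixed points of `t` on the
cosets of `N(P)` satisfies `F ≡ 1 (mod p)`, `F ≤ |C(P)| + 1` and `F ≡ n_p (mod 4)`. -/
theorem parity_count [Finite G] [IsSimpleGroup G] (hG2 : 2 < Nat.card G) {p : ℕ} [hp : Fact p.Prime]
    (P : Sylow p G) (hP : Nat.card (P : Subgroup G) = p) (t : G) (ht2 : orderOf t = 2)
    (htC : t ∈ centralizer ((P : Subgroup G) : Set G))
    (huniq : ∀ c ∈ centralizer ((P : Subgroup G) : Set G), orderOf c = 2 → c = t)
    (hCt : centralizer ({t} : Set G) = normalizer ((P : Subgroup G) : Set G)) :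
    ∃ F m : ℕ, F ≡ 1 [MOD p] ∧ F ≤ Nat.card (centralizer ((P : Subgroup G) : Set G)) + 1 ∧
      F + 4 * m = (normalizer ((P : Subgroup G) : Set G)).index := by
  classical
  set N := normalizer ((P : Subgroup G) : Set G) with hNdef
  letI : Fintype (G ⧸ N) := Fintype.ofFinite _
  have htN : t ∈ N := Subgroup.centralizer_le_normalizer _ htC
  set Tset : Finset (G ⧸ N) := Finset.univ.filter (fun x => t • x = x) with hTset
  have hmemT : ∀ x : G ⧸ N, x ∈ Tset ↔ t • x = x := by
    intro x; rw [hTset, Finset.mem_filter]; simp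
  refine ⟨Tset.card, ?_⟩
  -- (i) congruence mod p
  have hcong : Tset.card ≡ 1 [MOD p] := by
    have hinv : ∀ g : (P : Subgroup G), ∀ x ∈ Tset, g • x ∈ Tset := by
      intro g x hx
      rw [hmemT] at hx ⊢
      have hcomm : (g : G) * t = t * g := htC g g.2
      change t • ((g : G) • x) = (g : G) • x
      rw [← mul_smul, ← hcomm, mul_smul, hx]
    have h1 := Helper70.PCount.card_modEq_card_fixed (p := p) P.isPGroup' Tset hinv
    have h2 : (Tset.filter (fun x => ∀ g : (P : Subgroup G), g • x = x)).card = 1 := by
      rw [Finset.card_eq_one]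
      refine ⟨((1 : G) : G ⧸ N), ?_⟩
      -- a generator of P
      have hPnt : Nontrivial (P : Subgroup G) := by
        rw [← Finite.one_lt_card_iff_nontrivial, hP]
        exact hp.out.one_lt
      obtain ⟨⟨y, hyP⟩, hy1⟩ := exists_ne (1 : (P : Subgroup G))
      have hy1' : y ≠ 1 := fun h => hy1 (Subtype.ext h)
      have hyo : orderOf y = p := by
        have h1 : orderOf y ∣ p := by
          have := orderOf_dvd_natCard (⟨y, hyP⟩ : (P : Subgroup G))
          rwa [hP, Subgroup.orderOf_mk] at this
        rcases (Nat.dvd_prime hp.out).mp h1 with h2 | h2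
        · exact absurd (orderOf_eq_one_iff.mp h2) hy1'
        · exact h2
      have hone := card_fixedBy_eq_one P hP y hyo
      have hbase : ∀ g : G, g ∈ N → g • (((1 : G) : G ⧸ N)) = ((1 : G) : G ⧸ N) := by
        intro g hg
        rw [MulAction.Quotient.smul_mk, QuotientGroup.eq]
        simpa using hg
      ext x
      rw [Finset.mem_filter, Finset.mem_singleton, hmemT]
      constructor
      · rintro ⟨-, hx⟩
        have hxy : x ∈ MulAction.fixedBy (G ⧸ N) y := by
          have := hx ⟨y, hyP⟩
          exact this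
        have hby : ((1 : G) : G ⧸ N) ∈ MulAction.fixedBy (G ⧸ N) y :=
          hbase y (Subgroup.le_normalizer hyP)
        have hss : Subsingleton (MulAction.fixedBy (G ⧸ N) y) :=
          (Nat.card_eq_one_iff_unique.mp hone).1
        have := hss.elim ⟨x, hxy⟩ ⟨_, hby⟩
        exact congrArg Subtype.val this
      · rintro rfl
        refine ⟨hbase t htN, fun g => ?_⟩
        exact hbase g (Subgroup.le_normalizer g.2)
    rw [h2] at h1
    exact h1
  -- (ii) the class count
  have hFcard : Nat.card (MulAction.fixedBy (G ⧸ N) t) = Tset.card := by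
    apply Nat.subtype_card
    intro x
    rw [hmemT]; rfl
  have hle : Tset.card ≤ Nat.card (centralizer ((P : Subgroup G) : Set G)) + 1 := by
    have h1 := Cfsg.Agent.S1019.result N t htN
    have h2 := Helper43.card_class_mul_card_centralizer t
    have h3 : Nat.card {x : G // ConjClasses.mk x = ConjClasses.mk t}
        = Nat.card {g : G // IsConj t g} := by
      apply Nat.card_congr
      refine Equiv.subtypeEquivRight ?_
      intro x
      rw [ConjClasses.mk_eq_mk_iff_isConj, isConj_comm]
    rw [h3, hCt] at h2
    have h4 := Subgroup.card_mul_index N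
    have hNpos : 0 < Nat.card N := Nat.card_pos
    have hidxpos : 0 < N.index := Nat.pos_of_ne_zero Subgroup.index_ne_zero_of_finite
    have h5 : Nat.card {g : G // IsConj t g} = N.index := by
      have : Nat.card {g : G // IsConj t g} * Nat.card N = N.index * Nat.card N := by
        rw [h2, mul_comm, h4]
      exact Nat.eq_of_mul_eq_mul_right hNpos this
    rw [h5, hFcard, mul_comm] at h1
    have h6 : Tset.card = Nat.card {g : G // IsConj t g ∧ g ∈ N} :=
      Nat.eq_of_mul_eq_mul_left hidxpos h1
    rw [h6]
    exact card_conj_inter_normalizer_le P hP t ht2 huniq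
  -- (iii) the sign
  set σ : Equiv.Perm (G ⧸ N) := MulAction.toPermHom G (G ⧸ N) t with hσ
  have hσ2 : σ ^ 2 = 1 := by
    rw [hσ, ← map_pow, ← ht2, pow_orderOf_eq_one, map_one]
  have hsupp : σ.support = Finset.univ \ Tset := by
    ext x
    rw [Equiv.Perm.mem_support, Finset.mem_sdiff, hmemT]
    simp [hσ]
  have hcardΩ : Fintype.card (G ⧸ N) = N.index := by
    rw [← Nat.card_eq_fintype_card]; rfl
  have hsuppcard : σ.support.card + Tset.card = N.index := by
    rw [hsupp, Finset.card_sdiff_of_subset (Finset.subset_univ _), Finset.card_univ, hcardΩ]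
    have : Tset.card ≤ N.index := by
      rw [← hcardΩ]; exact Finset.card_le_univ _
    omega
  by_cases hσ1 : σ = 1
  · refine ⟨0, hcong, hle, ?_⟩
    rw [hσ1, Equiv.Perm.support_one, Finset.card_empty] at hsuppcard
    omega
  · have hσord : orderOf σ = 2 := orderOf_eq_prime hσ2 hσ1
    obtain ⟨m', hm'⟩ := Equiv.Perm.two_dvd_card_support hσ2
    have hsign := sign_of_involution' σ hσord m' hm'
    have hone := sign_toPerm_eq_one' hG2 (Ω := G ⧸ N) t
    rw [← hσ, hsign] at hone
    have hev : Even m' := by
      by_contra hodd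
      rw [Nat.not_even_iff_odd] at hodd
      rw [hodd.neg_one_pow] at hone
      exact absurd hone (by decide)
    obtain ⟨m, hm⟩ := hev
    refine ⟨m, hcong, hle, ?_⟩
    omega

end Cfsg.Agent.Helper17
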