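import Mathlib
import Cfsg.Agent.Helper17.Parity

set_option autoImplicit false
set_option linter.style.haveILetI false

/-!
# Fixed points of an involution centralizing a Sylow subgroup of prime order

General form of `parity_count`: no uniqueness hypothesis.
-/

namespace Cfsg.Agent.Helper17

open Subgroup

variable {G : Type*} [Group G]

/-- An involution of a simple group acting on a finite set: `|Ω| ≡ |Fix| (mod 4)`. -/
theorem card_fixed_add_four_mul [Finite G] [IsSimpleGroup G] (hG2 : 2 < Nat.card G)
    {Ω : Type*} [Fintype Ω] [DecidableEq Ω] [MulAction G Ω] (t : G) (ht2 : t ^ 2 = 1) :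
    ∃ m : ℕ, (Finset.univ.filter (fun x : Ω => t • x = x)).card + 4 * m = Fintype.card Ω := by
  set Tset : Finset Ω := Finset.univ.filter (fun x => t • x = x) with hTset
  have hmemT : ∀ x : Ω, x ∈ Tset ↔ t • x = x := by
    intro x; rw [hTset, Finset.mem_filter]; simp
  set σ : Equiv.Perm Ω := MulAction.toPermHom G Ω t with hσ
  have hσ2 : σ ^ 2 = 1 := by
    rw [hσ, ← map_pow, ht2, map_one]
  have hsupp : σ.support = Finset.univ \ Tset := by
    ext x
    rw [Equiv.Perm.mem_support, Finset.mem_sdiff, hmemT]
    simp [hσ]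
  have hsuppcard : σ.support.card + Tset.card = Fintype.card Ω := by
    rw [hsupp, Finset.card_sdiff_of_subset (Finset.subset_univ _), Finset.card_univ]
    have : Tset.card ≤ Fintype.card Ω := Finset.card_le_univ _
    omega
  by_cases hσ1 : σ = 1
  · refine ⟨0, ?_⟩
    rw [hσ1, Equiv.Perm.support_one, Finset.card_empty] at hsuppcard
    omega
  · have hσord : orderOf σ = 2 := orderOf_eq_prime hσ2 hσ1
    obtain ⟨m', hm'⟩ := Equiv.Perm.two_dvd_card_support hσ2
    have hsign := sign_of_involution' σ hσord m' hm'
    have hone := sign_toPerm_eq_one' hG2 (Ω := Ω) t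
    rw [← hσ, hsign] at hone
    have hev : Even m' := by
      by_contra hodd
      rw [Nat.not_even_iff_odd] at hodd
      rw [hodd.neg_one_pow] at hone
      exact absurd hone (by decide)
    obtain ⟨m, hm⟩ := hev
    refine ⟨m, ?_⟩
    omega

/-- **Fixed-point count.** `P` a Sylow subgroup of prime order `p` in a simple group, `t` an
involution of `C(P)`, `F` the number of cosets of `N(P)` fixed by `t`: `F ≡ 1 (mod p)` and
`F ≡ n_p (mod 4)`. -/
theorem fix_count [Finite G] [IsSimpleGroup G] (hG2 : 2 < Nat.card G) {p : ℕ} [hp : Fact p.Prime]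
    (P : Sylow p G) (hP : Nat.card (P : Subgroup G) = p) (t : G) (ht2 : orderOf t = 2)
    (htC : t ∈ centralizer ((P : Subgroup G) : Set G)) :
    ∃ m : ℕ, Nat.card (MulAction.fixedBy (G ⧸ normalizer ((P : Subgroup G) : Set G)) t) ≡ 1 [MOD p] ∧
      Nat.card (MulAction.fixedBy (G ⧸ normalizer ((P : Subgroup G) : Set G)) t) + 4 * m
        = (normalizer ((P : Subgroup G) : Set G)).index := by
  classical
  set N := normalizer ((P : Subgroup G) : Set G) with hNdef
  letI : Fintype (G ⧸ N) := Fintype.ofFinite _
  have htN : t ∈ N := Subgroup.centralizer_le_normalizer _ htC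
  set Tset : Finset (G ⧸ N) := Finset.univ.filter (fun x => t • x = x) with hTset
  have hmemT : ∀ x : G ⧸ N, x ∈ Tset ↔ t • x = x := by
    intro x; rw [hTset, Finset.mem_filter]; simp
  have hFcard : Nat.card (MulAction.fixedBy (G ⧸ N) t) = Tset.card := by
    apply Nat.subtype_card
    intro x
    rw [hmemT]; rfl
  -- (i) congruence mod p
  have hcong : Tset.card ≡ 1 [MOD p] := by
    have hinv : ∀ g : (P : Subgroup G), ∀ x ∈ Tset, g • x ∈ Tset := by
      intro g x hx
      rw [hmemT] at hx ⊢
      have hcomm : (g : G) * t = t * g := htC g g.2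
      change t • ((g : G) • x) = (g : G) • x
      rw [← mul_smul, ← hcomm, mul_smul, hx]
    have h1 := Helper70.PCount.card_modEq_card_fixed (p := p) P.isPGroup' Tset hinv
    have h2 : (Tset.filter (fun x => ∀ g : (P : Subgroup G), g • x = x)).card = 1 := by
      rw [Finset.card_eq_one]
      refine ⟨((1 : G) : G ⧸ N), ?_⟩
      have hPnt : Nontrivial (P : Subgroup G) := by
        rw [← Finite.one_lt_card_iff_nontrivial, hP]
        exact hp.out.one_lt
      obtain ⟨⟨y, hyP⟩, hy1⟩ := exists_ne (1 : (P : Subgroup G))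
      have hy1' : y ≠ 1 := fun h => hy1 (Subtype.ext h)
      have hyo : orderOf y = p := by
        have h1 : orderOf y ∣ p := by
          have := orderOf_dvd_natCard (⟨y, hyP⟩ : (P : Subgroup G))
          rwa [hP, Subgroup.orderOf_mk] at this
        rcases (Nat.dvd_prime hp.out).mp h1 with h2 | h2
        · exact absurd (orderOf_eq_one_iff.mp h2) hy1'
        · exact h2
      have hone := card_fixedBy_eq_one P hP y hyo
      have hbase : ∀ g : G, g ∈ N → g • (((1 : G) : G ⧸ N)) = ((1 : G) : G ⧸ N) := by
        intro g hg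
        rw [MulAction.Quotient.smul_mk, QuotientGroup.eq]
        simpa using hg
      ext x
      rw [Finset.mem_filter, Finset.mem_singleton, hmemT]
      constructor
      · rintro ⟨-, hx⟩
        have hxy : x ∈ MulAction.fixedBy (G ⧸ N) y := by
          have := hx ⟨y, hyP⟩
          exact this
        have hby : ((1 : G) : G ⧸ N) ∈ MulAction.fixedBy (G ⧸ N) y :=
          hbase y (Subgroup.le_normalizer hyP)
        have hss : Subsingleton (MulAction.fixedBy (G ⧸ N) y) :=
          (Nat.card_eq_one_iff_unique.mp hone).1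
        have := hss.elim ⟨x, hxy⟩ ⟨_, hby⟩
        exact congrArg Subtype.val this
      · rintro rfl
        refine ⟨hbase t htN, fun g => ?_⟩
        exact hbase g (Subgroup.le_normalizer g.2)
    rw [h2] at h1
    exact h1
  have ht2' : t ^ 2 = 1 := by rw [← ht2]; exact pow_orderOf_eq_one t
  obtain ⟨m, hm⟩ := card_fixed_add_four_mul hG2 (Ω := G ⧸ N) t ht2'
  have hcardΩ : Fintype.card (G ⧸ N) = N.index := by
    rw [← Nat.card_eq_fintype_card]; rfl
  refine ⟨m, ?_, ?_⟩
  · rw [hFcard]; exact hcong
  · rw [hFcard, ← hcardΩ]; exact hm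

end Cfsg.Agent.Helper17
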