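import Mathlib
import Cfsg.Agent.Helper17.G168
import Cfsg.Agent.Helper17.SylowInter
import Cfsg.Agent.Helper17.SylowKit2
import Cfsg.Agent.Helper17.FixedCosets

set_option autoImplicit false

namespace Cfsg.Agent.Helper17.G168

open Subgroup MulAction Cfsg.Agent.Helper17

variable {G : Type*} [Group G] [Finite G] [IsSimpleGroup G]

local instance fact7b : Fact (Nat.Prime 7) := ⟨by norm_num⟩
local instance fact3b : Fact (Nat.Prime 3) := ⟨by norm_num⟩
local instance fact2b : Fact (Nat.Prime 2) := ⟨by norm_num⟩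

theorem orderOf_conj_mul {X : Type*} [Group X] (g x : X) : orderOf (g * x * g⁻¹) = orderOf x := by
  have := orderOf_injective (MulAut.conj g).toMonoidHom (MulAut.conj g).injective x
  simpa [MulAut.conj_apply] using this

theorem orderOf_conj_mul' {X : Type*} [Group X] (g x : X) : orderOf (g⁻¹ * x * g) = orderOf x := by
  have := orderOf_conj_mul g⁻¹ x
  rwa [inv_inv] at this

/-- An element commuting with an element of order 3 is a power of it. -/
theorem mem_zpowers_of_commute3 (h : Nat.card G = 168) {y g : G} (hy : orderOf y = 3)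
    (hc : g * y = y * g) : g ∈ zpowers y := by
  obtain ⟨Q, hQ⟩ := exists_sylow3_eq h y hy
  have hcard := card_centralizer3 h Q
  have hQcomm : IsMulCommutative (Q : Subgroup G) := by
    rw [hQ]; infer_instance
  have hQC : (Q : Subgroup G) ≤ centralizer ((Q : Subgroup G) : Set G) :=
    Subgroup.le_centralizer_iff_isMulCommutative.mpr hQcomm
  have heq : (Q : Subgroup G) = centralizer ((Q : Subgroup G) : Set G) :=
    Subgroup.eq_of_le_of_card_ge hQC (by rw [hcard, card_sylow3 h Q])
  rw [← hQ, heq, hQ, Subgroup.mem_centralizer_iff]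
  intro w hw
  obtain ⟨k, rfl⟩ := Subgroup.mem_zpowers_iff.mp hw
  have : Commute g y := hc
  exact (this.zpow_right k).eq.symm

theorem exists_sylow7_eq (h : Nat.card G = 168) (y : G) (hy : orderOf y = 7) :
    ∃ Q : Sylow 7 G, (Q : Subgroup G) = zpowers y := by
  have hcard : Nat.card (zpowers y) = 7 ^ 1 := by rw [Nat.card_zpowers, hy]; norm_num
  obtain ⟨Q, hQ⟩ := (IsPGroup.of_card hcard).exists_le_sylow
  refine ⟨Q, (Subgroup.eq_of_le_of_card_ge hQ ?_).symm⟩
  rw [card_sylow7 h Q, hcard]; norm_num

/-- An element commuting with an element of order 7 is a power of it. -/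
theorem mem_zpowers_of_commute7 (h : Nat.card G = 168) {y g : G} (hy : orderOf y = 7)
    (hc : g * y = y * g) : g ∈ zpowers y := by
  obtain ⟨Q, hQ⟩ := exists_sylow7_eq h y hy
  have heq := centralizer7_eq h Q
  rw [← hQ, ← heq, hQ, Subgroup.mem_centralizer_iff]
  intro w hw
  obtain ⟨k, rfl⟩ := Subgroup.mem_zpowers_iff.mp hw
  have : Commute g y := hc
  exact (this.zpow_right k).eq.symm

/-- The centralizer of a non-trivial `2`-element has order dividing 8. -/
theorem card_centralizer_dvd_eight (h : Nat.card G = 168) {z : G} (hz1 : z ≠ 1)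
    (hz : orderOf z ∣ 8) : Nat.card (centralizer ({z} : Set G)) ∣ 8 := by
  have hdvd : Nat.card (centralizer ({z} : Set G)) ∣ 8 * 21 := by
    have := Subgroup.card_subgroup_dvd_card (centralizer ({z} : Set G))
    rwa [h] at this
  have hno : ∀ p : ℕ, p.Prime → (p = 3 ∨ p = 7) → ¬ p ∣ Nat.card (centralizer ({z} : Set G)) := by
    intro p hp hp37 hpd
    haveI : Fact p.Prime := ⟨hp⟩
    obtain ⟨y, hy⟩ := exists_prime_orderOf_dvd_card' (G := ↥(centralizer ({z} : Set G))) p hpd
    have hyG : orderOf (y : G) = p := by rw [Subgroup.orderOf_coe]; exact hy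
    have hc : z * (y : G) = (y : G) * z := by
      have := Subgroup.mem_centralizer_iff.mp y.2 z (Set.mem_singleton z)
      exact this
    have hmem : z ∈ zpowers (y : G) := by
      rcases hp37 with rfl | rfl
      · exact mem_zpowers_of_commute3 h hyG hc
      · exact mem_zpowers_of_commute7 h hyG hc
    have h1 : orderOf z ∣ p := by
      have := orderOf_dvd_natCard (⟨z, hmem⟩ : zpowers (y : G))
      rwa [Subgroup.orderOf_mk, Nat.card_zpowers, hyG] at this
    have h2 : orderOf z ∣ Nat.gcd p 8 := Nat.dvd_gcd h1 hz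
    have h3 : Nat.gcd p 8 = 1 := by rcases hp37 with rfl | rfl <;> norm_num
    rw [h3, Nat.dvd_one, orderOf_eq_one_iff] at h2
    exact hz1 h2
  have hcop : Nat.Coprime (Nat.card (centralizer ({z} : Set G))) 21 := by
    have e : (21 : ℕ) = 3 * 7 := by norm_num
    rw [e]
    apply Nat.Coprime.mul_right
    · exact (Nat.coprime_comm.mp ((Nat.Prime.coprime_iff_not_dvd (by norm_num)).mpr
        (hno 3 (by norm_num) (Or.inl rfl))))
    · exact (Nat.coprime_comm.mp ((Nat.Prime.coprime_iff_not_dvd (by norm_num)).mpr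
        (hno 7 (by norm_num) (Or.inr rfl))))
  exact hcop.dvd_of_dvd_mul_right hdvd

/-- elements of a Sylow 2-subgroup have order dividing 8 -/
theorem orderOf_dvd_eight_of_mem (h : Nat.card G = 168) (T : Sylow 2 G) {z : G}
    (hz : z ∈ (T : Subgroup G)) : orderOf z ∣ 8 := by
  have := orderOf_dvd_natCard (⟨z, hz⟩ : (T : Subgroup G))
  rwa [Subgroup.orderOf_mk, card_sylow2 h T] at this

/-- The centralizer of a non-identity central element of a Sylow 2-subgroup `T` is `T`. -/
theorem centralizer_eq_of_central (h : Nat.card G = 168) (T : Sylow 2 G) (z : G)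
    (hzT : z ∈ (T : Subgroup G)) (hz1 : z ≠ 1) (hzc : ∀ t ∈ (T : Subgroup G), t * z = z * t) :
    centralizer ({z} : Set G) = (T : Subgroup G) := by
  have hle : (T : Subgroup G) ≤ centralizer ({z} : Set G) := by
    intro t ht
    rw [Subgroup.mem_centralizer_iff]
    intro w hw
    rw [Set.mem_singleton_iff] at hw
    rw [hw]
    exact (hzc t ht).symm
  have hdvd := card_centralizer_dvd_eight h hz1 (orderOf_dvd_eight_of_mem h T hzT)
  have hle' : Nat.card (centralizer ({z} : Set G)) ≤ 8 := Nat.le_of_dvd (by norm_num) hdvd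
  exact (Subgroup.eq_of_le_of_card_ge hle (by rw [card_sylow2 h T]; exact hle')).symm

/-- A Sylow 2-subgroup is self-normalizing. -/
theorem normalizer2_eq (h : Nat.card G = 168) (T : Sylow 2 G) :
    normalizer ((T : Subgroup G) : Set G) = (T : Subgroup G) := by
  have h1 := card_normalizer_mul_card_sylow T
  rw [n2 h, h] at h1
  have h2 : Nat.card (normalizer ((T : Subgroup G) : Set G)) = 8 := by omega
  exact (Subgroup.eq_of_le_of_card_ge Subgroup.le_normalizer (by rw [h2, card_sylow2 h T])).symm

/-- A Sylow 2-subgroup is not commutative. -/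
theorem sylow2_not_comm (h : Nat.card G = 168) (T : Sylow 2 G) :
    ¬ IsMulCommutative (T : Subgroup G) := by
  intro hc
  have hTC : (T : Subgroup G) ≤ centralizer ((T : Subgroup G) : Set G) :=
    Subgroup.le_centralizer_iff_isMulCommutative.mpr hc
  refine not_normalizer_le_centralizer_of_simple T ?_ ?_ ?_
  · rw [card_sylow2 h T]; norm_num
  · rw [card_sylow2 h T, h]; norm_num
  · rw [normalizer2_eq h T]; exact hTC


/-- A Sylow 2-subgroup contains at least two involutions. -/
theorem exists_two_involutions (h : Nat.card G = 168) (T : Sylow 2 G) :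
    ∃ s ∈ (T : Subgroup G), ∃ t ∈ (T : Subgroup G), orderOf s = 2 ∧ orderOf t = 2 ∧ s ≠ t := by
  by_contra hcon
  push Not at hcon
  -- uniqueness of involutions in every Sylow 2-subgroup
  have huniq : ∀ T' : Sylow 2 G, ∀ s ∈ (T' : Subgroup G), ∀ t ∈ (T' : Subgroup G),
      orderOf s = 2 → orderOf t = 2 → s = t := by
    intro T' s hs t ht hos hot
    obtain ⟨c, rfl⟩ := MulAction.exists_smul_eq G T T'
    rw [mem_smul_sylow_iff] at hs ht
    have h1 := hcon _ hs _ ht (by rw [← hos]; exact orderOf_conj_mul' c s) (by rw [← hot]; exact orderOf_conj_mul' c t)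
    have : c⁻¹ * s * c = c⁻¹ * t * c := h1
    have h2 := congrArg (fun w => c * w * c⁻¹) this
    simpa [mul_assoc] using h2
  -- an involution central in any Sylow containing it
  have hcentral : ∀ T' : Sylow 2 G, ∀ z ∈ (T' : Subgroup G), orderOf z = 2 →
      centralizer ({z} : Set G) = (T' : Subgroup G) := by
    intro T' z hz hoz
    apply centralizer_eq_of_central h T' z hz
    · intro h1; rw [h1, orderOf_one] at hoz; norm_num at hoz
    · intro a ha
      have h1 : a * z * a⁻¹ ∈ (T' : Subgroup G) := mul_mem (mul_mem ha hz) (inv_mem ha)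
      have h2 : orderOf (a * z * a⁻¹) = 2 := by rw [← hoz]; exact orderOf_conj_mul a z
      have h3 := huniq T' _ h1 _ hz h2 hoz
      calc a * z = a * z * a⁻¹ * a := by group
        _ = z * a := by rw [h3]
  have hmod : Nat.card (Sylow 2 G) ≡ 1 [MOD 8] := by
    apply card_sylow_modEq_one_of_dvd_index
    intro P R hPR
    have hinf : (P : Subgroup G) ⊓ (R : Subgroup G) = ⊥ := by
      by_contra hne
      have hcard1 : Nat.card ((P : Subgroup G) ⊓ (R : Subgroup G) : Subgroup G) ≠ 1 := by
        rwa [Ne, Subgroup.card_eq_one]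
      have hdvd8 : Nat.card ((P : Subgroup G) ⊓ (R : Subgroup G) : Subgroup G) ∣ 8 := by
        have := Subgroup.card_dvd_of_le (inf_le_left : (P : Subgroup G) ⊓ (R : Subgroup G) ≤ P)
        rwa [card_sylow2 h P] at this
      have h2dvd : 2 ∣ Nat.card ((P : Subgroup G) ⊓ (R : Subgroup G) : Subgroup G) := by
        have hmem : Nat.card ((P : Subgroup G) ⊓ (R : Subgroup G) : Subgroup G) ∈ Nat.divisors 8 :=
          Nat.mem_divisors.mpr ⟨hdvd8, by norm_num⟩
        have key : ∀ n ∈ Nat.divisors 8, n ≠ 1 → 2 ∣ n := by decide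
        exact key _ hmem hcard1
      obtain ⟨u, hu⟩ := exists_prime_orderOf_dvd_card'
        (G := ↥((P : Subgroup G) ⊓ (R : Subgroup G) : Subgroup G)) 2 h2dvd
      have huG : orderOf (u : G) = 2 := by rw [Subgroup.orderOf_coe]; exact hu
      have h1 := hcentral P u u.2.1 huG
      have h2 := hcentral R u u.2.2 huG
      exact hPR (Sylow.ext (h1.symm.trans h2))
    have := index_subgroupOf_mul_card_inf (P : Subgroup G) (R : Subgroup G)
    rw [hinf, Subgroup.card_bot, mul_one, card_sylow2 h P] at this
    rw [this]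
  rw [n2 h] at hmod
  exact absurd hmod (by decide)

end Cfsg.Agent.Helper17.G168
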