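import Mathlib
import Cfsg.Agent.Helper17.G168b
import Cfsg.Agent.S0206
import Cfsg.Agent.Helper17.MaxInter

set_option autoImplicit false

namespace Cfsg.Agent.Helper17.G168

open Subgroup MulAction Cfsg.Agent.Helper17

variable {G : Type*} [Group G] [Finite G] [IsSimpleGroup G]

local instance fact2c : Fact (Nat.Prime 2) := ⟨by norm_num⟩

/-- A Sylow 2-subgroup contains an element of order 4. -/
theorem exists_orderOf_four (h : Nat.card G = 168) (T : Sylow 2 G) :
    ∃ r ∈ (T : Subgroup G), orderOf r = 4 := by
  by_contra hcon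
  push Not at hcon
  apply sylow2_not_comm h T
  -- all elements of T have order 1 or 2
  have hsq : ∀ a ∈ (T : Subgroup G), a * a = 1 := by
    intro a ha
    have hd := orderOf_dvd_eight_of_mem h T ha
    have hmem : orderOf a ∈ Nat.divisors 8 := Nat.mem_divisors.mpr ⟨hd, by norm_num⟩
    have key : ∀ n ∈ Nat.divisors 8, n ≠ 4 → n ≠ 8 → n ∣ 2 := by decide
    have h8 : orderOf a ≠ 8 := by
      intro h8
      apply sylow2_not_comm h T
      have hcyc : IsCyclic (T : Subgroup G) :=
        isCyclic_of_orderOf_eq_card (⟨a, ha⟩ : (T : Subgroup G))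
          (by rw [Subgroup.orderOf_mk, h8, card_sylow2 h T])
      exact ⟨⟨fun x y => by
        obtain ⟨g, hg⟩ := IsCyclic.exists_generator (α := (T : Subgroup G))
        obtain ⟨m, rfl⟩ := Subgroup.mem_zpowers_iff.mp (hg x)
        obtain ⟨n, rfl⟩ := Subgroup.mem_zpowers_iff.mp (hg y)
        exact (Commute.zpow_zpow_self g m n).eq⟩⟩
    have := key _ hmem (hcon a ha) h8
    have h2 : a ^ 2 = 1 := orderOf_dvd_iff_pow_eq_one.mp this
    rwa [pow_two] at h2
  refine ⟨⟨fun a b => ?_⟩⟩
  apply Subtype.ext
  have ha := hsq a a.2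
  have hb := hsq b b.2
  have hab := hsq (a * b) (mul_mem a.2 b.2)
  have e1 : (a : G)⁻¹ = a := inv_eq_of_mul_eq_one_left ha
  have e2 : (b : G)⁻¹ = b := inv_eq_of_mul_eq_one_left hb
  have e3 : ((a : G) * b)⁻¹ = a * b := inv_eq_of_mul_eq_one_left hab
  calc ((a * b : (T : Subgroup G)) : G) = ((a : G) * b)⁻¹ := e3.symm
    _ = (b : G)⁻¹ * (a : G)⁻¹ := mul_inv_rev _ _
    _ = b * a := by rw [e1, e2]

/-- A Sylow 2-subgroup is dihedral of order 8. -/
theorem sylow2_dihedral (h : Nat.card G = 168) (T : Sylow 2 G) :
    Nonempty (↥(T : Subgroup G) ≃* DihedralGroup 4) := by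
  classical
  obtain ⟨r, hrT, hr⟩ := exists_orderOf_four h T
  obtain ⟨s₁, hs₁T, s₂, hs₂T, hs₁, hs₂, hne⟩ := exists_two_involutions h T
  -- an involution different from r^2
  obtain ⟨s, hsT, hs, hsr⟩ : ∃ s ∈ (T : Subgroup G), orderOf s = 2 ∧ s ≠ r ^ 2 := by
    by_cases h1 : s₁ = r ^ 2
    · exact ⟨s₂, hs₂T, hs₂, fun h2 => hne (h1.trans h2.symm)⟩
    · exact ⟨s₁, hs₁T, hs₁, h1⟩
  have hs2 : s * s = 1 := by
    have := pow_orderOf_eq_one s
    rwa [hs, pow_two] at this
  have hsinv : s⁻¹ = s := inv_eq_of_mul_eq_one_left hs2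
  have hr4 : r ^ 4 = 1 := by
    have := pow_orderOf_eq_one r
    rwa [hr] at this
  -- elements of zpowers r
  have hzp : ∀ w ∈ zpowers r, w = 1 ∨ w = r ∨ w = r ^ 2 ∨ w = r ^ 3 := by
    intro w hw
    rw [mem_zpowers_iff_mem_range_orderOf, hr] at hw
    simp only [Finset.mem_image, Finset.mem_range] at hw
    obtain ⟨k, hk, rfl⟩ := hw
    interval_cases k <;> simp
  have hs_notin : s ∉ zpowers r := by
    intro hmem
    rcases hzp s hmem with h1 | h1 | h1 | h1
    · rw [h1, orderOf_one] at hs; norm_num at hs
    · rw [h1, hr] at hs; norm_num at hs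
    · exact hsr h1
    · have : orderOf (r ^ 3) = 4 := by
        rw [orderOf_pow' r (by norm_num), hr]; norm_num
      rw [h1, this] at hs; norm_num at hs
  -- normality of zpowers r in T
  have hrle : zpowers r ≤ (T : Subgroup G) := zpowers_le.mpr hrT
  have hidx : ((zpowers r).subgroupOf (T : Subgroup G)).index = 2 := by
    have h1 := Subgroup.card_mul_index ((zpowers r).subgroupOf (T : Subgroup G))
    have h2 : Nat.card ((zpowers r).subgroupOf (T : Subgroup G)) = 4 := by
      rw [Nat.card_congr (Subgroup.subgroupOfEquivOfLe hrle).toEquiv, Nat.card_zpowers, hr]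
    rw [h2, card_sylow2 h T] at h1
    omega
  haveI hnorm : ((zpowers r).subgroupOf (T : Subgroup G)).Normal :=
    Subgroup.normal_of_index_eq_two hidx
  have hconj : s * r * s⁻¹ ∈ zpowers r := by
    have := hnorm.conj_mem ⟨r, hrT⟩ (by rw [Subgroup.mem_subgroupOf]; exact Subgroup.mem_zpowers r)
      ⟨s, hsT⟩
    rw [Subgroup.mem_subgroupOf] at this
    exact this
  have hconj_ord : orderOf (s * r * s⁻¹) = 4 := by rw [orderOf_conj_mul, hr]
  have hconj' : s * r * s⁻¹ = r ^ 3 := by
    rcases hzp _ hconj with h1 | h1 | h1 | h1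
    · rw [h1, orderOf_one] at hconj_ord; norm_num at hconj_ord
    · -- commuting case: T abelian
      exfalso
      apply sylow2_not_comm h T
      have hcomm : s * r = r * s := by
        calc s * r = s * r * s⁻¹ * s := by group
          _ = r * s := by rw [h1]
      -- closure {r, s} = T
      have hcl_le : closure ({r, s} : Set G) ≤ (T : Subgroup G) := by
        rw [Subgroup.closure_le]
        intro w hw
        rcases hw with rfl | rfl
        · exact hrT
        · exact hsT
      have hzr_lt : zpowers r < closure ({r, s} : Set G) := by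
        refine lt_of_le_of_ne ?_ ?_
        · rw [Subgroup.zpowers_le]; exact Subgroup.subset_closure (by simp)
        · intro heq
          apply hs_notin
          rw [heq]; exact Subgroup.subset_closure (by simp)
      have hcard_cl : Nat.card (closure ({r, s} : Set G)) = 8 := by
        have h1 : Nat.card (zpowers r) ∣ Nat.card (closure ({r, s} : Set G)) :=
          Subgroup.card_dvd_of_le hzr_lt.le
        have h2 : Nat.card (closure ({r, s} : Set G)) ∣ 8 := by
          have := Subgroup.card_dvd_of_le hcl_le
          rwa [card_sylow2 h T] at this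
        have h3 : Nat.card (zpowers r) < Nat.card (closure ({r, s} : Set G)) :=
          card_lt_of_lt' hzr_lt
        rw [Nat.card_zpowers, hr] at h1 h3
        have hmem : Nat.card (closure ({r, s} : Set G)) ∈ Nat.divisors 8 :=
          Nat.mem_divisors.mpr ⟨h2, by norm_num⟩
        have key : ∀ n ∈ Nat.divisors 8, 4 < n → n = 8 := by decide
        exact key _ hmem h3
      have hcl : closure ({r, s} : Set G) = (T : Subgroup G) :=
        Subgroup.eq_of_le_of_card_ge hcl_le (by rw [hcard_cl, card_sylow2 h T])
      -- every element of T commutes with r and s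
      have hcen : (T : Subgroup G) ≤ centralizer ({r, s} : Set G) := by
        rw [← hcl, Subgroup.closure_le]
        intro w hw
        rw [SetLike.mem_coe, Subgroup.mem_centralizer_iff]
        intro v hv
        rcases hw with rfl | rfl <;> rcases hv with rfl | rfl
        · rfl
        · exact hcomm
        · exact hcomm.symm
        · rfl
      rw [← Subgroup.le_centralizer_iff_isMulCommutative]
      intro a ha
      rw [Subgroup.mem_centralizer_iff]
      intro b hb
      -- b ∈ T = closure {r,s}; a commutes with r and s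
      have ha' := Subgroup.mem_centralizer_iff.mp (hcen ha)
      have hb' : b ∈ closure ({r, s} : Set G) := hcl ▸ hb
      have : closure ({r, s} : Set G) ≤ centralizer ({a} : Set G) := by
        rw [Subgroup.closure_le]
        intro w hw
        rw [SetLike.mem_coe, Subgroup.mem_centralizer_iff]
        intro v hv
        rw [Set.mem_singleton_iff] at hv
        rw [hv]
        exact (ha' w hw).symm
      have := Subgroup.mem_centralizer_iff.mp (this hb') a (Set.mem_singleton a)
      exact this.symm
    · rw [h1] at hconj_ord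
      have : orderOf (r ^ 2) = 2 := by
        rw [orderOf_pow' r (by norm_num), hr]; norm_num
      rw [this] at hconj_ord; norm_num at hconj_ord
    · exact h1
  -- the two involutions s and s * r
  have hsr1 : s * r ≠ 1 := by
    intro h1
    apply hs_notin
    have : s = r⁻¹ := eq_inv_of_mul_eq_one_left h1
    rw [this]; exact inv_mem (Subgroup.mem_zpowers r)
  have hsr_sq : (s * r) * (s * r) = 1 := by
    calc (s * r) * (s * r) = (s * r * s⁻¹) * r := by rw [hsinv]; group
      _ = r ^ 3 * r := by rw [hconj']
      _ = r ^ 4 := by group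
      _ = 1 := hr4
  have hsr_ord : orderOf (s * r) = 2 := by
    apply orderOf_eq_prime
    · rw [pow_two]; exact hsr_sq
    · exact hsr1
  have hne' : s ≠ s * r := by
    intro h1
    have : r = 1 := by
      have := mul_left_cancel (a := s) (b := 1) (c := r) (by rw [mul_one]; exact h1)
      exact this.symm
    rw [this, orderOf_one] at hr; norm_num at hr
  obtain ⟨e⟩ := Cfsg.Agent.S0206.result s (s * r) hs hsr_ord hne'
  have hprod : s * (s * r) = r := by rw [← mul_assoc, hs2, one_mul]
  rw [hprod, hr] at e
  -- closure {s, s r} = T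
  have hcl_le : closure ({s, s * r} : Set G) ≤ (T : Subgroup G) := by
    rw [Subgroup.closure_le]
    intro w hw
    rcases hw with rfl | rfl
    · exact hsT
    · exact mul_mem hsT hrT
  have hcard_cl : Nat.card (closure ({s, s * r} : Set G)) = 8 := by
    rw [Nat.card_congr e.toEquiv, Nat.card_eq_fintype_card, DihedralGroup.card]
  have hcl : closure ({s, s * r} : Set G) = (T : Subgroup G) :=
    Subgroup.eq_of_le_of_card_ge hcl_le (by rw [hcard_cl, card_sylow2 h T])
  exact ⟨(MulEquiv.subgroupCongr hcl.symm).trans e⟩

end Cfsg.Agent.Helper17.G168
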