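import Mathlib
import Cfsg.Agent.Helper17.G168c
import Cfsg.Agent.S0107
import Cfsg.Agent.S1019
import Cfsg.Agent.Helper90.D8Glue

set_option autoImplicit false

namespace Cfsg.Agent.Helper17.G168

open Subgroup MulAction Cfsg.Agent.Helper17

variable {G : Type*} [Group G] [Finite G] [IsSimpleGroup G]

local instance fact2d : Fact (Nat.Prime 2) := ⟨by norm_num⟩
local instance fact3d : Fact (Nat.Prime 3) := ⟨by norm_num⟩
local instance fact7d : Fact (Nat.Prime 7) := ⟨by norm_num⟩

omit [IsSimpleGroup G] in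
/-- Class equation for one class: `|C(x)| * |x^G| = |G|`. -/
theorem card_centralizer_mul_card_conj (x : G) :
    Nat.card (centralizer ({x} : Set G)) * Nat.card {y : G // IsConj x y} = Nat.card G := by
  have := Cfsg.Agent.S1019.card_preimage_conj x (Set.univ : Set G)
  have e1 : Nat.card {g : G // g⁻¹ * x * g ∈ (Set.univ : Set G)} = Nat.card G :=
    Nat.card_congr (Equiv.subtypeUnivEquiv (fun g => Set.mem_univ _))
  have e2 : Nat.card {y : G // IsConj x y ∧ y ∈ (Set.univ : Set G)} = Nat.card {y : G // IsConj x y} :=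
    Nat.card_congr (Equiv.subtypeEquivRight (fun y => by simp))
  rw [e1, e2] at this
  exact this.symm

/-- A Sylow 2-subgroup has a central involution. -/
theorem exists_central_involution (h : Nat.card G = 168) (T : Sylow 2 G) :
    ∃ z ∈ (T : Subgroup G), orderOf z = 2 ∧ ∀ t ∈ (T : Subgroup G), t * z = z * t := by
  haveI : Nontrivial (T : Subgroup G) := by
    rw [← Finite.one_lt_card_iff_nontrivial, card_sylow2 h T]; norm_num
  have hTp : IsPGroup 2 (T : Subgroup G) := T.isPGroup'
  haveI := hTp.center_nontrivial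
  have hcard1 : Nat.card (Subgroup.center (T : Subgroup G)) ≠ 1 := by
    rw [Ne, Subgroup.card_eq_one]
    exact Subgroup.nontrivial_iff_ne_bot _ |>.mp inferInstance
  have hdvd8 : Nat.card (Subgroup.center (T : Subgroup G)) ∣ 8 := by
    have := Subgroup.card_subgroup_dvd_card (Subgroup.center (T : Subgroup G))
    rwa [card_sylow2 h T] at this
  have h2dvd : 2 ∣ Nat.card (Subgroup.center (T : Subgroup G)) := by
    have hmem : Nat.card (Subgroup.center (T : Subgroup G)) ∈ Nat.divisors 8 :=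
      Nat.mem_divisors.mpr ⟨hdvd8, by norm_num⟩
    have key : ∀ n ∈ Nat.divisors 8, n ≠ 1 → 2 ∣ n := by decide
    exact key _ hmem hcard1
  obtain ⟨u, hu⟩ := exists_prime_orderOf_dvd_card'
    (G := ↥(Subgroup.center (T : Subgroup G))) 2 h2dvd
  refine ⟨((u : (T : Subgroup G)) : G), (u : (T : Subgroup G)).2, ?_, ?_⟩
  · rw [Subgroup.orderOf_coe, Subgroup.orderOf_coe]; exact hu
  · intro t ht
    have := (Subgroup.mem_center_iff.mp u.2) ⟨t, ht⟩
    exact congrArg Subtype.val this

/-- All involutions are conjugate. -/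
theorem isConj_of_involutions (h : Nat.card G = 168) (s t : G) (hs : orderOf s = 2)
    (ht : orderOf t = 2) : IsConj s t := by
  obtain ⟨T⟩ : Nonempty (Sylow 2 G) := inferInstance
  obtain ⟨e⟩ := sylow2_dihedral h T
  have hO : Cfsg.pResidual 2 G = ⊤ := Cfsg.Agent.Helper90.pResidual_two_eq_top (not_comm h)
  obtain ⟨g, hg⟩ := Cfsg.Agent.S0107.result T 2 le_rfl ⟨e⟩ hO s t hs ht
  exact isConj_iff.mpr ⟨g, hg⟩

/-- No element of order 8. -/
theorem orderOf_ne_eight (h : Nat.card G = 168) (g : G) : orderOf g ≠ 8 := by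
  intro h8
  have hcard : Nat.card (zpowers g) = 2 ^ 3 := by rw [Nat.card_zpowers, h8]; norm_num
  obtain ⟨T, hT⟩ := (IsPGroup.of_card hcard).exists_le_sylow
  apply sylow2_not_comm h T
  have hgT : g ∈ (T : Subgroup G) := hT (Subgroup.mem_zpowers g)
  have hcyc : IsCyclic (T : Subgroup G) :=
    isCyclic_of_orderOf_eq_card (⟨g, hgT⟩ : (T : Subgroup G))
      (by rw [Subgroup.orderOf_mk, h8, card_sylow2 h T])
  exact ⟨⟨fun x y => by
    obtain ⟨c, hc⟩ := IsCyclic.exists_generator (α := (T : Subgroup G))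
    obtain ⟨m, rfl⟩ := Subgroup.mem_zpowers_iff.mp (hc x)
    obtain ⟨n, rfl⟩ := Subgroup.mem_zpowers_iff.mp (hc y)
    exact (Commute.zpow_zpow_self c m n).eq⟩⟩

/-- Element orders. -/
theorem orderOf_mem (h : Nat.card G = 168) (g : G) :
    orderOf g = 1 ∨ orderOf g = 2 ∨ orderOf g = 3 ∨ orderOf g = 4 ∨ orderOf g = 7 := by
  have hdvd : orderOf g ∣ 168 := h ▸ orderOf_dvd_natCard g
  have hpos : 0 < orderOf g := orderOf_pos g
  have key3 : 3 ∣ orderOf g → orderOf g = 3 := by
    intro h3
    obtain ⟨m, hm⟩ := h3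
    have hm0 : m ≠ 0 := by rintro rfl; omega
    have ho : orderOf (g ^ m) = 3 := by
      rw [orderOf_pow' g hm0, hm, Nat.gcd_mul_left_left, Nat.mul_div_cancel _ (Nat.pos_of_ne_zero hm0)]
    have hc : g * g ^ m = g ^ m * g := (Commute.pow_right (Commute.refl g) m).eq
    have hmem := mem_zpowers_of_commute3 h ho hc
    have h1 : orderOf g ∣ 3 := by
      have := orderOf_dvd_natCard (⟨g, hmem⟩ : zpowers (g ^ m))
      rwa [Subgroup.orderOf_mk, Nat.card_zpowers, ho] at this
    exact Nat.dvd_antisymm h1 ⟨m, hm⟩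
  have key7 : 7 ∣ orderOf g → orderOf g = 7 := by
    intro h7
    obtain ⟨m, hm⟩ := h7
    have hm0 : m ≠ 0 := by rintro rfl; omega
    have ho : orderOf (g ^ m) = 7 := by
      rw [orderOf_pow' g hm0, hm, Nat.gcd_mul_left_left, Nat.mul_div_cancel _ (Nat.pos_of_ne_zero hm0)]
    have hc : g * g ^ m = g ^ m * g := (Commute.pow_right (Commute.refl g) m).eq
    have hmem := mem_zpowers_of_commute7 h ho hc
    have h1 : orderOf g ∣ 7 := by
      have := orderOf_dvd_natCard (⟨g, hmem⟩ : zpowers (g ^ m))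
      rwa [Subgroup.orderOf_mk, Nat.card_zpowers, ho] at this
    exact Nat.dvd_antisymm h1 ⟨m, hm⟩
  have h8 := orderOf_ne_eight h g
  have hmem : orderOf g ∈ Nat.divisors 168 := Nat.mem_divisors.mpr ⟨hdvd, by norm_num⟩
  have key : ∀ n ∈ Nat.divisors 168, (3 ∣ n → n = 3) → (7 ∣ n → n = 7) → n ≠ 8 →
      n = 1 ∨ n = 2 ∨ n = 3 ∨ n = 4 ∨ n = 7 := by decide
  exact key _ hmem key3 key7 h8

/-- There are exactly 21 involutions. -/
theorem card_involutions (h : Nat.card G = 168) : Nat.card {g : G // orderOf g = 2} = 21 := by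
  obtain ⟨T⟩ : Nonempty (Sylow 2 G) := inferInstance
  obtain ⟨z, hzT, hz, hzc⟩ := exists_central_involution h T
  have hz1 : z ≠ 1 := by intro h1; rw [h1, orderOf_one] at hz; norm_num at hz
  have hC := centralizer_eq_of_central h T z hzT hz1 hzc
  have hcl := card_centralizer_mul_card_conj z
  rw [hC, card_sylow2 h T, h] at hcl
  have e : {g : G // orderOf g = 2} ≃ {y : G // IsConj z y} :=
    Equiv.subtypeEquivRight (fun y => by
      constructor
      · intro hy; exact isConj_of_involutions h z y hz hy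
      · intro hy
        obtain ⟨c, hc⟩ := isConj_iff.mp hy
        rw [← hc, orderOf_conj_mul, hz])
  rw [Nat.card_congr e]
  omega

end Cfsg.Agent.Helper17.G168
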