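import Mathlib
import Cfsg.Agent.Helper17.G168d
import Cfsg.Agent.Helper17.CountOrder

set_option autoImplicit false

namespace Cfsg.Agent.Helper17.G168

open Subgroup MulAction Cfsg.Agent.Helper17

variable {G : Type*} [Group G] [Finite G] [IsSimpleGroup G]

local instance fact2e : Fact (Nat.Prime 2) := ⟨by norm_num⟩
local instance fact3e : Fact (Nat.Prime 3) := ⟨by norm_num⟩
local instance fact7e : Fact (Nat.Prime 7) := ⟨by norm_num⟩

theorem card_order3 (h : Nat.card G = 168) : Nat.card {g : G // orderOf g = 3} = 56 := by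
  rw [card_orderOf_eq_prime (fun P => card_sylow3 h P), n3 h]

theorem card_order7 (h : Nat.card G = 168) : Nat.card {g : G // orderOf g = 7} = 48 := by
  rw [card_orderOf_eq_prime (fun P => card_sylow7 h P), n7 h]

/-- An element of order 3 is conjugate to its inverse. -/
theorem isConj_inv_of_order3 (h : Nat.card G = 168) (t : G) (ht : orderOf t = 3) :
    IsConj t t⁻¹ := by
  obtain ⟨Q, hQ⟩ := exists_sylow3_eq h t ht
  have hN := card_normalizer3 h Q
  have hC := card_centralizer3 h Q
  -- an element of the normalizer outside the centralizer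
  have hlt : centralizer ((Q : Subgroup G) : Set G) < normalizer ((Q : Subgroup G) : Set G) := by
    refine lt_of_le_of_ne (Subgroup.centralizer_le_normalizer _) ?_
    intro heq
    rw [heq] at hC
    omega
  obtain ⟨u, huN, huC⟩ := SetLike.exists_of_lt hlt
  have hconj : u * t * u⁻¹ ∈ zpowers t := by
    have := (Subgroup.mem_normalizer_iff.mp huN t).mp (hQ ▸ Subgroup.mem_zpowers t)
    rwa [hQ] at this
  have hord : orderOf (u * t * u⁻¹) = 3 := by rw [orderOf_conj_mul, ht]
  have ht3 : t ^ 3 = 1 := by rw [← ht]; exact pow_orderOf_eq_one t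
  have hzp : ∀ w ∈ zpowers t, w = 1 ∨ w = t ∨ w = t ^ 2 := by
    classical
    intro w hw
    rw [mem_zpowers_iff_mem_range_orderOf, ht] at hw
    simp only [Finset.mem_image, Finset.mem_range] at hw
    obtain ⟨k, hk, rfl⟩ := hw
    interval_cases k <;> simp
  have hinv : t⁻¹ = t ^ 2 := by
    apply inv_eq_of_mul_eq_one_left
    rw [← pow_succ]; exact ht3
  rcases hzp _ hconj with h1 | h1 | h1
  · rw [h1, orderOf_one] at hord; norm_num at hord
  · exfalso
    apply huC
    rw [hQ, Subgroup.mem_centralizer_iff]
    intro w hw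
    obtain ⟨k, rfl⟩ := Subgroup.mem_zpowers_iff.mp hw
    have hcomm : Commute u t := by
      change u * t = t * u
      calc u * t = u * t * u⁻¹ * u := by group
        _ = t * u := by rw [h1]
    exact (hcomm.zpow_right k).eq.symm
  · rw [isConj_iff]
    exact ⟨u, by rw [h1, hinv]⟩

/-- All elements of order 3 are conjugate. -/
theorem isConj_of_order3 (h : Nat.card G = 168) (s t : G) (hs : orderOf s = 3)
    (ht : orderOf t = 3) : IsConj s t := by
  obtain ⟨Qs, hQs⟩ := exists_sylow3_eq h s hs
  obtain ⟨Qt, hQt⟩ := exists_sylow3_eq h t ht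
  obtain ⟨c, hc⟩ := MulAction.exists_smul_eq G Qs Qt
  have hmem : c * s * c⁻¹ ∈ zpowers t := by
    rw [← hQt, ← hc, mem_smul_sylow_iff, hQs]
    have : c⁻¹ * (c * s * c⁻¹) * c = s := by group
    rw [this]; exact Subgroup.mem_zpowers s
  have hord : orderOf (c * s * c⁻¹) = 3 := by rw [orderOf_conj_mul, hs]
  have ht3 : t ^ 3 = 1 := by rw [← ht]; exact pow_orderOf_eq_one t
  have hzp : ∀ w ∈ zpowers t, w = 1 ∨ w = t ∨ w = t ^ 2 := by
    classical
    intro w hw
    rw [mem_zpowers_iff_mem_range_orderOf, ht] at hw
    simp only [Finset.mem_image, Finset.mem_range] at hw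
    obtain ⟨k, hk, rfl⟩ := hw
    interval_cases k <;> simp
  have hinv : t⁻¹ = t ^ 2 := by
    apply inv_eq_of_mul_eq_one_left
    rw [← pow_succ]; exact ht3
  rcases hzp _ hmem with h1 | h1 | h1
  · rw [h1, orderOf_one] at hord; norm_num at hord
  · exact isConj_iff.mpr ⟨c, h1⟩
  · have h2 : IsConj s t⁻¹ := isConj_iff.mpr ⟨c, by rw [h1, hinv]⟩
    exact h2.trans (isConj_inv_of_order3 h t ht).symm

/-- Partition of the group by element order. -/
theorem card_order4 (h : Nat.card G = 168) : Nat.card {g : G // orderOf g = 4} = 42 := by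
  classical
  haveI : Fintype G := Fintype.ofFinite G
  have hsum : (Finset.univ : Finset G).card =
      ∑ n ∈ ({1, 2, 3, 4, 7} : Finset ℕ), (Finset.univ.filter (fun g : G => orderOf g = n)).card := by
    apply Finset.card_eq_sum_card_fiberwise
    intro g _
    have := orderOf_mem h g
    simp only [Finset.coe_insert, Finset.coe_singleton, Set.mem_insert_iff, Set.mem_singleton_iff]
    tauto
  have e : ∀ n : ℕ, (Finset.univ.filter (fun g : G => orderOf g = n)).card =
      Nat.card {g : G // orderOf g = n} := by
    intro n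
    rw [Nat.card_eq_fintype_card, Fintype.card_subtype]
  simp only [e] at hsum
  rw [Finset.card_univ, ← Nat.card_eq_fintype_card, h] at hsum
  have h1 : Nat.card {g : G // orderOf g = 1} = 1 := by
    have : {g : G // orderOf g = 1} ≃ Unit :=
      { toFun := fun _ => ()
        invFun := fun _ => ⟨1, orderOf_one⟩
        left_inv := fun g => Subtype.ext (orderOf_eq_one_iff.mp g.2).symm
        right_inv := fun _ => rfl }
    rw [Nat.card_congr this]; simp
  rw [Finset.sum_insert (by decide), Finset.sum_insert (by decide), Finset.sum_insert (by decide),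
    Finset.sum_insert (by decide), Finset.sum_singleton, h1, card_involutions h, card_order3 h,
    card_order7 h] at hsum
  omega


theorem dihedral_four_not_central : ∀ x : DihedralGroup 4, x ^ 2 ≠ 1 → ∃ y, x * y ≠ y * x := by
  decide

/-- The centralizer of an element of order 4 has order 4. -/
theorem card_centralizer_order4 (h : Nat.card G = 168) (u : G) (hu : orderOf u = 4) :
    Nat.card (centralizer ({u} : Set G)) = 4 := by
  have hu1 : u ≠ 1 := by intro h1; rw [h1, orderOf_one] at hu; norm_num at hu
  have hdvd8 := card_centralizer_dvd_eight h hu1 (by rw [hu]; norm_num)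
  have hle : zpowers u ≤ centralizer ({u} : Set G) := by
    rw [Subgroup.zpowers_le, Subgroup.mem_centralizer_iff]
    intro w hw
    rw [Set.mem_singleton_iff] at hw
    rw [hw]
  have h4dvd : 4 ∣ Nat.card (centralizer ({u} : Set G)) := by
    have := Subgroup.card_dvd_of_le hle
    rwa [Nat.card_zpowers, hu] at this
  have hmem : Nat.card (centralizer ({u} : Set G)) ∈ Nat.divisors 8 :=
    Nat.mem_divisors.mpr ⟨hdvd8, by norm_num⟩
  have key : ∀ n ∈ Nat.divisors 8, 4 ∣ n → n ≠ 8 → n = 4 := by decide
  apply key _ hmem h4dvd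
  intro h8
  have hcard : Nat.card (centralizer ({u} : Set G)) = 2 ^ 3 := by rw [h8]; norm_num
  obtain ⟨T, hT⟩ := (IsPGroup.of_card hcard).exists_le_sylow
  have hTeq : centralizer ({u} : Set G) = (T : Subgroup G) :=
    Subgroup.eq_of_le_of_card_ge hT (by rw [h8, card_sylow2 h T])
  have huT : u ∈ (T : Subgroup G) := hTeq ▸ hle (Subgroup.mem_zpowers u)
  obtain ⟨e⟩ := sylow2_dihedral h T
  have hsq : (e ⟨u, huT⟩) ^ 2 ≠ 1 := by
    intro h1
    rw [← map_pow, MulEquiv.map_eq_one_iff] at h1
    have h2 : u ^ 2 = 1 := by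
      have := congrArg Subtype.val h1
      simpa using this
    have := orderOf_dvd_of_pow_eq_one h2
    rw [hu] at this
    norm_num at this
  obtain ⟨y, hy⟩ := dihedral_four_not_central _ hsq
  apply hy
  have hy' : ((e.symm y : (T : Subgroup G)) : G) ∈ centralizer ({u} : Set G) := by
    rw [hTeq]; exact (e.symm y).2
  have hc := Subgroup.mem_centralizer_iff.mp hy' u (Set.mem_singleton u)
  have hc' : (⟨u, huT⟩ : (T : Subgroup G)) * e.symm y = e.symm y * ⟨u, huT⟩ := Subtype.ext hc
  have := congrArg e hc'
  simpa using this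

/-- All elements of order 4 are conjugate. -/
theorem isConj_of_order4 (h : Nat.card G = 168) (s t : G) (hs : orderOf s = 4)
    (ht : orderOf t = 4) : IsConj s t := by
  have hcl := card_centralizer_mul_card_conj s
  rw [card_centralizer_order4 h s hs, h] at hcl
  have hcard : Nat.card {y : G // IsConj s y} = 42 := by omega
  let f : {y : G // IsConj s y} → {g : G // orderOf g = 4} := fun y =>
    ⟨y.1, by
      obtain ⟨c, hc⟩ := isConj_iff.mp y.2
      rw [← hc, orderOf_conj_mul, hs]⟩
  have hf : Function.Injective f := by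
    intro a b hab
    apply Subtype.ext
    have := congrArg Subtype.val hab
    exact this
  have hbij : Function.Bijective f :=
    hf.bijective_of_nat_card_le (by rw [hcard, card_order4 h])
  obtain ⟨y, hy⟩ := hbij.2 ⟨t, ht⟩
  have : y.1 = t := congrArg Subtype.val hy
  rw [← this]; exact y.2

/-- The centralizer of an element of order 7 has order 7. -/
theorem card_centralizer_order7 (h : Nat.card G = 168) (x : G) (hx : orderOf x = 7) :
    Nat.card (centralizer ({x} : Set G)) = 7 := by
  have heq : centralizer ({x} : Set G) = zpowers x := by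
    apply le_antisymm
    · intro g hg
      have hc := Subgroup.mem_centralizer_iff.mp hg x (Set.mem_singleton x)
      exact mem_zpowers_of_commute7 h hx hc.symm
    · rw [Subgroup.zpowers_le, Subgroup.mem_centralizer_iff]
      intro w hw
      rw [Set.mem_singleton_iff] at hw
      rw [hw]
  rw [heq, Nat.card_zpowers, hx]

theorem card_conj_order7 (h : Nat.card G = 168) (x : G) (hx : orderOf x = 7) :
    Nat.card {g : G // IsConj x g} = 24 := by
  have hcl := card_centralizer_mul_card_conj x
  rw [card_centralizer_order7 h x hx, h] at hcl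
  omega

/-- An element of order 7 is not conjugate to its inverse. -/
theorem not_isConj_inv_order7 (h : Nat.card G = 168) (x : G) (hx : orderOf x = 7) :
    ¬ IsConj x x⁻¹ := by
  intro hconj
  obtain ⟨c, hc⟩ := isConj_iff.mp hconj
  -- c^2 centralizes x
  have hc2 : c ^ 2 * x = x * c ^ 2 := by
    have h1 : c * x = x⁻¹ * c := by
      calc c * x = c * x * c⁻¹ * c := by group
        _ = x⁻¹ * c := by rw [hc]
    have h2 : c * x⁻¹ = x * c := by
      have : c * x⁻¹ * c⁻¹ = (c * x * c⁻¹)⁻¹ := by group
      rw [hc, inv_inv] at this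
      calc c * x⁻¹ = c * x⁻¹ * c⁻¹ * c := by group
        _ = x * c := by rw [this]
    calc c ^ 2 * x = c * (c * x) := by rw [pow_two, mul_assoc]
      _ = c * (x⁻¹ * c) := by rw [h1]
      _ = (c * x⁻¹) * c := by rw [mul_assoc]
      _ = x * c * c := by rw [h2]
      _ = x * c ^ 2 := by rw [pow_two, mul_assoc]
  have hmem : c ^ 2 ∈ zpowers x := mem_zpowers_of_commute7 h hx hc2
  have hx1 : x ≠ x⁻¹ := by
    intro h1
    have : x ^ 2 = 1 := by rw [pow_two]; nth_rewrite 2 [h1]; exact mul_inv_cancel x
    have := orderOf_dvd_of_pow_eq_one this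
    rw [hx] at this; norm_num at this
  have hnc : ¬ (c * x = x * c) := by
    intro hcomm
    apply hx1
    calc x = x * c * c⁻¹ := by group
      _ = c * x * c⁻¹ := by rw [hcomm]
      _ = x⁻¹ := hc
  -- order of c^2 divides 7
  have h7 : orderOf (c ^ 2) ∣ 7 := by
    have := orderOf_dvd_natCard (⟨c ^ 2, hmem⟩ : zpowers x)
    rwa [Subgroup.orderOf_mk, Nat.card_zpowers, hx] at this
  have hc14 : c ^ 14 = 1 := by
    have : (c ^ 2) ^ 7 = 1 := orderOf_dvd_iff_pow_eq_one.mp h7
    rwa [← pow_mul] at this
  have hco : orderOf c ∣ 14 := orderOf_dvd_of_pow_eq_one hc14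
  rcases orderOf_mem h c with h1 | h1 | h1 | h1 | h1
  · rw [orderOf_eq_one_iff] at h1
    apply hnc; rw [h1]; simp
  · -- c is an involution normalizing zpowers x: impossible as |N| = 21
    obtain ⟨Q, hQ⟩ := exists_sylow7_eq h x hx
    have hcN : c ∈ normalizer ((Q : Subgroup G) : Set G) := by
      rw [hQ, Subgroup.mem_normalizer_iff]
      have hfwd : ∀ w, w ∈ zpowers x → c * w * c⁻¹ ∈ zpowers x := by
        intro w hw
        obtain ⟨k, rfl⟩ := Subgroup.mem_zpowers_iff.mp hw
        have : c * x ^ k * c⁻¹ = (c * x * c⁻¹) ^ k := by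
          rw [← MulAut.conj_apply, map_zpow, MulAut.conj_apply]
        rw [this, hc]
        exact zpow_mem (inv_mem (Subgroup.mem_zpowers x)) k
      have hc2' : c⁻¹ = c := by
        apply inv_eq_of_mul_eq_one_left
        have := pow_orderOf_eq_one c
        rwa [h1, pow_two] at this
      intro w
      constructor
      · exact hfwd w
      · intro hw
        have := hfwd _ hw
        rw [hc2'] at this hw
        have e : c * (c * w * c) * c = w := by
          have hcc : c * c = 1 := by
            have := pow_orderOf_eq_one c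
            rwa [h1, pow_two] at this
          calc c * (c * w * c) * c = (c * c) * w * (c * c) := by group
            _ = w := by rw [hcc]; simp
        rwa [e] at this
    have := orderOf_dvd_natCard (⟨c, hcN⟩ : normalizer ((Q : Subgroup G) : Set G))
    rw [Subgroup.orderOf_mk, h1, card_normalizer7 h Q] at this
    norm_num at this
  · rw [h1] at hco; norm_num at hco
  · rw [h1] at hco; norm_num at hco
  · -- order 7: c is a power of c^2, hence in zpowers x
    apply hnc
    have hc8 : c = (c ^ 2) ^ 4 := by
      rw [← pow_mul]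
      have : c ^ 7 = 1 := by rw [← h1]; exact pow_orderOf_eq_one c
      calc c = c ^ 7 * c := by rw [this, one_mul]
        _ = c ^ (2 * 4) := by rw [← pow_succ]
    have hcx : c ∈ zpowers x := by rw [hc8]; exact pow_mem hmem 4
    obtain ⟨k, hk⟩ := Subgroup.mem_zpowers_iff.mp hcx
    rw [← hk]
    exact ((Commute.refl x).zpow_left k).eq

end Cfsg.Agent.Helper17.G168
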