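import Mathlib
import Cfsg.Agent.Helper17.G168e
import Cfsg.Agent.Helper17.Klein

set_option autoImplicit false

namespace Cfsg.Agent.Helper17.G168

open Subgroup MulAction Cfsg.Agent.Helper17 DihedralGroup

theorem isKleinFour_of_card_four_of_sq {T : Type*} [Group T] (h4 : Nat.card T = 4)
    (hord : ∀ t : T, t ^ 2 = 1) : IsKleinFour T := by
  haveI : Finite T := Nat.finite_of_card_ne_zero (by rw [h4]; norm_num)
  refine ⟨h4, ?_⟩
  have hdvd : Monoid.exponent T ∣ 2 := Monoid.exponent_dvd_of_forall_pow_eq_one hord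
  have hne1 : Monoid.exponent T ≠ 1 := by
    intro h
    have := Monoid.exp_eq_one_iff.mp h
    have : Nat.card T = 1 := Nat.card_eq_one_iff_unique.mpr ⟨this, ⟨1⟩⟩
    omega
  rcases (Nat.dvd_prime Nat.prime_two).mp hdvd with h | h
  · exact absurd h hne1
  · exact h

theorem isKleinFour_of_mulEquiv {A B : Type*} [Group A] [Group B] (e : A ≃* B) [IsKleinFour A] :
    IsKleinFour B :=
  ⟨by rw [← Nat.card_congr e.toEquiv]; exact IsKleinFour.card_four,
   by rw [← Monoid.exponent_eq_of_mulEquiv e]; exact IsKleinFour.exponent_two⟩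

theorem sq_eq_one_of_isKleinFour {A : Type*} [Group A] [IsKleinFour A] (a : A) : a * a = 1 := by
  have := Monoid.pow_exponent_eq_one a
  rwa [IsKleinFour.exponent_two, pow_two] at this

/-! ### Element-level facts about `DihedralGroup 4` -/

theorem d4_fact1 : ∀ a b : DihedralGroup 4, a ≠ 1 → b ≠ 1 → a ≠ b → a * a = 1 → b * b = 1 →
    a * b = b * a → (a = r 2 ∨ b = r 2 ∨ a * b = r 2) := by decide

theorem d4_fact2 : ∀ a x : DihedralGroup 4, a ≠ 1 → a ≠ r 2 → a * a = 1 → x * a = a * x →
    (x = 1 ∨ x = r 2 ∨ x = a ∨ x = r 2 * a) := by decide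

theorem d4_fact3 : ∀ x : DihedralGroup 4, x * r 2 = r 2 * x := by decide

theorem d4_fact4 : ∀ a : DihedralGroup 4, a ≠ 1 → a ≠ r 2 → a * a = 1 →
    (a = sr 0 ∨ a = sr 2) ∨ (a = sr 1 ∨ a = sr 3) := by decide

/-- the first Klein four-subgroup of `DihedralGroup 4` -/
def kleinA : Subgroup (DihedralGroup 4) where
  carrier := {x | x = 1 ∨ x = r 2 ∨ x = sr 0 ∨ x = sr 2}
  mul_mem' := by
    intro a b ha hb
    simp only [Set.mem_ofPred_eq] at ha hb ⊢
    revert a b; decide
  one_mem' := Or.inl rfl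
  inv_mem' := by
    intro a ha
    simp only [Set.mem_ofPred_eq] at ha ⊢
    revert a; decide

/-- the second Klein four-subgroup of `DihedralGroup 4` -/
def kleinB : Subgroup (DihedralGroup 4) where
  carrier := {x | x = 1 ∨ x = r 2 ∨ x = sr 1 ∨ x = sr 3}
  mul_mem' := by
    intro a b ha hb
    simp only [Set.mem_ofPred_eq] at ha hb ⊢
    revert a b; decide
  one_mem' := Or.inl rfl
  inv_mem' := by
    intro a ha
    simp only [Set.mem_ofPred_eq] at ha ⊢
    revert a; decide

theorem mem_kleinA {x : DihedralGroup 4} : x ∈ kleinA ↔ x = 1 ∨ x = r 2 ∨ x = sr 0 ∨ x = sr 2 :=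
  Iff.rfl

theorem mem_kleinB {x : DihedralGroup 4} : x ∈ kleinB ↔ x = 1 ∨ x = r 2 ∨ x = sr 1 ∨ x = sr 3 :=
  Iff.rfl

instance decMemKleinA : DecidablePred (· ∈ kleinA) := fun x =>
  decidable_of_iff _ mem_kleinA.symm

instance decMemKleinB : DecidablePred (· ∈ kleinB) := fun x =>
  decidable_of_iff _ mem_kleinB.symm

theorem card_kleinA : Nat.card kleinA = 4 := by
  rw [Nat.card_eq_fintype_card, Fintype.card_subtype]; decide

theorem card_kleinB : Nat.card kleinB = 4 := by
  rw [Nat.card_eq_fintype_card, Fintype.card_subtype]; decide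

theorem kleinA_ne_kleinB : kleinA ≠ kleinB := by
  intro h
  have : (sr 0 : DihedralGroup 4) ∈ kleinB := h ▸ (mem_kleinA.mpr (by decide))
  rw [mem_kleinB] at this
  revert this; decide

instance isKleinFour_kleinA : IsKleinFour kleinA :=
  isKleinFour_of_card_four_of_sq card_kleinA (by
    rintro ⟨t, ht⟩
    apply Subtype.ext
    rw [mem_kleinA] at ht
    change t ^ 2 = 1
    revert ht t; decide)

instance isKleinFour_kleinB : IsKleinFour kleinB :=
  isKleinFour_of_card_four_of_sq card_kleinB (by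
    rintro ⟨t, ht⟩
    apply Subtype.ext
    rw [mem_kleinB] at ht
    change t ^ 2 = 1
    revert ht t; decide)


/-- Every Klein four-subgroup of `DihedralGroup 4` contains `r 2`. -/
theorem r2_mem_of_isKleinFour (V : Subgroup (DihedralGroup 4)) [IsKleinFour V] : r 2 ∈ V := by
  have hcard : Nat.card V = 4 := IsKleinFour.card_four
  have hsq : ∀ v ∈ V, v * v = 1 := fun v hv =>
    congrArg Subtype.val (sq_eq_one_of_isKleinFour (⟨v, hv⟩ : V))
  have hcomm : ∀ v ∈ V, ∀ w ∈ V, v * w = w * v := by
    intro v hv w hw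
    have h1 := hsq v hv
    have h2 := hsq w hw
    have h3 := hsq (v * w) (mul_mem hv hw)
    have e1 : v⁻¹ = v := inv_eq_of_mul_eq_one_left h1
    have e2 : w⁻¹ = w := inv_eq_of_mul_eq_one_left h2
    have e3 : (v * w)⁻¹ = v * w := inv_eq_of_mul_eq_one_left h3
    calc v * w = (v * w)⁻¹ := e3.symm
      _ = w⁻¹ * v⁻¹ := mul_inv_rev _ _
      _ = w * v := by rw [e1, e2]
  obtain ⟨a, haV, ha1⟩ : ∃ a ∈ V, a ≠ 1 := by
    rcases Subgroup.bot_or_exists_ne_one V with h | h
    · rw [h, Subgroup.card_bot] at hcard; norm_num at hcard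
    · exact h
  have haord : orderOf a = 2 := orderOf_eq_prime (by rw [pow_two]; exact hsq a haV) ha1
  have hlt : zpowers a < V := by
    refine lt_of_le_of_ne (Subgroup.zpowers_le.mpr haV) ?_
    intro h
    rw [← h, Nat.card_zpowers, haord] at hcard
    norm_num at hcard
  obtain ⟨b, hbV, hb⟩ := SetLike.exists_of_lt hlt
  have hb1 : b ≠ 1 := fun h => hb (h ▸ one_mem _)
  have hab : a ≠ b := fun h => hb (h ▸ Subgroup.mem_zpowers a)
  rcases d4_fact1 a b ha1 hb1 hab (hsq a haV) (hsq b hbV) (hcomm a haV b hbV) with h | h | h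
  · exact h ▸ haV
  · exact h ▸ hbV
  · exact h ▸ mul_mem haV hbV

/-- Every Klein four-subgroup of `DihedralGroup 4` is one of the two standard ones. -/
theorem eq_kleinA_or_kleinB (V : Subgroup (DihedralGroup 4)) [IsKleinFour V] :
    V = kleinA ∨ V = kleinB := by
  have hcard : Nat.card V = 4 := IsKleinFour.card_four
  have hsq : ∀ v ∈ V, v * v = 1 := fun v hv =>
    congrArg Subtype.val (sq_eq_one_of_isKleinFour (⟨v, hv⟩ : V))
  have hr2 := r2_mem_of_isKleinFour V
  have hr2ord : orderOf (r 2 : DihedralGroup 4) = 2 :=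
    orderOf_eq_prime (by decide) (by decide)
  have hlt : zpowers (r 2 : DihedralGroup 4) < V := by
    refine lt_of_le_of_ne (Subgroup.zpowers_le.mpr hr2) ?_
    intro h
    rw [← h, Nat.card_zpowers, hr2ord] at hcard
    norm_num at hcard
  obtain ⟨c, hcV, hc⟩ := SetLike.exists_of_lt hlt
  have hc1 : c ≠ 1 := fun h => hc (h ▸ one_mem _)
  have hcr : c ≠ r 2 := fun h => hc (h ▸ Subgroup.mem_zpowers _)
  have hrc : r 2 * c ∈ V := mul_mem hr2 hcV
  rcases d4_fact4 c hc1 hcr (hsq c hcV) with (h | h) | (h | h)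
  · left
    refine (Subgroup.eq_of_le_of_card_ge ?_ (by rw [hcard, card_kleinA])).symm
    intro x hx
    rw [h] at hcV hrc
    rcases mem_kleinA.mp hx with rfl | rfl | rfl | rfl
    · exact one_mem _
    · exact hr2
    · exact hcV
    · have : (r 2 * sr 0 : DihedralGroup 4) = sr 2 := by decide
      rwa [this] at hrc
  · left
    refine (Subgroup.eq_of_le_of_card_ge ?_ (by rw [hcard, card_kleinA])).symm
    intro x hx
    rw [h] at hcV hrc
    rcases mem_kleinA.mp hx with rfl | rfl | rfl | rfl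
    · exact one_mem _
    · exact hr2
    · have : (r 2 * sr 2 : DihedralGroup 4) = sr 0 := by decide
      rwa [this] at hrc
    · exact hcV
  · right
    refine (Subgroup.eq_of_le_of_card_ge ?_ (by rw [hcard, card_kleinB])).symm
    intro x hx
    rw [h] at hcV hrc
    rcases mem_kleinB.mp hx with rfl | rfl | rfl | rfl
    · exact one_mem _
    · exact hr2
    · exact hcV
    · have : (r 2 * sr 1 : DihedralGroup 4) = sr 3 := by decide
      rwa [this] at hrc
  · right
    refine (Subgroup.eq_of_le_of_card_ge ?_ (by rw [hcard, card_kleinB])).symm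
    intro x hx
    rw [h] at hcV hrc
    rcases mem_kleinB.mp hx with rfl | rfl | rfl | rfl
    · exact one_mem _
    · exact hr2
    · have : (r 2 * sr 3 : DihedralGroup 4) = sr 1 := by decide
      rwa [this] at hrc
    · exact hcV

/-- `DihedralGroup 4` has exactly two Klein four-subgroups. -/
theorem card_kleinFour_dihedral :
    Nat.card {V : Subgroup (DihedralGroup 4) // IsKleinFour V} = 2 := by
  rw [Nat.card_eq_two_iff]
  refine ⟨⟨kleinA, inferInstance⟩, ⟨kleinB, inferInstance⟩, ?_, ?_⟩
  · intro h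
    exact kleinA_ne_kleinB (congrArg Subtype.val h)
  · ext ⟨V, hV⟩
    simp only [Set.mem_insert_iff, Set.mem_singleton_iff, Set.mem_univ, iff_true]
    haveI := hV
    rcases eq_kleinA_or_kleinB V with h | h
    · left; exact Subtype.ext h
    · right; exact Subtype.ext h


/-- Transport of Klein four-subgroups along an isomorphism `T ≃* D`. -/
noncomputable def kleinEquiv {G : Type*} [Group G] (T : Subgroup G) {D : Type*} [Group D]
    (e : ↥T ≃* D) :
    {U : Subgroup G // U ≤ T ∧ IsKleinFour U} ≃ {V : Subgroup D // IsKleinFour V} where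
  toFun U := ⟨(U.1.subgroupOf T).map e.toMonoidHom, by
    haveI := U.2.2
    have e1 : ↥U.1 ≃* ↥(U.1.subgroupOf T) := (Subgroup.subgroupOfEquivOfLe U.2.1).symm
    have e2 : ↥(U.1.subgroupOf T) ≃* ↥((U.1.subgroupOf T).map e.toMonoidHom) :=
      e.subgroupMap (U.1.subgroupOf T)
    exact isKleinFour_of_mulEquiv (e1.trans e2)⟩
  invFun V := ⟨(V.1.comap e.toMonoidHom).map T.subtype, Subgroup.map_subtype_le _, by
    haveI := V.2
    have e1 : ↥(V.1.comap e.toMonoidHom) ≃* ↥((V.1.comap e.toMonoidHom).map T.subtype) :=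
      (V.1.comap e.toMonoidHom).equivMapOfInjective T.subtype T.subtype_injective
    have e2 : ↥(V.1.comap e.toMonoidHom) ≃* ↥((V.1.comap e.toMonoidHom).map e.toMonoidHom) :=
      e.subgroupMap (V.1.comap e.toMonoidHom)
    have h3 : (V.1.comap e.toMonoidHom).map e.toMonoidHom = V.1 :=
      Subgroup.map_comap_eq_self_of_surjective e.surjective V.1
    exact isKleinFour_of_mulEquiv ((e2.trans (MulEquiv.subgroupCongr h3)).symm.trans e1)⟩
  left_inv U := by
    apply Subtype.ext
    simp only
    rw [Subgroup.comap_map_eq_self_of_injective e.injective]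
    exact Subgroup.map_subgroupOf_eq_of_le U.2.1
  right_inv V := by
    apply Subtype.ext
    simp only
    have : ((V.1.comap e.toMonoidHom).map T.subtype).subgroupOf T = V.1.comap e.toMonoidHom :=
      Subgroup.comap_map_eq_self_of_injective T.subtype_injective _
    rw [this]
    exact Subgroup.map_comap_eq_self_of_surjective e.surjective V.1

variable {G : Type*} [Group G] [Finite G] [IsSimpleGroup G]

/-- A Sylow 2-subgroup contains exactly two Klein four-subgroups. -/
theorem card_kleinFour_le_sylow (h : Nat.card G = 168) (T : Sylow 2 G) :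
    Nat.card {U : Subgroup G // U ≤ (T : Subgroup G) ∧ IsKleinFour ↥U} = 2 := by
  obtain ⟨e⟩ := sylow2_dihedral h T
  rw [Nat.card_congr (kleinEquiv (T : Subgroup G) e)]
  exact card_kleinFour_dihedral

end Cfsg.Agent.Helper17.G168
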