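import Mathlib
import Cfsg.Agent.Helper17.G168f
import Cfsg.Agent.S1012
import Cfsg.Agent.Helper17.Brodkey

set_option autoImplicit false

namespace Cfsg.Agent.Helper17.G168

open Subgroup MulAction Cfsg.Agent.Helper17 DihedralGroup

variable {G : Type*} [Group G] [Finite G] [IsSimpleGroup G]

local instance fact2g : Fact (Nat.Prime 2) := ⟨by norm_num⟩

theorem d4_center : ∀ x : DihedralGroup 4, (∀ y, y * x = x * y) → x = 1 ∨ x = r 2 := by decide

/-- Structure of a Klein four-subgroup `U` of a Sylow 2-subgroup `T`: there are `z, a ∈ U` with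
`z` a central involution of `T`, `a` a non-central involution of `T`, and `C_T(a) ≤ U`. -/
theorem klein_structure (h : Nat.card G = 168) (T : Sylow 2 G) (U : Subgroup G)
    (hUT : U ≤ (T : Subgroup G)) [hU : IsKleinFour ↥U] :
    ∃ z ∈ U, ∃ a ∈ U, orderOf z = 2 ∧ orderOf a = 2 ∧ a ≠ z ∧
      (∀ t ∈ (T : Subgroup G), t * z = z * t) ∧
      (¬ ∀ t ∈ (T : Subgroup G), t * a = a * t) ∧
      (∀ x ∈ (T : Subgroup G), x * a = a * x → x ∈ U) := by
  obtain ⟨e⟩ := sylow2_dihedral h T
  -- image of U in the dihedral group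
  set V : Subgroup (DihedralGroup 4) := (U.subgroupOf (T : Subgroup G)).map e.toMonoidHom with hV
  haveI hVK : IsKleinFour V := (kleinEquiv (T : Subgroup G) e ⟨U, hUT, hU⟩).2
  have hr2 : r 2 ∈ V := r2_mem_of_isKleinFour V
  obtain ⟨u, hu, hu2⟩ := Subgroup.mem_map.mp hr2
  rw [Subgroup.mem_subgroupOf] at hu
  -- z
  have hzU : (u : G) ∈ U := hu
  have hez : e u = r 2 := hu2
  have hz1 : (u : G) ≠ 1 := by
    intro h1
    have : u = 1 := Subtype.ext h1
    rw [this, map_one] at hez
    revert hez; decide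
  have hzsq : (u : G) * u = 1 := by
    have : e (u * u) = 1 := by rw [map_mul, hez]; decide
    have := (MulEquiv.map_eq_one_iff e).mp this
    exact congrArg Subtype.val this
  have hzord : orderOf (u : G) = 2 := orderOf_eq_prime (by rw [pow_two]; exact hzsq) hz1
  have hzc : ∀ t ∈ (T : Subgroup G), t * (u : G) = u * t := by
    intro t ht
    have : e (⟨t, ht⟩ * u) = e (u * ⟨t, ht⟩) := by
      rw [map_mul, map_mul, hez]; exact d4_fact3 _
    exact congrArg Subtype.val (e.injective this)
  -- a
  have hUcard : Nat.card U = 4 := IsKleinFour.card_four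
  have hlt : zpowers (u : G) < U := by
    refine lt_of_le_of_ne (Subgroup.zpowers_le.mpr hzU) ?_
    intro heq
    rw [← heq, Nat.card_zpowers, hzord] at hUcard
    norm_num at hUcard
  obtain ⟨a, haU, ha⟩ := SetLike.exists_of_lt hlt
  have ha1 : a ≠ 1 := fun h1 => ha (h1 ▸ one_mem _)
  have haz : a ≠ (u : G) := fun h1 => ha (h1 ▸ Subgroup.mem_zpowers _)
  have hasq : a * a = 1 := congrArg Subtype.val (sq_eq_one_of_isKleinFour (⟨a, haU⟩ : U))
  have haord : orderOf a = 2 := orderOf_eq_prime (by rw [pow_two]; exact hasq) ha1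
  have haT : a ∈ (T : Subgroup G) := hUT haU
  have hea1 : e ⟨a, haT⟩ ≠ 1 := by
    intro h1
    have := (MulEquiv.map_eq_one_iff e).mp h1
    exact ha1 (congrArg Subtype.val this)
  have hear : e ⟨a, haT⟩ ≠ r 2 := by
    intro h1
    rw [← hez] at h1
    exact haz (congrArg Subtype.val (e.injective h1))
  have heasq : e ⟨a, haT⟩ * e ⟨a, haT⟩ = 1 := by
    rw [← map_mul]
    have : (⟨a, haT⟩ : (T : Subgroup G)) * ⟨a, haT⟩ = 1 := Subtype.ext hasq
    rw [this, map_one]
  refine ⟨u, hzU, a, haU, hzord, haord, haz, hzc, ?_, ?_⟩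
  · intro hac
    have : ∀ y : DihedralGroup 4, y * e ⟨a, haT⟩ = e ⟨a, haT⟩ * y := by
      intro y
      obtain ⟨t, rfl⟩ := e.surjective y
      rw [← map_mul, ← map_mul]
      congr 1
      exact Subtype.ext (hac t t.2)
    rcases d4_center _ this with h1 | h1
    · exact hea1 h1
    · exact hear h1
  · intro x hx hxa
    have hcomm : e ⟨x, hx⟩ * e ⟨a, haT⟩ = e ⟨a, haT⟩ * e ⟨x, hx⟩ := by
      rw [← map_mul, ← map_mul]
      congr 1
      exact Subtype.ext hxa
    rcases d4_fact2 _ _ hea1 hear heasq hcomm with h1 | h1 | h1 | h1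
    · have := (MulEquiv.map_eq_one_iff e).mp h1
      have hx1 : x = 1 := congrArg Subtype.val this
      rw [hx1]; exact one_mem _
    · rw [← hez] at h1
      have hxu : x = u := congrArg Subtype.val (e.injective h1)
      rw [hxu]; exact hzU
    · have hxa' : x = a := congrArg Subtype.val (e.injective h1)
      rw [hxa']; exact haU
    · rw [← hez, ← map_mul] at h1
      have hxua : x = u * a := congrArg Subtype.val (e.injective h1)
      rw [hxua]; exact mul_mem hzU haU


omit [IsSimpleGroup G] [Finite G] in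
/-- A subgroup of order 4 of a group of order 8 is normalized by it. -/
theorem le_normalizer_of_card (T U : Subgroup G) (hUT : U ≤ T) (hT : Nat.card T = 8)
    (hU : Nat.card U = 4) : T ≤ normalizer (U : Set G) := by
  have hidx : (U.subgroupOf T).index = 2 := by
    have h1 := Subgroup.card_mul_index (U.subgroupOf T)
    have h2 : Nat.card (U.subgroupOf T) = 4 := by
      rw [Nat.card_congr (Subgroup.subgroupOfEquivOfLe hUT).toEquiv, hU]
    rw [h2, hT] at h1
    omega
  haveI hnorm : (U.subgroupOf T).Normal := Subgroup.normal_of_index_eq_two hidx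
  intro t ht
  rw [Subgroup.mem_normalizer_iff]
  have hfwd : ∀ (t : G) (ht : t ∈ T) (x : G), x ∈ U → t * x * t⁻¹ ∈ U := by
    intro t ht x hx
    have := hnorm.conj_mem ⟨x, hUT hx⟩ (by rw [Subgroup.mem_subgroupOf]; exact hx) ⟨t, ht⟩
    rw [Subgroup.mem_subgroupOf] at this
    exact this
  intro x
  constructor
  · exact hfwd t ht x
  · intro hx
    have := hfwd t⁻¹ (inv_mem ht) _ hx
    simpa [mul_assoc] using this

/-- The centralizer of a Klein four-subgroup is itself. -/
theorem centralizer_klein (h : Nat.card G = 168) (U : Subgroup G) [hU : IsKleinFour ↥U] :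
    centralizer (U : Set G) = U := by
  have hUcard : Nat.card U = 4 := IsKleinFour.card_four
  obtain ⟨T, hUT⟩ := (IsPGroup.of_card (p := 2) (n := 2) (by rw [hUcard]; norm_num)).exists_le_sylow
  obtain ⟨z, hzU, a, haU, hz, ha, haz, hzc, hac, hCa⟩ := klein_structure h T U hUT
  have hz1 : z ≠ 1 := by intro h1; rw [h1, orderOf_one] at hz; norm_num at hz
  have hCz := centralizer_eq_of_central h T z (hUT hzU) hz1 hzc
  apply le_antisymm
  · intro x hx
    have hx' := Subgroup.mem_centralizer_iff.mp hx
    have hxT : x ∈ (T : Subgroup G) := by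
      rw [← hCz, Subgroup.mem_centralizer_iff]
      intro w hw
      rw [Set.mem_singleton_iff] at hw
      rw [hw]; exact hx' z hzU
    exact hCa x hxT (hx' a haU).symm
  · have hcomm : IsMulCommutative U := IsKleinFour.isMulCommutative
    exact Subgroup.le_centralizer_iff_isMulCommutative.mpr hcomm

/-- The normalizer of a Klein four-subgroup has order 24. -/
theorem card_normalizer_klein (h : Nat.card G = 168) (U : Subgroup G) [hU : IsKleinFour ↥U] :
    Nat.card (normalizer (U : Set G)) = 24 := by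
  have hUcard : Nat.card U = 4 := IsKleinFour.card_four
  obtain ⟨T, hUT⟩ := (IsPGroup.of_card (p := 2) (n := 2) (by rw [hUcard]; norm_num)).exists_le_sylow
  obtain ⟨z, hzU, a, haU, hz, ha, haz, hzc, hac, hCa⟩ := klein_structure h T U hUT
  have hz1 : z ≠ 1 := by intro h1; rw [h1, orderOf_one] at hz; norm_num at hz
  have ha1 : a ≠ 1 := by intro h1; rw [h1, orderOf_one] at ha; norm_num at ha
  -- a second Sylow 2-subgroup containing U
  obtain ⟨g, hg⟩ := isConj_iff.mp (isConj_of_involutions h z a hz ha)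
  have haT' : a ∈ ((g • T : Sylow 2 G) : Subgroup G) := by
    rw [mem_smul_sylow_iff, ← hg]
    have : g⁻¹ * (g * z * g⁻¹) * g = z := by group
    rw [this]; exact hUT hzU
  have hac' : ∀ t ∈ ((g • T : Sylow 2 G) : Subgroup G), t * a = a * t := by
    intro t ht
    rw [mem_smul_sylow_iff] at ht
    have := hzc _ ht
    rw [← hg]
    calc t * (g * z * g⁻¹) = g * ((g⁻¹ * t * g) * z) * g⁻¹ := by group
      _ = g * (z * (g⁻¹ * t * g)) * g⁻¹ := by rw [this]
      _ = g * z * g⁻¹ * t := by group
  have hCa' := centralizer_eq_of_central h (g • T) a haT' ha1 hac'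
  have hUT' : U ≤ ((g • T : Sylow 2 G) : Subgroup G) := by
    rw [← hCa']
    intro x hx
    rw [Subgroup.mem_centralizer_iff]
    intro w hw
    rw [Set.mem_singleton_iff] at hw
    rw [hw]
    have hcomm : IsMulCommutative U := IsKleinFour.isMulCommutative
    have := hcomm.is_comm.comm (⟨a, haU⟩ : U) ⟨x, hx⟩
    exact congrArg Subtype.val this
  have hne : ((g • T : Sylow 2 G) : Subgroup G) ≠ (T : Subgroup G) := by
    intro heq
    apply hac
    intro t ht
    exact hac' t (heq ▸ ht)
  have hTN := le_normalizer_of_card (T : Subgroup G) U hUT (card_sylow2 h T) hUcard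
  have hTN' := le_normalizer_of_card ((g • T : Sylow 2 G) : Subgroup G) U hUT'
    (card_sylow2 h (g • T)) hUcard
  -- order of the normalizer
  have h8 : 8 ∣ Nat.card (normalizer (U : Set G)) := by
    have := Subgroup.card_dvd_of_le hTN
    rwa [card_sylow2 h T] at this
  have hne8 : Nat.card (normalizer (U : Set G)) ≠ 8 := by
    intro h8'
    have e1 : (T : Subgroup G) = normalizer (U : Set G) :=
      Subgroup.eq_of_le_of_card_ge hTN (by rw [h8', card_sylow2 h T])
    have e2 : ((g • T : Sylow 2 G) : Subgroup G) = normalizer (U : Set G) :=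
      Subgroup.eq_of_le_of_card_ge hTN' (by rw [h8', card_sylow2 h (g • T)])
    exact hne (e2.trans e1.symm)
  have hdvd24 : Nat.card (normalizer (U : Set G)) ∣ 24 := by
    have h1 := card_centralizer_mul_relIndex U
    rw [centralizer_klein h U, hUcard] at h1
    have h2 := relIndex_centralizer_normalizer_dvd_card_mulAut U
    rw [centralizer_klein h U] at h2
    have h3 : Nat.card (MulAut U) ∣ 6 := card_mulAut_kleinFour_dvd
    rw [← h1]
    have : (24 : ℕ) = 4 * 6 := by norm_num
    rw [this]
    exact Nat.mul_dvd_mul_left 4 (h2.trans h3)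
  have hmem : Nat.card (normalizer (U : Set G)) ∈ Nat.divisors 24 :=
    Nat.mem_divisors.mpr ⟨hdvd24, by norm_num⟩
  have key : ∀ n ∈ Nat.divisors 24, 8 ∣ n → n ≠ 8 → n = 24 := by decide
  exact key _ hmem h8 hne8

/-- The normalizer of a Klein four-subgroup is isomorphic to `S₄`. -/
theorem normalizer_klein_equiv (h : Nat.card G = 168) (U : Subgroup G) [hU : IsKleinFour ↥U] :
    Nonempty (↥(normalizer (U : Set G)) ≃* Equiv.Perm (Fin 4)) := by
  apply Cfsg.Agent.S1012.result (card_normalizer_klein h U)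
  intro x hx
  have := orderOf_mem h (x : G)
  rw [Subgroup.orderOf_coe, hx] at this
  omega


/-- Two distinct Klein four-subgroups of a Sylow 2-subgroup are not conjugate. -/
theorem klein_not_conj (h : Nat.card G = 168) (T : Sylow 2 G) (U W : Subgroup G)
    (hUT : U ≤ (T : Subgroup G)) (hWT : W ≤ (T : Subgroup G)) [hU : IsKleinFour ↥U]
    [hW : IsKleinFour ↥W] (hne : U ≠ W) (g : G) : U.map (MulAut.conj g).toMonoidHom ≠ W := by
  intro hmap
  have hUcard : Nat.card U = 4 := IsKleinFour.card_four
  have hWcard : Nat.card W = 4 := IsKleinFour.card_four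
  have hTU := le_normalizer_of_card (T : Subgroup G) U hUT (card_sylow2 h T) hUcard
  have hTW := le_normalizer_of_card (T : Subgroup G) W hWT (card_sylow2 h T) hWcard
  have hWmem : ∀ w, w ∈ W ↔ g⁻¹ * w * g ∈ U := by
    intro w
    rw [← hmap, Subgroup.mem_map]
    constructor
    · rintro ⟨u, hu, rfl⟩
      have : g⁻¹ * ((MulAut.conj g).toMonoidHom u) * g = u := by
        simp [MulAut.conj_apply, mul_assoc]
      rw [this]; exact hu
    · intro hw
      refine ⟨g⁻¹ * w * g, hw, ?_⟩
      simp [MulAut.conj_apply, mul_assoc]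
  have hQW : ((g • T : Sylow 2 G) : Subgroup G) ≤ normalizer (W : Set G) := by
    intro y hy
    rw [mem_smul_sylow_iff] at hy
    have hyU := Subgroup.mem_normalizer_iff.mp (hTU hy)
    rw [Subgroup.mem_normalizer_iff]
    intro w
    rw [hWmem w, hWmem (y * w * y⁻¹), hyU (g⁻¹ * w * g)]
    have : g⁻¹ * y * g * (g⁻¹ * w * g) * (g⁻¹ * y * g)⁻¹ = g⁻¹ * (y * w * y⁻¹) * g := by group
    rw [this]
  obtain ⟨n, hnW, hn⟩ := exists_conj_mem_sylow_of_le T hTW ((g • T : Sylow 2 G) : Subgroup G)
    (g • T).isPGroup' hQW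
  have hmT : n * g ∈ (T : Subgroup G) := by
    rw [← normalizer2_eq h T]
    apply Subgroup.mem_normalizer_fintype
    intro t ht
    have h1 : g * t * g⁻¹ ∈ ((g • T : Sylow 2 G) : Subgroup G) := by
      rw [mem_smul_sylow_iff]
      have : g⁻¹ * (g * t * g⁻¹) * g = t := by group
      rw [this]; exact ht
    have := hn _ h1
    have e : n * g * t * (n * g)⁻¹ = n * (g * t * g⁻¹) * n⁻¹ := by group
    rw [e]; exact this
  have hmU := Subgroup.mem_normalizer_iff.mp (hTU hmT)
  apply hne
  symm
  refine Subgroup.eq_of_le_of_card_ge ?_ (by rw [hUcard, hWcard])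
  intro w hw
  have hnW' := Subgroup.mem_normalizer_iff.mp (inv_mem hnW)
  have hw' : n⁻¹ * w * n ∈ W := by
    have := (hnW' w).mp hw
    simpa using this
  have hu := (hWmem _).mp hw'
  have := (hmU _).mp hu
  have e : n * g * (g⁻¹ * (n⁻¹ * w * n) * g) * (n * g)⁻¹ = w := by group
  rwa [e] at this

end Cfsg.Agent.Helper17.G168
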