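import Mathlib
import Cfsg.Agent.Helper17.G168g

set_option autoImplicit false

namespace Cfsg.Agent.Helper17.G168

open Subgroup MulAction Cfsg.Agent.Helper17

variable {G : Type*} [Group G] [Finite G] [IsSimpleGroup G]

local instance fact2h : Fact (Nat.Prime 2) := ⟨by norm_num⟩
local instance fact3h : Fact (Nat.Prime 3) := ⟨by norm_num⟩
local instance fact7h : Fact (Nat.Prime 7) := ⟨by norm_num⟩

theorem card_dvd_and_le (h : Nat.card G = 168) (M : Subgroup G) (hM : M ≠ ⊤) :
    Nat.card M ∣ 168 ∧ Nat.card M ≤ 24 := by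
  have h1 := Subgroup.card_mul_index M
  rw [h] at h1
  have h2 := index_ge h M hM
  refine ⟨⟨M.index, h1.symm⟩, ?_⟩
  nlinarith

omit [Finite G] [IsSimpleGroup G] in
theorem coatom_absurd {M K : Subgroup G} (hM : IsCoatom M) (h1 : M < K) (h2 : K ≠ ⊤) : False :=
  h2 (hM.2 K h1)

omit [IsSimpleGroup G] in
theorem lt_of_le_of_card_lt {M K : Subgroup G} (hle : M ≤ K) (hlt : Nat.card M < Nat.card K) :
    M < K := by
  refine lt_of_le_of_ne hle ?_
  intro heq
  rw [heq] at hlt
  exact lt_irrefl _ hlt

theorem ne_top_of_card_lt (h : Nat.card G = 168) {K : Subgroup G} (hK : Nat.card K < 168) :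
    K ≠ ⊤ := by
  intro htop
  rw [htop, Subgroup.card_top, h] at hK
  exact lt_irrefl _ hK

omit [IsSimpleGroup G] [Finite G] in
/-- A subgroup of index 2 of `M` is normalized by `M`. -/
theorem le_normalizer_of_card_two_mul (M U : Subgroup G) [Finite M] (hUM : U ≤ M)
    (hcard : Nat.card M = 2 * Nat.card U) : M ≤ normalizer (U : Set G) := by
  have hidx : (U.subgroupOf M).index = 2 := by
    have h1 := Subgroup.card_mul_index (U.subgroupOf M)
    have h2 : Nat.card (U.subgroupOf M) = Nat.card U := by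
      rw [Nat.card_congr (Subgroup.subgroupOfEquivOfLe hUM).toEquiv]
    rw [h2, hcard] at h1
    have hpos : 0 < Nat.card U := by
      rcases Nat.eq_zero_or_pos (Nat.card U) with h0 | h0
      · rw [h0] at hcard
        have : 0 < Nat.card M := Nat.card_pos
        omega
      · exact h0
    nlinarith
  haveI hnorm : (U.subgroupOf M).Normal := Subgroup.normal_of_index_eq_two hidx
  intro t ht
  rw [Subgroup.mem_normalizer_iff]
  have hfwd : ∀ (t : G) (ht : t ∈ M) (x : G), x ∈ U → t * x * t⁻¹ ∈ U := by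
    intro t ht x hx
    have := hnorm.conj_mem ⟨x, hUM hx⟩ (by rw [Subgroup.mem_subgroupOf]; exact hx) ⟨t, ht⟩
    rw [Subgroup.mem_subgroupOf] at this
    exact this
  intro x
  constructor
  · exact hfwd t ht x
  · intro hx
    have := hfwd t⁻¹ (inv_mem ht) _ hx
    simpa [mul_assoc] using this

/-- No maximal subgroup is a 2-group. -/
theorem not_coatom_of_two_group (h : Nat.card G = 168) (M : Subgroup G) (hM2 : IsPGroup 2 M) :
    ¬ IsCoatom M := by
  intro hM
  obtain ⟨T, hMT⟩ := hM2.exists_le_sylow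
  have hTtop : (T : Subgroup G) ≠ ⊤ := ne_top_of_card_lt h (by rw [card_sylow2 h T]; norm_num)
  by_cases heq : M = (T : Subgroup G)
  · -- a Klein four-subgroup of T
    have hc := card_kleinFour_le_sylow h T
    haveI : Nonempty {U : Subgroup G // U ≤ (T : Subgroup G) ∧ IsKleinFour ↥U} := by
      rw [← Finite.card_pos_iff]
      · rw [hc]; norm_num
    obtain ⟨⟨U, hUT, hU⟩⟩ := ‹Nonempty {U : Subgroup G // U ≤ (T : Subgroup G) ∧ IsKleinFour ↥U}›
    have hTN := le_normalizer_of_card (T : Subgroup G) U hUT (card_sylow2 h T) IsKleinFour.card_four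
    have hN := card_normalizer_klein h U
    refine coatom_absurd hM (K := normalizer (U : Set G)) ?_ (ne_top_of_card_lt h (by rw [hN]; norm_num))
    rw [heq]
    exact lt_of_le_of_card_lt hTN (by rw [hN, card_sylow2 h T]; norm_num)
  · exact coatom_absurd hM (lt_of_le_of_ne hMT heq) hTtop


/-- Subgroups of order 3 are not maximal. -/
theorem not_coatom_of_card_three (h : Nat.card G = 168) (M : Subgroup G) (hc : Nat.card M = 3) :
    ¬ IsCoatom M := by
  intro hM
  obtain ⟨P, hMP⟩ := (IsPGroup.of_card (p := 3) (n := 1) (by rw [hc]; norm_num)).exists_le_sylow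
  have heq : M = (P : Subgroup G) :=
    Subgroup.eq_of_le_of_card_ge hMP (by rw [hc, card_sylow3 h P])
  have hN := card_normalizer3 h P
  refine coatom_absurd hM (K := normalizer ((P : Subgroup G) : Set G)) ?_
    (ne_top_of_card_lt h (by rw [hN]; norm_num))
  rw [heq]
  exact lt_of_le_of_card_lt Subgroup.le_normalizer (by rw [hN, card_sylow3 h P]; norm_num)

/-- Subgroups of order 7 are not maximal. -/
theorem not_coatom_of_card_seven (h : Nat.card G = 168) (M : Subgroup G) (hc : Nat.card M = 7) :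
    ¬ IsCoatom M := by
  intro hM
  obtain ⟨P, hMP⟩ := (IsPGroup.of_card (p := 7) (n := 1) (by rw [hc]; norm_num)).exists_le_sylow
  have heq : M = (P : Subgroup G) :=
    Subgroup.eq_of_le_of_card_ge hMP (by rw [hc, card_sylow7 h P])
  have hN := card_normalizer7 h P
  refine coatom_absurd hM (K := normalizer ((P : Subgroup G) : Set G)) ?_
    (ne_top_of_card_lt h (by rw [hN]; norm_num))
  rw [heq]
  exact lt_of_le_of_card_lt Subgroup.le_normalizer (by rw [hN, card_sylow7 h P]; norm_num)

/-- There is no subgroup of order 14. -/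
theorem card_ne_fourteen (h : Nat.card G = 168) (M : Subgroup G) : Nat.card M ≠ 14 := by
  intro hc
  obtain ⟨y, hy⟩ := exists_prime_orderOf_dvd_card' (G := ↥M) 7 (by rw [hc]; norm_num)
  have hyG : orderOf (y : G) = 7 := by rw [Subgroup.orderOf_coe]; exact hy
  obtain ⟨Q, hQ⟩ := exists_sylow7_eq h (y : G) hyG
  have hQM : (Q : Subgroup G) ≤ M := by rw [hQ, Subgroup.zpowers_le]; exact y.2
  have hMN := le_normalizer_of_card_two_mul M (Q : Subgroup G) hQM (by rw [hc, card_sylow7 h Q])
  have := Subgroup.card_dvd_of_le hMN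
  rw [hc, card_normalizer7 h Q] at this
  norm_num at this

/-- A subgroup of order 21 is the normalizer of a Sylow 7-subgroup, and is not commutative. -/
theorem eq_normalizer_of_card_twentyone (h : Nat.card G = 168) (M : Subgroup G)
    (hc : Nat.card M = 21) :
    ∃ Q : Sylow 7 G, M = normalizer ((Q : Subgroup G) : Set G) := by
  -- the Sylow 7-subgroup of M is normal
  have hcard7 : Nat.card M = 7 ^ 1 * 3 := by rw [hc]; norm_num
  obtain ⟨Q'⟩ : Nonempty (Sylow 7 M) := inferInstance
  have hn : Nat.card (Sylow 7 M) = 1 := by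
    have hdvd : Nat.card (Sylow 7 M) ∣ 3 := card_sylow_dvd_of_card_eq hcard7 (by norm_num)
    have hmod : Nat.card (Sylow 7 M) ≡ 1 [MOD 7] := card_sylow_modEq_one 7 M
    have hmem : Nat.card (Sylow 7 M) ∈ Nat.divisors 3 := Nat.mem_divisors.mpr ⟨hdvd, by norm_num⟩
    have key : ∀ n ∈ Nat.divisors 3, n % 7 = 1 % 7 → n = 1 := by decide
    exact key _ hmem hmod
  haveI : Subsingleton (Sylow 7 M) := (Nat.card_eq_one_iff_unique.mp hn).1
  have hQ'n : (Q' : Subgroup M).Normal := Sylow.normal_of_subsingleton Q'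
  have hQ'card : Nat.card (Q' : Subgroup M) = 7 := by
    simpa using card_sylow_subgroup_of_card_eq hcard7 (by norm_num) Q'
  -- its image in G
  set K : Subgroup G := (Q' : Subgroup M).map M.subtype with hK
  have hKcard : Nat.card K = 7 := by
    rw [hK, Nat.card_congr ((Q' : Subgroup M).equivMapOfInjective M.subtype
      M.subtype_injective).symm.toEquiv, hQ'card]
  obtain ⟨Q, hKQ⟩ := (IsPGroup.of_card (p := 7) (n := 1) (by rw [hKcard]; norm_num)).exists_le_sylow
  have hKeq : K = (Q : Subgroup G) :=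
    Subgroup.eq_of_le_of_card_ge hKQ (by rw [hKcard, card_sylow7 h Q])
  refine ⟨Q, ?_⟩
  have hMN : M ≤ normalizer ((Q : Subgroup G) : Set G) := by
    rw [← hKeq]
    intro m hm
    rw [Subgroup.mem_normalizer_iff]
    have hfwd : ∀ (m : G) (hm : m ∈ M) (x : G), x ∈ K → m * x * m⁻¹ ∈ K := by
      intro m hm x hx
      obtain ⟨x', hx', rfl⟩ := Subgroup.mem_map.mp hx
      have := hQ'n.conj_mem x' hx' ⟨m, hm⟩
      exact Subgroup.mem_map.mpr ⟨_, this, rfl⟩
    intro x
    constructor
    · exact hfwd m hm x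
    · intro hx
      have := hfwd m⁻¹ (inv_mem hm) _ hx
      simpa [mul_assoc] using this
  exact Subgroup.eq_of_le_of_card_ge hMN (by rw [card_normalizer7 h Q, hc])

theorem not_comm_of_card_twentyone (h : Nat.card G = 168) (M : Subgroup G)
    (hc : Nat.card M = 21) : ¬ IsMulCommutative ↥M := by
  intro hcomm
  obtain ⟨x, hx⟩ := exists_prime_orderOf_dvd_card' (G := ↥M) 3 (by rw [hc]; norm_num)
  obtain ⟨y, hy⟩ := exists_prime_orderOf_dvd_card' (G := ↥M) 7 (by rw [hc]; norm_num)
  have hxG : orderOf (x : G) = 3 := by rw [Subgroup.orderOf_coe]; exact hx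
  have hyG : orderOf (y : G) = 7 := by rw [Subgroup.orderOf_coe]; exact hy
  have hxy : (x : G) * y = y * x := congrArg Subtype.val (hcomm.is_comm.comm x y)
  have hmem := mem_zpowers_of_commute7 h hyG hxy
  have := orderOf_dvd_natCard (⟨(x : G), hmem⟩ : zpowers (y : G))
  rw [Subgroup.orderOf_mk, Nat.card_zpowers, hxG, hyG] at this
  norm_num at this


omit [Finite G] [IsSimpleGroup G] in
/-- The image of a normal subgroup `K'` of `M` is normalized by `M`. -/
theorem le_normalizer_map_subtype (M : Subgroup G) (K' : Subgroup M) [hn : K'.Normal] :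
    M ≤ normalizer ((K'.map M.subtype : Subgroup G) : Set G) := by
  intro m hm
  rw [Subgroup.mem_normalizer_iff]
  have hfwd : ∀ (m : G) (hm : m ∈ M) (x : G), x ∈ K'.map M.subtype → m * x * m⁻¹ ∈ K'.map M.subtype := by
    intro m hm x hx
    obtain ⟨x', hx', rfl⟩ := Subgroup.mem_map.mp hx
    have := hn.conj_mem x' hx' ⟨m, hm⟩
    exact Subgroup.mem_map.mpr ⟨_, this, rfl⟩
  intro x
  constructor
  · exact hfwd m hm x
  · intro hx
    have := hfwd m⁻¹ (inv_mem hm) _ hx
    simpa [mul_assoc] using this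

omit [Finite G] [IsSimpleGroup G] in
theorem card_map_subtype (M : Subgroup G) (K' : Subgroup M) :
    Nat.card (K'.map M.subtype : Subgroup G) = Nat.card K' :=
  Nat.card_congr (K'.equivMapOfInjective M.subtype M.subtype_injective).symm.toEquiv

/-- A subgroup of order 24 containing a Sylow 3-subgroup `Q` contains its normalizer. -/
theorem normalizer3_le_of_card (h : Nat.card G = 168) (K : Subgroup G) (hK : Nat.card K = 24)
    (Q : Sylow 3 G) (hQK : (Q : Subgroup G) ≤ K) :
    normalizer ((Q : Subgroup G) : Set G) ≤ K := by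
  have hcard3 : Nat.card K = 3 ^ 1 * 8 := by rw [hK]; norm_num
  set Q' : Sylow 3 K := Q.subtype hQK with hQ'
  have hn : Nat.card (Sylow 3 K) = 4 := by
    have hdvd : Nat.card (Sylow 3 K) ∣ 8 := card_sylow_dvd_of_card_eq hcard3 (by norm_num)
    have hmod : Nat.card (Sylow 3 K) ≡ 1 [MOD 3] := card_sylow_modEq_one 3 K
    have hne1 : Nat.card (Sylow 3 K) ≠ 1 := by
      intro h1
      haveI : Subsingleton (Sylow 3 K) := (Nat.card_eq_one_iff_unique.mp h1).1
      haveI hQ'n : (Q' : Subgroup K).Normal := Sylow.normal_of_subsingleton Q'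
      have hle := le_normalizer_map_subtype K (Q' : Subgroup K)
      have hmap : (Q' : Subgroup K).map K.subtype = (Q : Subgroup G) := by
        rw [hQ', Sylow.coe_subtype, Subgroup.subgroupOf_map_subtype, inf_of_le_left hQK]
      rw [hmap] at hle
      have := Subgroup.card_le_of_le hle
      rw [hK, card_normalizer3 h Q] at this
      omega
    have hmem : Nat.card (Sylow 3 K) ∈ Nat.divisors 8 := Nat.mem_divisors.mpr ⟨hdvd, by norm_num⟩
    have key : ∀ n ∈ Nat.divisors 8, n % 3 = 1 % 3 → n ≠ 1 → n = 4 := by decide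
    exact key _ hmem hmod hne1
  have hNK : Nat.card (normalizer ((Q' : Subgroup K) : Set K)) = 6 := by
    have := card_normalizer_mul_card_sylow Q'
    rw [hn, hK] at this
    omega
  -- the image of N_K(Q') lies in N_G(Q)
  have hmap_le : (normalizer ((Q' : Subgroup K) : Set K)).map K.subtype ≤
      normalizer ((Q : Subgroup G) : Set G) := by
    rintro x ⟨x', hx', rfl⟩
    apply Subgroup.mem_normalizer_fintype
    intro g hg
    have hgK : g ∈ K := hQK hg
    have hg' : (⟨g, hgK⟩ : K) ∈ (Q' : Subgroup K) := by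
      rw [hQ', Sylow.coe_subtype, Subgroup.mem_subgroupOf]; exact hg
    have := (Subgroup.mem_normalizer_iff.mp hx' ⟨g, hgK⟩).mp hg'
    rw [hQ', Sylow.coe_subtype, Subgroup.mem_subgroupOf] at this
    exact this
  have heq : (normalizer ((Q' : Subgroup K) : Set K)).map K.subtype =
      normalizer ((Q : Subgroup G) : Set G) :=
    Subgroup.eq_of_le_of_card_ge hmap_le (by rw [card_map_subtype, hNK, card_normalizer3 h Q])
  rw [← heq]
  exact Subgroup.map_subtype_le _


/-- Every Sylow 3-subgroup lies in a subgroup of order 24. -/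
theorem exists_card24_ge_sylow3 (h : Nat.card G = 168) (Q : Sylow 3 G) :
    ∃ K : Subgroup G, Nat.card K = 24 ∧ (Q : Subgroup G) ≤ K := by
  obtain ⟨T⟩ : Nonempty (Sylow 2 G) := inferInstance
  have hc := card_kleinFour_le_sylow h T
  haveI : Nonempty {U : Subgroup G // U ≤ (T : Subgroup G) ∧ IsKleinFour ↥U} := by
    rw [← Finite.card_pos_iff]
    · rw [hc]; norm_num
  obtain ⟨⟨U, hUT, hU⟩⟩ := ‹Nonempty {U : Subgroup G // U ≤ (T : Subgroup G) ∧ IsKleinFour ↥U}›
  have hN := card_normalizer_klein h U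
  obtain ⟨y, hy⟩ := exists_prime_orderOf_dvd_card' (G := ↥(normalizer (U : Set G))) 3
    (by rw [hN]; norm_num)
  have hyG : orderOf (y : G) = 3 := by rw [Subgroup.orderOf_coe]; exact hy
  obtain ⟨Q₀, hQ₀⟩ := exists_sylow3_eq h (y : G) hyG
  obtain ⟨c, hc⟩ := MulAction.exists_smul_eq G Q₀ Q
  refine ⟨(normalizer (U : Set G)).map (MulAut.conj c).toMonoidHom, ?_, ?_⟩
  · rw [Nat.card_congr ((normalizer (U : Set G)).equivMapOfInjective (MulAut.conj c).toMonoidHom
      (MulAut.conj c).injective).symm.toEquiv, hN]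
  · intro x hx
    rw [← hc, mem_smul_sylow_iff, hQ₀] at hx
    have hx' : c⁻¹ * x * c ∈ normalizer (U : Set G) := by
      have : zpowers (y : G) ≤ normalizer (U : Set G) := Subgroup.zpowers_le.mpr y.2
      exact this hx
    refine Subgroup.mem_map.mpr ⟨c⁻¹ * x * c, hx', ?_⟩
    simp [MulAut.conj_apply, mul_assoc]

/-- Subgroups of order 6 are not maximal. -/
theorem not_coatom_of_card_six (h : Nat.card G = 168) (M : Subgroup G) (hc : Nat.card M = 6) :
    ¬ IsCoatom M := by
  intro hM
  obtain ⟨y, hy⟩ := exists_prime_orderOf_dvd_card' (G := ↥M) 3 (by rw [hc]; norm_num)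
  have hyG : orderOf (y : G) = 3 := by rw [Subgroup.orderOf_coe]; exact hy
  obtain ⟨Q, hQ⟩ := exists_sylow3_eq h (y : G) hyG
  have hQM : (Q : Subgroup G) ≤ M := by rw [hQ, Subgroup.zpowers_le]; exact y.2
  have hMN := le_normalizer_of_card_two_mul M (Q : Subgroup G) hQM (by rw [hc, card_sylow3 h Q])
  have hMeq : M = normalizer ((Q : Subgroup G) : Set G) :=
    Subgroup.eq_of_le_of_card_ge hMN (by rw [card_normalizer3 h Q, hc])
  obtain ⟨K, hK, hQK⟩ := exists_card24_ge_sylow3 h Q
  have hle := normalizer3_le_of_card h K hK Q hQK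
  refine coatom_absurd hM (K := K) ?_ (ne_top_of_card_lt h (by rw [hK]; norm_num))
  rw [hMeq]
  exact lt_of_le_of_card_lt hle (by rw [card_normalizer3 h Q, hK]; norm_num)


/-- Subgroups of order 12 are not maximal. -/
theorem not_coatom_of_card_twelve (h : Nat.card G = 168) (M : Subgroup G) (hc : Nat.card M = 12) :
    ¬ IsCoatom M := by
  classical
  intro hM
  have hcard3 : Nat.card M = 3 ^ 1 * 4 := by rw [hc]; norm_num
  obtain ⟨Q'⟩ : Nonempty (Sylow 3 M) := inferInstance
  have hQ'card : Nat.card (Q' : Subgroup M) = 3 := by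
    simpa using card_sylow_subgroup_of_card_eq hcard3 (by norm_num) Q'
  -- image of Q' in G is a Sylow 3-subgroup of G
  have himg : Nat.card ((Q' : Subgroup M).map M.subtype : Subgroup G) = 3 := by
    rw [card_map_subtype, hQ'card]
  obtain ⟨Q, hQ⟩ := (IsPGroup.of_card (p := 3) (n := 1) (by rw [himg]; norm_num)).exists_le_sylow
  have hQeq : (Q' : Subgroup M).map M.subtype = (Q : Subgroup G) :=
    Subgroup.eq_of_le_of_card_ge hQ (by rw [himg, card_sylow3 h Q])
  have hn : Nat.card (Sylow 3 M) = 4 := by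
    have hdvd : Nat.card (Sylow 3 M) ∣ 4 := card_sylow_dvd_of_card_eq hcard3 (by norm_num)
    have hmod : Nat.card (Sylow 3 M) ≡ 1 [MOD 3] := card_sylow_modEq_one 3 M
    have hne1 : Nat.card (Sylow 3 M) ≠ 1 := by
      intro h1
      haveI : Subsingleton (Sylow 3 M) := (Nat.card_eq_one_iff_unique.mp h1).1
      haveI hQ'n : (Q' : Subgroup M).Normal := Sylow.normal_of_subsingleton Q'
      have hle := le_normalizer_map_subtype M (Q' : Subgroup M)
      rw [hQeq] at hle
      have := Subgroup.card_le_of_le hle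
      rw [hc, card_normalizer3 h Q] at this
      omega
    have hmem : Nat.card (Sylow 3 M) ∈ Nat.divisors 4 := Nat.mem_divisors.mpr ⟨hdvd, by norm_num⟩
    have key : ∀ n ∈ Nat.divisors 4, n % 3 = 1 % 3 → n ≠ 1 → n = 4 := by decide
    exact key _ hmem hmod hne1
  have hNM : Nat.card (normalizer ((Q' : Subgroup M) : Set M)) = 3 := by
    have := card_normalizer_mul_card_sylow Q'
    rw [hn, hc] at this
    omega
  have hNeq : normalizer ((Q' : Subgroup M) : Set M) = (Q' : Subgroup M) :=
    (Subgroup.eq_of_le_of_card_ge Subgroup.le_normalizer (by rw [hNM, hQ'card])).symm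
  have hQ'comm : IsMulCommutative (Q' : Subgroup M) := by
    haveI : Fact (Nat.card (Q' : Subgroup M)).Prime := ⟨hQ'card.symm ▸ (by norm_num)⟩
    have : IsCyclic (Q' : Subgroup M) := isCyclic_of_prime_card rfl
    exact ⟨⟨fun a b => by
      obtain ⟨g, hg⟩ := IsCyclic.exists_generator (α := (Q' : Subgroup M))
      obtain ⟨m, rfl⟩ := Subgroup.mem_zpowers_iff.mp (hg a)
      obtain ⟨n, rfl⟩ := Subgroup.mem_zpowers_iff.mp (hg b)
      exact (Commute.zpow_zpow_self g m n).eq⟩⟩
  have hle : normalizer ((Q' : Subgroup M) : Set M) ≤ centralizer ((Q' : Subgroup M) : Set M) := by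
    rw [hNeq]
    exact Subgroup.le_centralizer_iff_isMulCommutative.mpr hQ'comm
  have hcompl := MonoidHom.ker_transferSylow_isComplement' Q' hle
  set K' := (MonoidHom.transferSylow Q' hle).ker with hK'
  haveI : K'.Normal := MonoidHom.normal_ker _
  have hK'card : Nat.card K' = 4 := by
    have := hcompl.card_mul_card
    rw [hQ'card, hc] at this
    omega
  set K : Subgroup G := K'.map M.subtype with hK
  have hKcard : Nat.card K = 4 := by rw [hK, card_map_subtype, hK'card]
  have hMK : M ≤ normalizer (K : Set G) := le_normalizer_map_subtype M K'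
  have hKM : K ≤ M := Subgroup.map_subtype_le _
  -- K is not cyclic
  have hncyc : ¬ IsCyclic K := by
    intro hcyc
    obtain ⟨u, hu⟩ := IsCyclic.exists_generator (α := K)
    have huord : orderOf u = 4 := by
      rw [orderOf_eq_card_of_forall_mem_zpowers hu, hKcard]
    have huG : orderOf (u : G) = 4 := by rw [Subgroup.orderOf_coe]; exact huord
    -- an element of order 3 in M
    obtain ⟨y, hy⟩ := exists_prime_orderOf_dvd_card' (G := ↥M) 3 (by rw [hc]; norm_num)
    have hyG : orderOf (y : G) = 3 := by rw [Subgroup.orderOf_coe]; exact hy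
    have hyN := Subgroup.mem_normalizer_iff.mp (hMK y.2)
    have hw : (y : G) * u * (y : G)⁻¹ ∈ K := (hyN u).mp u.2
    have hKz : ∀ w ∈ K, w ∈ zpowers (u : G) := by
      intro w hw
      obtain ⟨k, hk⟩ := Subgroup.mem_zpowers_iff.mp (hu ⟨w, hw⟩)
      refine Subgroup.mem_zpowers_iff.mpr ⟨k, ?_⟩
      have := congrArg Subtype.val hk
      simpa using this
    have hzp : ∀ w ∈ zpowers (u : G), w = 1 ∨ w = u ∨ w = (u : G) ^ 2 ∨ w = (u : G) ^ 3 := by
      intro w hw
      rw [mem_zpowers_iff_mem_range_orderOf, huG] at hw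
      simp only [Finset.mem_image, Finset.mem_range] at hw
      obtain ⟨k, hk, rfl⟩ := hw
      interval_cases k <;> simp
    have hword : orderOf ((y : G) * u * (y : G)⁻¹) = 4 := by rw [orderOf_conj_mul, huG]
    have hu4 : (u : G) ^ 4 = 1 := by rw [← huG]; exact pow_orderOf_eq_one _
    have hy3 : (y : G) ^ 3 = 1 := by rw [← hyG]; exact pow_orderOf_eq_one _
    have hcomm : (u : G) * y = y * u := by
      rcases hzp _ (hKz _ hw) with h1 | h1 | h1 | h1
      · rw [h1, orderOf_one] at hword; norm_num at hword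
      · calc (u : G) * y = ((y : G) * u * (y : G)⁻¹) * y := by rw [h1]
          _ = y * u := by group
      · rw [h1] at hword
        have : orderOf ((u : G) ^ 2) = 2 := by
          rw [orderOf_pow' _ (by norm_num), huG]; norm_num
        rw [this] at hword; norm_num at hword
      · exfalso
        -- y u y⁻¹ = u⁻¹ leads to u² = 1
        have hinv : (u : G) ^ 3 = (u : G)⁻¹ := by
          apply eq_inv_of_mul_eq_one_left
          rw [← pow_succ]; exact hu4
        rw [hinv] at h1
        have h2 : (y : G) * (u : G)⁻¹ * (y : G)⁻¹ = u := by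
          have : (y : G) * (u : G)⁻¹ * (y : G)⁻¹ = ((y : G) * u * (y : G)⁻¹)⁻¹ := by group
          rw [this, h1, inv_inv]
        have hy3' : (y : G) * y * y = 1 := by rw [← hy3, pow_succ, pow_two]
        have h3 : (u : G) = (u : G)⁻¹ := by
          calc (u : G) = ((y : G) * y * y) * u * ((y : G) * y * y)⁻¹ := by rw [hy3']; simp
            _ = y * (y * (y * u * (y : G)⁻¹) * (y : G)⁻¹) * (y : G)⁻¹ := by group
            _ = y * (y * (u : G)⁻¹ * (y : G)⁻¹) * (y : G)⁻¹ := by rw [h1]
            _ = y * u * (y : G)⁻¹ := by rw [h2]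
            _ = (u : G)⁻¹ := h1
        have h4 : (u : G) ^ 2 = 1 := by
          rw [pow_two]
          nth_rewrite 1 [h3]
          exact inv_mul_cancel _
        have := orderOf_dvd_of_pow_eq_one h4
        rw [huG] at this; norm_num at this
    have hmem := mem_zpowers_of_commute3 h hyG hcomm
    have := orderOf_dvd_natCard (⟨(u : G), hmem⟩ : zpowers (y : G))
    rw [Subgroup.orderOf_mk, Nat.card_zpowers, huG, hyG] at this
    norm_num at this
  haveI hKK : IsKleinFour K := isKleinFour_of_card_four_of_not_isCyclic hKcard hncyc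
  have hN := card_normalizer_klein h K
  refine coatom_absurd hM (K := normalizer (K : Set G)) ?_
    (ne_top_of_card_lt h (by rw [hN]; norm_num))
  exact lt_of_le_of_card_lt hMK (by rw [hN, hc]; norm_num)

end Cfsg.Agent.Helper17.G168
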