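import Mathlib
import Cfsg.Agent.Helper17.G168h

set_option autoImplicit false

namespace Cfsg.Agent.Helper17.G168

open Subgroup MulAction Cfsg.Agent.Helper17 Equiv

/-- membership predicate of the Klein four-subgroup of `S₄` -/
def isV (σ : Perm (Fin 4)) : Prop := σ * σ = 1 ∧ (σ = 1 ∨ ∀ i, σ i ≠ i)

instance decIsV : DecidablePred isV := fun σ => by unfold isV; infer_instance

set_option maxRecDepth 100000 in
theorem isV_mul : ∀ a b : Perm (Fin 4), isV a → isV b → isV (a * b) := by decide

set_option maxRecDepth 100000 in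
theorem isV_conj : ∀ g a : Perm (Fin 4), isV a → isV (g * a * g⁻¹) := by decide

set_option maxRecDepth 100000 in
theorem isV_inv : ∀ a : Perm (Fin 4), isV a → isV a⁻¹ := by decide

/-- the normal Klein four-subgroup of `S₄` -/
def kleinS4 : Subgroup (Perm (Fin 4)) where
  carrier := {σ | isV σ}
  mul_mem' := fun {a b} ha hb => isV_mul a b ha hb
  one_mem' := by change isV 1; decide
  inv_mem' := fun {a} ha => isV_inv a ha

instance kleinS4_normal : kleinS4.Normal := ⟨fun a ha g => isV_conj g a ha⟩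

instance decMemKleinS4 : DecidablePred (· ∈ kleinS4) := fun σ =>
  decidable_of_iff (isV σ) Iff.rfl

set_option maxRecDepth 100000 in
theorem card_kleinS4 : Nat.card kleinS4 = 4 := by
  rw [Nat.card_eq_fintype_card, Fintype.card_subtype]; decide

theorem sq_of_mem_kleinS4 {σ : Perm (Fin 4)} (h : σ ∈ kleinS4) : σ * σ = 1 := h.1

variable {G : Type*} [Group G] [Finite G] [IsSimpleGroup G]

omit [Finite G] [IsSimpleGroup G] in
theorem mem_map_conj_iff (S : Subgroup G) (g x : G) :
    x ∈ S.map (MulAut.conj g).toMonoidHom ↔ g⁻¹ * x * g ∈ S := by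
  rw [Subgroup.mem_map]
  constructor
  · rintro ⟨u, hu, rfl⟩
    have : g⁻¹ * ((MulAut.conj g).toMonoidHom u) * g = u := by
      simp [MulAut.conj_apply, mul_assoc]
    rw [this]; exact hu
  · intro hw
    refine ⟨g⁻¹ * x * g, hw, ?_⟩
    simp [MulAut.conj_apply, mul_assoc]

omit [Finite G] [IsSimpleGroup G] in
theorem normalizer_map_conj (S : Subgroup G) (g : G) :
    normalizer ((S.map (MulAut.conj g).toMonoidHom : Subgroup G) : Set G) =
      (normalizer (S : Set G)).map (MulAut.conj g).toMonoidHom :=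
  (Subgroup.map_equiv_normalizer_eq S (MulAut.conj g)).symm

omit [IsSimpleGroup G] in
theorem smul_sylow_eq_map {p : ℕ} [Fact p.Prime] (Q : Sylow p G) (g : G) :
    ((g • Q : Sylow p G) : Subgroup G) = (Q : Subgroup G).map (MulAut.conj g).toMonoidHom := by
  ext x
  rw [mem_smul_sylow_iff, mem_map_conj_iff]

/-- A subgroup of order 24 is the normalizer of a Klein four-subgroup. -/
theorem exists_klein_of_card24 (h : Nat.card G = 168) (M : Subgroup G)
    (φ : ↥M ≃* Perm (Fin 4)) :
    ∃ U : Subgroup G, IsKleinFour ↥U ∧ M = normalizer (U : Set G) := by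
  have hMcard : Nat.card M = 24 := by
    rw [Nat.card_congr φ.toEquiv, Nat.card_eq_fintype_card, Fintype.card_perm, Fintype.card_fin]
    rfl
  set U' : Subgroup M := kleinS4.comap φ.toMonoidHom with hU'
  haveI : U'.Normal := Subgroup.Normal.comap kleinS4_normal _
  set U : Subgroup G := U'.map M.subtype with hU
  have hU'card : Nat.card U' = 4 := by
    have e : ↥U' ≃ ↥kleinS4 :=
      { toFun := fun x => ⟨φ x.1, x.2⟩
        invFun := fun x => ⟨φ.symm x.1, by
          change φ.toMonoidHom (φ.symm x.1) ∈ kleinS4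
          simp⟩
        left_inv := fun x => by simp
        right_inv := fun x => by simp }
    rw [Nat.card_congr e, card_kleinS4]
  have hUcard : Nat.card U = 4 := by rw [hU, card_map_subtype, hU'card]
  have hUsq : ∀ t : U, t ^ 2 = 1 := by
    rintro ⟨t, ht⟩
    obtain ⟨t', ht', rfl⟩ := Subgroup.mem_map.mp ht
    apply Subtype.ext
    have h1 : φ t' * φ t' = 1 := sq_of_mem_kleinS4 ht'
    have h2 : t' * t' = 1 := by
      apply φ.injective
      rw [map_mul, map_one]; exact h1
    have h3 : ((t' * t' : M) : G) = 1 := by rw [h2]; rfl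
    rw [pow_two]
    exact h3
  haveI hUK : IsKleinFour U := isKleinFour_of_card_four_of_sq hUcard hUsq
  refine ⟨U, hUK, ?_⟩
  have hMN : M ≤ normalizer (U : Set G) := le_normalizer_map_subtype M U'
  exact Subgroup.eq_of_le_of_card_ge hMN (by rw [card_normalizer_klein h U, hMcard])


local instance fact2i : Fact (Nat.Prime 2) := ⟨by norm_num⟩
local instance fact7i : Fact (Nat.Prime 7) := ⟨by norm_num⟩

/-- A maximal subgroup has order 24 or 21. -/
theorem coatom_card (h : Nat.card G = 168) (M : Subgroup G) (hM : IsCoatom M) :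
    Nat.card M = 24 ∨ Nat.card M = 21 := by
  obtain ⟨hdvd, hle⟩ := card_dvd_and_le h M hM.1
  have hmem : Nat.card M ∈ Nat.divisors 168 := Nat.mem_divisors.mpr ⟨hdvd, by norm_num⟩
  have key : ∀ n ∈ Nat.divisors 168, n ≤ 24 → n ≠ 1 → n ≠ 2 → n ≠ 4 → n ≠ 8 → n ≠ 3 → n ≠ 7 →
      n ≠ 6 → n ≠ 12 → n ≠ 14 → n = 24 ∨ n = 21 := by decide
  have h2pow : ∀ k : ℕ, Nat.card M ≠ 2 ^ k := by
    intro k hk
    exact not_coatom_of_two_group h M (IsPGroup.of_card hk) hM
  apply key _ hmem hle
  · exact h2pow 0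
  · exact h2pow 1
  · exact h2pow 2
  · exact h2pow 3
  · exact fun hc => not_coatom_of_card_three h M hc hM
  · exact fun hc => not_coatom_of_card_seven h M hc hM
  · exact fun hc => not_coatom_of_card_six h M hc hM
  · exact fun hc => not_coatom_of_card_twelve h M hc hM
  · exact card_ne_fourteen h M

/-- Part (A). -/
theorem coatom_structure (h : Nat.card G = 168) (M : Subgroup G) (hM : IsCoatom M) :
    Nonempty (↥M ≃* Perm (Fin 4)) ∨ (Nat.card ↥M = 21 ∧ ¬ IsMulCommutative ↥M) := by
  rcases coatom_card h M hM with hc | hc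
  · left
    apply Cfsg.Agent.S1012.result hc
    intro x hx
    have := orderOf_mem h (x : G)
    rw [Subgroup.orderOf_coe, hx] at this
    omega
  · right
    exact ⟨hc, not_comm_of_card_twentyone h M hc⟩

/-- Part (B). -/
theorem conj_of_card_twentyone (h : Nat.card G = 168) (M M' : Subgroup G)
    (hc : Nat.card M = 21) (hc' : Nat.card M' = 21) :
    ∃ g : G, M' = M.map (MulAut.conj g).toMonoidHom := by
  obtain ⟨Q, hQ⟩ := eq_normalizer_of_card_twentyone h M hc
  obtain ⟨Q', hQ'⟩ := eq_normalizer_of_card_twentyone h M' hc'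
  obtain ⟨g, hg⟩ := MulAction.exists_smul_eq G Q Q'
  refine ⟨g, ?_⟩
  rw [hQ', hQ, ← normalizer_map_conj, ← smul_sylow_eq_map, hg]

/-- Subgroups of order 24 are maximal. -/
theorem isCoatom_of_card24 (h : Nat.card G = 168) (M : Subgroup G) (hc : Nat.card M = 24) :
    IsCoatom M := by
  refine ⟨ne_top_of_card_lt h (by rw [hc]; norm_num), ?_⟩
  intro K hK
  have h1 : Nat.card M ∣ Nat.card K := Subgroup.card_dvd_of_le hK.le
  have h2 : Nat.card K ∣ 168 := h ▸ Subgroup.card_subgroup_dvd_card K
  have h3 : Nat.card M < Nat.card K := card_lt_of_lt' hK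
  rw [hc] at h1 h3
  have hmem : Nat.card K ∈ Nat.divisors 168 := Nat.mem_divisors.mpr ⟨h2, by norm_num⟩
  have key : ∀ n ∈ Nat.divisors 168, 24 ∣ n → 24 < n → n = 168 := by decide
  have := key _ hmem h1 h3
  exact Subgroup.eq_top_of_card_eq K (by rw [this, h])

/-- Two Klein four-subgroups with the same normalizer are equal. -/
theorem klein_eq_of_normalizer_eq (h : Nat.card G = 168) (U W : Subgroup G) [IsKleinFour ↥U]
    [IsKleinFour ↥W] (hN : normalizer (U : Set G) = normalizer (W : Set G)) : U = W := by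
  have hUcard : Nat.card U = 4 := IsKleinFour.card_four
  have hWcard : Nat.card W = 4 := IsKleinFour.card_four
  have hUN : U ≤ normalizer (W : Set G) := hN ▸ Subgroup.le_normalizer
  have hWN : W ≤ normalizer (U : Set G) := hN ▸ Subgroup.le_normalizer
  have hdvd : Nat.card (U ⊓ W : Subgroup G) ∣ 4 := hUcard ▸ Subgroup.card_dvd_of_le inf_le_left
  have hmem : Nat.card (U ⊓ W : Subgroup G) ∈ Nat.divisors 4 := Nat.mem_divisors.mpr ⟨hdvd, by norm_num⟩
  have key : ∀ n ∈ Nat.divisors 4, n = 1 ∨ n = 2 ∨ n = 4 := by decide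
  rcases key _ hmem with h1 | h2 | h4
  · -- trivial intersection: U and W commute, so W ≤ C(U) = U
    exfalso
    have hbot : U ⊓ W = ⊥ := Subgroup.card_eq_one.mp h1
    have hWU : W ≤ U := by
      rw [← centralizer_klein h U]
      intro w hw
      rw [Subgroup.mem_centralizer_iff]
      intro u hu
      have hc1 : u * w * u⁻¹ * w⁻¹ ∈ U ⊓ W := by
        constructor
        · have := (Subgroup.mem_normalizer_iff.mp (hWN hw) u⁻¹).mp (U.inv_mem hu)
          have e : u * w * u⁻¹ * w⁻¹ = u * (w * u⁻¹ * w⁻¹) := by group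
          rw [e]; exact mul_mem hu this
        · have := (Subgroup.mem_normalizer_iff.mp (hUN hu) w).mp hw
          exact mul_mem this (W.inv_mem hw)
      rw [hbot, Subgroup.mem_bot] at hc1
      calc u * w = u * w * u⁻¹ * w⁻¹ * w * u := by group
        _ = w * u := by rw [hc1]; group
    have : W ≤ U ⊓ W := le_inf hWU le_rfl
    rw [hbot] at this
    have := Subgroup.card_le_of_le this
    rw [hWcard, Subgroup.card_bot] at this
    omega
  · -- intersection of order 2: its involution is centralized by N(U), too big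
    exfalso
    obtain ⟨z, hz⟩ := exists_prime_orderOf_dvd_card' (G := ↥(U ⊓ W : Subgroup G)) 2 (by rw [h2])
    have hzG : orderOf (z : G) = 2 := by rw [Subgroup.orderOf_coe]; exact hz
    have hz1 : (z : G) ≠ 1 := by intro h1; rw [h1, orderOf_one] at hzG; norm_num at hzG
    have hzp : (U ⊓ W : Subgroup G) = zpowers (z : G) := by
      symm
      apply Subgroup.eq_of_le_of_card_ge (Subgroup.zpowers_le.mpr z.2)
      rw [Nat.card_zpowers, hzG, h2]
    have hNC : normalizer (U : Set G) ≤ centralizer ({(z : G)} : Set G) := by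
      intro k hk
      rw [Subgroup.mem_centralizer_iff]
      intro w hw
      rw [Set.mem_singleton_iff] at hw
      rw [hw]
      have hkW : k ∈ normalizer (W : Set G) := hN ▸ hk
      have hconj0 : k * z * k⁻¹ ∈ (U ⊓ W : Subgroup G) :=
        ⟨(Subgroup.mem_normalizer_iff.mp hk z).mp z.2.1,
         (Subgroup.mem_normalizer_iff.mp hkW z).mp z.2.2⟩
      have hconj : k * (z : G) * k⁻¹ ∈ zpowers (z : G) := by
        rw [← hzp]; exact hconj0
      have hord : orderOf (k * (z : G) * k⁻¹) = 2 := by rw [orderOf_conj_mul, hzG]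
      -- elements of zpowers z: 1 and z
      have : k * (z : G) * k⁻¹ = z := by
        classical
        rw [mem_zpowers_iff_mem_range_orderOf, hzG] at hconj
        simp only [Finset.mem_image, Finset.mem_range] at hconj
        obtain ⟨i, hi, hi'⟩ := hconj
        interval_cases i
        · rw [pow_zero] at hi'
          rw [← hi', orderOf_one] at hord; norm_num at hord
        · rw [pow_one] at hi'; exact hi'.symm
      calc (z : G) * k = k * z * k⁻¹ * k := by rw [this]
        _ = k * z := by group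
    have h1 := Subgroup.card_le_of_le hNC
    have h3 := card_centralizer_dvd_eight h hz1 (by rw [hzG]; norm_num)
    have h4 := Nat.le_of_dvd (by norm_num) h3
    rw [card_normalizer_klein h U] at h1
    omega
  · have : U ⊓ W = U := Subgroup.eq_of_le_of_card_ge inf_le_left (by rw [h4, hUcard])
    have hUW : U ≤ W := this ▸ inf_le_right
    exact Subgroup.eq_of_le_of_card_ge hUW (by rw [hUcard, hWcard])

omit [Finite G] [IsSimpleGroup G] in
theorem isKleinFour_map_conj (U : Subgroup G) [IsKleinFour ↥U] (g : G) :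
    IsKleinFour ↥(U.map (MulAut.conj g).toMonoidHom) :=
  isKleinFour_of_mulEquiv (U.equivMapOfInjective _ (MulAut.conj g).injective)

omit [Finite G] [IsSimpleGroup G] in
theorem map_conj_map_conj_inv (S : Subgroup G) (g : G) :
    (S.map (MulAut.conj g⁻¹).toMonoidHom).map (MulAut.conj g).toMonoidHom = S := by
  ext x
  rw [mem_map_conj_iff, mem_map_conj_iff]
  have : g⁻¹⁻¹ * (g⁻¹ * x * g) * g⁻¹ = x := by group
  rw [this]

/-- Part (C). -/
theorem two_classes_s4 (h : Nat.card G = 168) :
    ∃ M₁ M₂ : Subgroup G, IsCoatom M₁ ∧ IsCoatom M₂ ∧ Nonempty (↥M₁ ≃* Equiv.Perm (Fin 4)) ∧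
      Nonempty (↥M₂ ≃* Equiv.Perm (Fin 4)) ∧
      (∀ g : G, M₂ ≠ M₁.map (MulAut.conj g).toMonoidHom) ∧
      ∀ M : Subgroup G, IsCoatom M → Nonempty (↥M ≃* Equiv.Perm (Fin 4)) →
        ∃ g : G, M = M₁.map (MulAut.conj g).toMonoidHom ∨
          M = M₂.map (MulAut.conj g).toMonoidHom := by
  obtain ⟨T⟩ : Nonempty (Sylow 2 G) := inferInstance
  obtain ⟨⟨U₁, hU₁T, hU₁K⟩, ⟨U₂, hU₂T, hU₂K⟩, hne, hall⟩ :=
    Nat.card_eq_two_iff.mp (card_kleinFour_le_sylow h T)
  have hne' : U₁ ≠ U₂ := fun hc => hne (Subtype.ext hc)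
  refine ⟨normalizer (U₁ : Set G), normalizer (U₂ : Set G),
    isCoatom_of_card24 h _ (card_normalizer_klein h U₁),
    isCoatom_of_card24 h _ (card_normalizer_klein h U₂),
    normalizer_klein_equiv h U₁, normalizer_klein_equiv h U₂, ?_, ?_⟩
  · intro g hg
    rw [← normalizer_map_conj] at hg
    haveI := isKleinFour_map_conj U₁ g
    have := klein_eq_of_normalizer_eq h _ _ hg
    exact klein_not_conj h T U₁ U₂ hU₁T hU₂T hne' g this.symm
  · rintro M - ⟨φ⟩
    obtain ⟨U, hUK, hMU⟩ := exists_klein_of_card24 h M φ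
    have hUp : IsPGroup 2 U := IsPGroup.of_card (n := 2) (by rw [IsKleinFour.card_four]; norm_num)
    obtain ⟨T', hT'⟩ := hUp.exists_le_sylow
    obtain ⟨c, hc⟩ := MulAction.exists_smul_eq G T T'
    -- W := c⁻¹ U c ≤ T
    set W : Subgroup G := U.map (MulAut.conj c⁻¹).toMonoidHom with hW
    haveI hWK : IsKleinFour W := isKleinFour_map_conj U c⁻¹
    have hWT : W ≤ (T : Subgroup G) := by
      intro w hw
      rw [hW, mem_map_conj_iff] at hw
      have h1 := hT' hw
      rw [← hc, mem_smul_sylow_iff] at h1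
      have : c⁻¹ * (c⁻¹⁻¹ * w * c⁻¹) * c = w := by group
      rw [this] at h1
      exact h1
    have hUW : U = W.map (MulAut.conj c).toMonoidHom := (map_conj_map_conj_inv U c).symm
    have hmem : (⟨W, hWT, hWK⟩ : {U : Subgroup G // U ≤ (T : Subgroup G) ∧ IsKleinFour ↥U}) ∈
        (Set.univ : Set _) := Set.mem_univ _
    rw [← hall] at hmem
    refine ⟨c, ?_⟩
    rcases hmem with h1 | h2
    · left
      have : W = U₁ := congrArg Subtype.val h1
      rw [hMU, hUW, this, normalizer_map_conj]
    · right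
      have : W = U₂ := congrArg Subtype.val h2
      rw [hMU, hUW, this, normalizer_map_conj]

end Cfsg.Agent.Helper17.G168
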