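import Mathlib

set_option autoImplicit false
set_option linter.style.haveILetI false

namespace Cfsg.Agent.Helper17

open Subgroup MulAction

/-- If `n_p(L) = p + 1`, `|P| = p`, and `v` is a `p'`-element centralizing `P`, then `v` normalizes
every Sylow `p`-subgroup of `L`. -/
theorem mem_normalizer_sylow_of_commute {L : Type*} [Group L] [Finite L] {p : ℕ} [hp : Fact p.Prime]
    (P : Sylow p L) (hP : Nat.card (P : Subgroup L) = p) (hn : Nat.card (Sylow p L) = p + 1)
    (v : L) (hv : ∀ x ∈ (P : Subgroup L), v * x = x * v) (hcop : (orderOf v).Coprime p)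
    (P' : Sylow p L) : v ∈ normalizer ((P' : Subgroup L) : Set L) := by
  classical
  haveI : Fintype (Sylow p L) := Fintype.ofFinite _
  haveI : Fintype (P : Subgroup L) := Fintype.ofFinite _
  have hvP : v • P = P := by
    rw [Sylow.smul_eq_iff_mem_normalizer]
    apply Subgroup.centralizer_le_normalizer
    rw [Subgroup.mem_centralizer_iff]
    intro x hx
    exact (hv x hx).symm
  by_cases hPP : P' = P
  · subst hPP
    exact Sylow.smul_eq_iff_mem_normalizer.mp hvP
  -- the stabilizer of `P'` in `P` is trivial
  have hstab : ∀ y : (P : Subgroup L), y • P' = P' → y = 1 := by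
    intro y hy
    by_contra hy1
    apply hPP
    have hfix : P' ∈ fixedPoints (P : Subgroup L) (Sylow p L) := by
      intro z
      have hz : z ∈ zpowers y := mem_zpowers_of_prime_card hP hy1
      obtain ⟨k, rfl⟩ := Subgroup.mem_zpowers_iff.mp hz
      have hmem : y ∈ stabilizer (P : Subgroup L) P' := hy
      exact zpow_mem hmem k
    have hle : (P : Subgroup L) ≤ (P' : Subgroup L) := (P.2.sylow_mem_fixedPoints_iff).mp hfix
    exact (Sylow.ext (P.is_maximal' P'.2 hle)).symm ▸ rfl
  -- the orbit map is injective
  have hinj : Function.Injective (fun y : (P : Subgroup L) => y • P') := by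
    intro y₁ y₂ h
    have h' : y₁ • P' = y₂ • P' := h
    have : (y₂⁻¹ * y₁) • P' = P' := by
      rw [mul_smul, h', ← mul_smul, inv_mul_cancel, one_smul]
    have := hstab _ this
    calc y₁ = y₂ * (y₂⁻¹ * y₁) := by group
      _ = y₂ := by rw [this, mul_one]
  have hne : ∀ y : (P : Subgroup L), y • P' ≠ P := by
    intro y h
    apply hPP
    have hyP : y • P = P := by
      show (y : L) • P = P
      rw [Sylow.smul_eq_iff_mem_normalizer]
      exact Subgroup.le_normalizer y.2
    have h2 : (y : L) • P' = (y : L) • P := h.trans hyP.symm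
    exact MulAction.injective (y : L) h2
  have himage : Finset.univ.image (fun y : (P : Subgroup L) => y • P') = Finset.univ.erase P := by
    apply Finset.eq_of_subset_of_card_le
    · intro Q hQ
      obtain ⟨y, -, rfl⟩ := Finset.mem_image.mp hQ
      exact Finset.mem_erase.mpr ⟨hne y, Finset.mem_univ _⟩
    · rw [Finset.card_image_of_injective _ hinj, Finset.card_univ, Finset.card_erase_of_mem
        (Finset.mem_univ _), Finset.card_univ, ← Nat.card_eq_fintype_card, ← Nat.card_eq_fintype_card,
        hn, hP]
      omega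
  have hvP' : v • P' ≠ P := by
    intro h
    apply hPP
    have h2 : v • P' = v • P := h.trans hvP.symm
    exact MulAction.injective v h2
  have hmem : v • P' ∈ Finset.univ.image (fun y : (P : Subgroup L) => y • P') := by
    rw [himage]
    exact Finset.mem_erase.mpr ⟨hvP', Finset.mem_univ _⟩
  obtain ⟨y, -, hy⟩ := Finset.mem_image.mp hmem
  have hy' : (y : L) • P' = v • P' := hy
  -- `w = y⁻¹ v` normalizes `P'`
  have hw : ((y : L)⁻¹ * v) • P' = P' := by
    rw [mul_smul, ← hy', ← mul_smul, inv_mul_cancel, one_smul]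
  have hcomm : v * (y : L) = (y : L) * v := hv _ y.2
  have hyp : (y : L) ^ p = 1 := by
    have h1 : y ^ p = 1 := by
      have := pow_card_eq_one' (G := (P : Subgroup L)) (x := y)
      rwa [hP] at this
    have := congrArg Subtype.val h1
    simpa using this
  have hcomm' : Commute ((y : L)⁻¹) v := (Commute.inv_left (show Commute (y : L) v from hcomm.symm))
  have hwp : ((y : L)⁻¹ * v) ^ p = v ^ p := by
    rw [hcomm'.mul_pow, inv_pow, hyp, inv_one, one_mul]
  have hvp : v ^ p ∈ stabilizer L P' := by
    rw [← hwp]
    exact pow_mem (show (y : L)⁻¹ * v ∈ stabilizer L P' from hw) p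
  -- `v` is a power of `v ^ p`
  have hv_mem : v ∈ zpowers (v ^ p) := by
    obtain ⟨m, hm⟩ := exists_pow_eq_self_of_coprime (x := v) (n := p) hcop.symm
    rw [Subgroup.mem_zpowers_iff]
    exact ⟨(m : ℤ), by rw [zpow_natCast, hm]⟩
  have : v ∈ stabilizer L P' := by
    obtain ⟨k, hk⟩ := Subgroup.mem_zpowers_iff.mp hv_mem
    rw [← hk]
    exact zpow_mem hvp k
  exact Sylow.smul_eq_iff_mem_normalizer.mp this

end Cfsg.Agent.Helper17
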