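import Mathlib
import Cfsg.Agent.Helper17.VTrick
import Cfsg.Agent.Lib.Nilpotent

set_option autoImplicit false
set_option linter.style.haveILetI false

namespace Cfsg.Agent.Helper17

open Subgroup

variable {G : Type*} [Group G]

/-- `C(P)` is normalized by `N(P)`. -/
theorem conj_mem_centralizer_of_mem_normalizer {P : Subgroup G} {n t : G}
    (hn : n ∈ normalizer (P : Set G)) (ht : t ∈ centralizer (P : Set G)) :
    n * t * n⁻¹ ∈ centralizer (P : Set G) := by
  rw [Subgroup.mem_centralizer_iff]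
  intro x hx
  have hx' : n⁻¹ * x * n ∈ P := (Subgroup.mem_normalizer_iff''.mp hn x).mp hx
  have hc := (Subgroup.mem_centralizer_iff.mp ht) _ hx'
  calc x * (n * t * n⁻¹) = n * (n⁻¹ * x * n * t) * n⁻¹ := by group
    _ = n * (t * (n⁻¹ * x * n)) * n⁻¹ := by rw [hc]
    _ = n * t * n⁻¹ * x := by group

/-- If `R` contains two subgroups of `N` of coprime orders whose product is `|N|`, then `N ≤ R`. -/
theorem le_of_card_parts [Finite G] {N R A B : Subgroup G} (hAR : A ≤ R) (hAN : A ≤ N)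
    (hBR : B ≤ R) (hBN : B ≤ N) (hcop : (Nat.card A).Coprime (Nat.card B))
    (hN : Nat.card N = Nat.card A * Nat.card B) : N ≤ R := by
  have h1 : Nat.card A ∣ Nat.card (R ⊓ N : Subgroup G) := Subgroup.card_dvd_of_le (le_inf hAR hAN)
  have h2 : Nat.card B ∣ Nat.card (R ⊓ N : Subgroup G) := Subgroup.card_dvd_of_le (le_inf hBR hBN)
  have h3 : Nat.card A * Nat.card B ∣ Nat.card (R ⊓ N : Subgroup G) :=
    Nat.Coprime.mul_dvd_of_dvd_of_dvd hcop h1 h2
  have : R ⊓ N = N := by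
    apply Subgroup.eq_of_le_of_card_ge inf_le_right
    rw [hN]
    exact Nat.le_of_dvd Nat.card_pos h3
  exact inf_eq_right.mp this

/-- **The V-trick.**  Let `P` be a Sylow subgroup of prime order `p` in a non-abelian simple group,
with `N(P)` maximal, `|N(P)| = p q^a`, `|C(P)| = p q^b`, `a < 2 b`, and `q^(a+1)` dividing `|G|`.
This is impossible. -/
theorem vtrick [Finite G] [IsSimpleGroup G] (hG : ¬ IsMulCommutative G) {p q : ℕ}
    [hp : Fact p.Prime] [hq : Fact q.Prime] (hpq : p ≠ q)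
    (P : Sylow p G) (hP : Nat.card (P : Subgroup G) = p)
    (hmax : ∀ R : Subgroup G, normalizer ((P : Subgroup G) : Set G) ≤ R → R ≠ ⊤ →
      R = normalizer ((P : Subgroup G) : Set G))
    {a b : ℕ} (hN : Nat.card (normalizer ((P : Subgroup G) : Set G)) = p * q ^ a)
    (hC : Nat.card (centralizer ((P : Subgroup G) : Set G)) = p * q ^ b)
    (hab : a < 2 * b) (hS : q ^ (a + 1) ∣ Nat.card G) : False := by
  have hCN : centralizer ((P : Subgroup G) : Set G) ≤ normalizer ((P : Subgroup G) : Set G) :=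
    Subgroup.centralizer_le_normalizer _
  have hcop : Nat.Coprime p q := (Nat.coprime_primes hp.out hq.out).mpr hpq
  have hqp : ¬ q ∣ p := fun h => hpq ((Nat.prime_dvd_prime_iff_eq hq.out hp.out).mp h).symm
  have hqpos : 0 < q := hq.out.pos
  -- the Sylow q-subgroup of C(P)
  obtain ⟨V₁⟩ : Nonempty (Sylow q ↥(centralizer ((P : Subgroup G) : Set G))) := inferInstance
  have hV₁ : Nat.card (V₁ : Subgroup ↥(centralizer ((P : Subgroup G) : Set G))) = q ^ b :=
    card_sylow_subgroup_of_card_eq (G := ↥(centralizer ((P : Subgroup G) : Set G)))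
      (p := q) (k := b) (m := p) (by rw [hC, mul_comm]) hqp V₁
  obtain ⟨V₀, hV₀def⟩ : ∃ V₀ : Subgroup G, V₀ = (V₁ : Subgroup ↥(centralizer
    ((P : Subgroup G) : Set G))).map (centralizer ((P : Subgroup G) : Set G)).subtype := ⟨_, rfl⟩
  have hV₀card : Nat.card V₀ = q ^ b := by
    rw [hV₀def, Subgroup.card_map_of_injective (Subgroup.subtype_injective _), hV₁]
  have hV₀C : V₀ ≤ centralizer ((P : Subgroup G) : Set G) := by
    rw [hV₀def]
    rintro _ ⟨x, -, rfl⟩
    exact x.2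
  have hV₀N : V₀ ≤ normalizer ((P : Subgroup G) : Set G) := hV₀C.trans hCN
  have hV₀q : IsPGroup q V₀ := IsPGroup.of_card hV₀card
  -- a Sylow q-subgroup of N(P) containing V₀
  have hV₀q' : IsPGroup q (V₀.subgroupOf (normalizer ((P : Subgroup G) : Set G))) :=
    hV₀q.comap_subtype
  obtain ⟨T', hT'⟩ := hV₀q'.exists_le_sylow
  have hT'card : Nat.card (T' : Subgroup ↥(normalizer ((P : Subgroup G) : Set G))) = q ^ a :=
    card_sylow_subgroup_of_card_eq (G := ↥(normalizer ((P : Subgroup G) : Set G)))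
      (p := q) (k := a) (m := p) (by rw [hN, mul_comm]) hqp T'
  obtain ⟨T₀, hT₀def⟩ : ∃ T₀ : Subgroup G, T₀ = (T' : Subgroup ↥(normalizer
    ((P : Subgroup G) : Set G))).map (normalizer ((P : Subgroup G) : Set G)).subtype := ⟨_, rfl⟩
  have hT₀card : Nat.card T₀ = q ^ a := by
    rw [hT₀def, Subgroup.card_map_of_injective (Subgroup.subtype_injective _), hT'card]
  have hT₀N : T₀ ≤ normalizer ((P : Subgroup G) : Set G) := by
    rw [hT₀def]
    rintro _ ⟨x, -, rfl⟩
    exact x.2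
  have hV₀T₀ : V₀ ≤ T₀ := by
    intro x hx
    rw [hT₀def]
    exact ⟨⟨x, hV₀N hx⟩, hT' (Subgroup.mem_subgroupOf.mpr hx), rfl⟩
  have hT₀q : IsPGroup q T₀ := IsPGroup.of_card hT₀card
  obtain ⟨S, hTS⟩ := hT₀q.exists_le_sylow
  obtain ⟨T, hTdef⟩ : ∃ T : Subgroup G,
    T = (S : Subgroup G) ⊓ normalizer ((P : Subgroup G) : Set G) := ⟨_, rfl⟩
  have hTS0 : T ≤ (S : Subgroup G) := by rw [hTdef]; exact inf_le_left
  have hTN : T ≤ normalizer ((P : Subgroup G) : Set G) := by rw [hTdef]; exact inf_le_right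
  have hT₀T : T₀ ≤ T := by rw [hTdef]; exact le_inf hTS hT₀N
  have hTq : IsPGroup q T := S.2.to_le hTS0
  have hTcard : Nat.card T = q ^ a := by
    obtain ⟨j, hj⟩ := IsPGroup.iff_card.mp hTq
    have h1 : q ^ j ∣ p * q ^ a := by
      have := Subgroup.card_dvd_of_le hTN
      rwa [hj, hN] at this
    have h2 : q ^ j ∣ q ^ a :=
      (Nat.Coprime.pow_left j hcop.symm).dvd_of_dvd_mul_left h1
    have h3 : q ^ a ∣ q ^ j := by
      have := Subgroup.card_dvd_of_le hT₀T
      rwa [hj, hT₀card] at this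
    rw [hj]
    exact Nat.dvd_antisymm h2 h3
  have hScard : q ^ (a + 1) ∣ Nat.card (S : Subgroup G) := by
    rw [S.card_eq_multiplicity]
    exact pow_dvd_pow q
      ((Nat.Prime.pow_dvd_iff_le_factorization hq.out Nat.card_pos.ne').mp hS)
  have hTS' : T < (S : Subgroup G) := by
    refine lt_of_le_of_ne hTS0 (fun heq => ?_)
    rw [← heq, hTcard] at hScard
    have := Nat.le_of_dvd (pow_pos hqpos a) hScard
    have : q ^ a < q ^ (a + 1) := Nat.pow_lt_pow_right hq.out.one_lt (Nat.lt_succ_self a)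
    omega
  obtain ⟨g, hgS, hgN, hgT⟩ := exists_mem_normalizer_not_mem S.2 hTS'
  have hgnotN : g ∉ normalizer ((P : Subgroup G) : Set G) := by
    intro hg
    apply hgT
    rw [hTdef]
    exact ⟨hgS, hg⟩
  -- V = T ∩ C(P), normal in T
  obtain ⟨V, hVdef⟩ : ∃ V : Subgroup G, V = T ⊓ centralizer ((P : Subgroup G) : Set G) := ⟨_, rfl⟩
  have hVT : V ≤ T := by rw [hVdef]; exact inf_le_left
  have hVC : V ≤ centralizer ((P : Subgroup G) : Set G) := by rw [hVdef]; exact inf_le_right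
  have hV₀V : V₀ ≤ V := by rw [hVdef]; exact le_inf (hV₀T₀.trans hT₀T) hV₀C
  have hVcard : q ^ b ≤ Nat.card V := by
    have := Subgroup.card_dvd_of_le hV₀V
    rw [hV₀card] at this
    exact Nat.le_of_dvd Nat.card_pos this
  have hVnorm : ∀ x ∈ T, ∀ v ∈ V, x * v * x⁻¹ ∈ V := by
    intro x hx v hv
    rw [hVdef] at hv ⊢
    exact ⟨T.mul_mem (T.mul_mem hx hv.1) (T.inv_mem hx),
      conj_mem_centralizer_of_mem_normalizer (hTN hx) hv.2⟩
  -- the conjugate V' = V^g
  obtain ⟨V', hV'def⟩ : ∃ V' : Subgroup G, V' = V.map (MulAut.conj g).toMonoidHom := ⟨_, rfl⟩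
  have hV'mem : ∀ y, y ∈ V' ↔ ∃ x ∈ V, g * x * g⁻¹ = y := by
    intro y
    rw [hV'def]
    constructor
    · rintro ⟨x, hx, rfl⟩
      exact ⟨x, hx, by simp [MulAut.conj_apply]⟩
    · rintro ⟨x, hx, rfl⟩
      exact ⟨x, hx, by simp [MulAut.conj_apply]⟩
  have hV'T : V' ≤ T := by
    intro y hy
    obtain ⟨x, hx, rfl⟩ := (hV'mem y).mp hy
    exact (Subgroup.mem_normalizer_iff.mp hgN x).mp (hVT hx)
  have hV'card : Nat.card V' = Nat.card V := by
    rw [hV'def, Subgroup.card_map_of_injective (MulAut.conj g).injective]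
  have hV'norm : ∀ x ∈ T, ∀ v ∈ V', x * v * x⁻¹ ∈ V' := by
    intro x hx v hv
    obtain ⟨v₀, hv₀, rfl⟩ := (hV'mem v).mp hv
    have hx' : g⁻¹ * x * g ∈ T := (Subgroup.mem_normalizer_iff''.mp hgN x).mp hx
    refine (hV'mem _).mpr ⟨(g⁻¹ * x * g) * v₀ * (g⁻¹ * x * g)⁻¹, hVnorm _ hx' v₀ hv₀, ?_⟩
    group
  have hne : V ⊓ V' ≠ ⊥ := by
    apply inf_ne_bot_of_card_lt hVT hV'T
    rw [hTcard, hV'card]
    calc q ^ a < q ^ (2 * b) := Nat.pow_lt_pow_right hq.out.one_lt hab
      _ = q ^ b * q ^ b := by rw [two_mul, pow_add]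
      _ ≤ Nat.card V * Nat.card V := Nat.mul_le_mul hVcard hVcard
  -- a central element of T inside V ⊓ V'
  haveI : Group.IsNilpotent ↥T := hTq.isNilpotent
  haveI hHn : ((V ⊓ V').subgroupOf T).Normal := by
    constructor
    intro h hh x
    rw [Subgroup.mem_subgroupOf] at hh ⊢
    simp only [Subgroup.coe_mul, InvMemClass.coe_inv]
    exact ⟨hVnorm x x.2 h hh.1, hV'norm x x.2 h hh.2⟩
  have hHne : (V ⊓ V').subgroupOf T ≠ ⊥ := by
    intro hbot
    apply hne
    rw [Subgroup.subgroupOf_eq_bot] at hbot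
    have : V ⊓ V' ≤ T := inf_le_left.trans hVT
    exact disjoint_self.mp (hbot.mono_right this |>.mono_right le_rfl |> fun h => by
      simpa [disjoint_iff, inf_eq_left.mpr this] using h)
  have hcen := Cfsg.Agent.Lib.normal_inf_center_ne_bot ((V ⊓ V').subgroupOf T) hHne
  obtain ⟨⟨w', hw'⟩, hw'1⟩ := Subgroup.ne_bot_iff_exists_ne_one.mp hcen
  obtain ⟨hw'H, hw'Z⟩ := hw'
  obtain ⟨w, hwdef⟩ : ∃ w : G, w = (w' : G) := ⟨_, rfl⟩
  have hw1 : w ≠ 1 := by
    intro h
    apply hw'1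
    apply Subtype.ext
    apply Subtype.ext
    rw [← hwdef, h]; rfl
  have hwV : w ∈ V := by rw [hwdef]; exact (Subgroup.mem_subgroupOf.mp hw'H).1
  have hwV' : w ∈ V' := by rw [hwdef]; exact (Subgroup.mem_subgroupOf.mp hw'H).2
  have hTM : T ≤ centralizer ({w} : Set G) := by
    intro x hx
    rw [Subgroup.mem_centralizer_singleton_iff]
    have := (Subgroup.mem_center_iff.mp hw'Z) ⟨x, hx⟩
    have := congrArg Subtype.val this
    rw [hwdef]
    exact this
  have hPM : (P : Subgroup G) ≤ centralizer ({w} : Set G) := by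
    intro x hx
    rw [Subgroup.mem_centralizer_singleton_iff]
    have := hVC hwV
    rw [Subgroup.mem_centralizer_iff] at this
    exact (this x hx)
  have hNM : normalizer ((P : Subgroup G) : Set G) ≤ centralizer ({w} : Set G) :=
    le_of_card_parts (A := (P : Subgroup G)) (B := T) hPM Subgroup.le_normalizer hTM hTN
      (by rw [hP, hTcard]; exact Nat.Coprime.pow_right a hcop) (by rw [hN, hP, hTcard])
  have hMtop : centralizer ({w} : Set G) ≠ ⊤ := centralizer_ne_top_of_simple hG hw1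
  have hMN := hmax _ hNM hMtop
  obtain ⟨w₀, hw₀V, hw₀'⟩ := (hV'mem w).mp hwV'
  apply hgnotN
  apply mem_normalizer_of_conj_mem
  intro x hx
  have hxw₀ : x * w₀ = w₀ * x := by
    have := hVC hw₀V
    rw [Subgroup.mem_centralizer_iff] at this
    exact this x hx
  have hmem : g * x * g⁻¹ ∈ centralizer ({w} : Set G) := by
    rw [Subgroup.mem_centralizer_singleton_iff, ← hw₀']
    calc g * x * g⁻¹ * (g * w₀ * g⁻¹) = g * (x * w₀) * g⁻¹ := by group
      _ = g * (w₀ * x) * g⁻¹ := by rw [hxw₀]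
      _ = g * w₀ * g⁻¹ * (g * x * g⁻¹) := by group
  rw [hMN] at hmem
  refine mem_sylow_of_mem_normalizer_of_orderOf P hmem ?_
  have hord : orderOf (g * x * g⁻¹) = orderOf x := by
    have := (MulAut.conj g).orderOf_eq x
    simpa [MulAut.conj_apply] using this
  rw [hord]
  have h1 : orderOf x ∣ p := by
    have := orderOf_dvd_natCard (⟨x, hx⟩ : (P : Subgroup G))
    rwa [hP, Subgroup.orderOf_mk] at this
  rcases (Nat.dvd_prime hp.out).mp h1 with h2 | h2
  · exact ⟨0, by rw [h2]; norm_num⟩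
  · exact ⟨1, by rw [h2]; norm_num⟩

end Cfsg.Agent.Helper17
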