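import Mathlib
import Cfsg.Agent.Helper17.VTrick2
import Cfsg.Agent.Helper17.LemmaR
import Cfsg.Agent.Helper17.SylKer

set_option autoImplicit false
set_option linter.style.haveILetI false

namespace Cfsg.Agent.Helper17.G4320

open Cfsg.Agent.Helper17 Subgroup

set_option maxRecDepth 100000 in
theorem key_n5 : ∀ n ∈ Nat.divisors 864, n % 5 = 1 → n ≠ 1 →
    n = 6 ∨ n = 16 ∨ n = 36 ∨ n = 96 ∨ n = 216 := by
  decide

variable {G : Type*} [Group G] [Finite G] [IsSimpleGroup G]

/-- The 5-local structure of a simple group of order 4320. -/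
theorem local5 (h : Nat.card G = 4320) [Fact (Nat.Prime 5)] (P : Sylow 5 G) :
    Nat.card (P : Subgroup G) = 5 ∧
    ((Nat.card (normalizer ((P : Subgroup G) : Set G)) = 120 ∧
        (Nat.card (centralizer ((P : Subgroup G) : Set G)) = 60 ∨
          Nat.card (centralizer ((P : Subgroup G) : Set G)) = 30)) ∨
      (Nat.card (normalizer ((P : Subgroup G) : Set G)) = 20 ∧
        (Nat.card (centralizer ((P : Subgroup G) : Set G)) = 10 ∨
          Nat.card (centralizer ((P : Subgroup G) : Set G)) = 5))) := by
  have hG : ¬ IsMulCommutative G := not_comm_of_simple_of_not_prime (by rw [h]; norm_num)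
  have hG5 : Nat.card G = 5 ^ 1 * 864 := by rw [h]; norm_num
  have h5 : ¬ 5 ∣ 864 := by norm_num
  have hP : Nat.card (P : Subgroup G) = 5 := by
    have := card_sylow_subgroup_of_card_eq hG5 h5 P
    simpa using this
  have hn1 : Nat.card (Sylow 5 G) ∣ 864 := card_sylow_dvd_of_card_eq hG5 h5
  have hn2 : Nat.card (Sylow 5 G) ≡ 1 [MOD 5] := card_sylow_modEq_one 5 G
  have hn3 : Nat.card (Sylow 5 G) ≠ 1 :=
    card_sylow_ne_one_of_simple hG5 h5 (by norm_num) (by norm_num)
  have hNn := card_normalizer_mul_card_sylow P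
  rw [h] at hNn
  obtain ⟨hd1, hd2⟩ := relIndex_dvd_of_card_sylow_prime P hP
  have hcm := card_centralizer_mul_relIndex (P : Subgroup G)
  have h0 : (centralizer ((P : Subgroup G) : Set G)).relIndex
    (normalizer ((P : Subgroup G) : Set G)) ≠ 0 := Subgroup.index_ne_zero_of_finite
  have hne : ¬ (normalizer ((P : Subgroup G) : Set G) ≤ centralizer ((P : Subgroup G) : Set G)) :=
    not_normalizer_le_centralizer_of_simple P (by rw [hP]; norm_num) (by rw [hP, h]; norm_num)
  have h1' : (centralizer ((P : Subgroup G) : Set G)).relIndex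
    (normalizer ((P : Subgroup G) : Set G)) ≠ 1 := fun h => hne (Subgroup.relIndex_eq_one.mp h)
  generalize hdd : (centralizer ((P : Subgroup G) : Set G)).relIndex
    (normalizer ((P : Subgroup G) : Set G)) = d at hd1 hd2 hcm h0 h1'
  have hd4 : d ≤ 4 := Nat.le_of_dvd (by norm_num) hd1
  have hd24 : d = 2 ∨ d = 4 := by
    interval_cases d
    · exact absurd rfl h0
    · exact absurd rfl h1'
    · left; rfl
    · norm_num at hd1
    · right; rfl
  refine ⟨hP, ?_⟩
  rcases key_n5 _ (Nat.mem_divisors.mpr ⟨hn1, by norm_num⟩) hn2 hn3 with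
    h6 | h16 | h36 | h96 | h216
  · -- n_5 = 6: index 6
    exfalso
    have hidx : (normalizer ((P : Subgroup G) : Set G)).index = 6 := by
      have := Sylow.card_eq_index_normalizer P
      rw [h6] at this
      exact this.symm
    have hne_top : normalizer ((P : Subgroup G) : Set G) ≠ ⊤ := by
      intro ht
      rw [ht, Subgroup.index_top] at hidx
      omega
    have := two_mul_card_dvd_factorial_of_index_le hG _ hne_top (le_of_eq hidx)
    rw [h] at this
    norm_num [Nat.factorial] at this
  · -- n_5 = 16: Lemma R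
    exfalso
    rw [h16] at hNn
    have hN : Nat.card (normalizer ((P : Subgroup G) : Set G)) = 270 := by omega
    rw [hN] at hd2 hcm
    have hd54 : d ∣ 54 := by
      have : 5 * d ∣ 5 * 54 := hd2
      exact (Nat.mul_dvd_mul_iff_left (by norm_num)).mp this
    have hd2' : d = 2 := by
      rcases hd24 with h2 | h4
      · exact h2
      · rw [h4] at hd54; norm_num at hd54
    rw [hd2'] at hcm
    have hC : Nat.card (centralizer ((P : Subgroup G) : Set G)) = 135 := by omega
    haveI : Fact (Nat.Prime 3) := ⟨by norm_num⟩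
    obtain ⟨W₁⟩ : Nonempty (Sylow 3 ↥(centralizer ((P : Subgroup G) : Set G))) := inferInstance
    have hW₁ : Nat.card (W₁ : Subgroup ↥(centralizer ((P : Subgroup G) : Set G))) = 27 := by
      have := card_sylow_subgroup_of_card_eq (G := ↥(centralizer ((P : Subgroup G) : Set G)))
        (p := 3) (k := 3) (m := 5) (by rw [hC]; norm_num) (by norm_num) W₁
      simpa using this
    set W : Subgroup G := (W₁ : Subgroup ↥(centralizer ((P : Subgroup G) : Set G))).map
      (centralizer ((P : Subgroup G) : Set G)).subtype with hWdef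
    have hW27 : Nat.card W = 27 := by
      rw [hWdef, Subgroup.card_map_of_injective (Subgroup.subtype_injective _), hW₁]
    have hWC : W ≤ centralizer ((P : Subgroup G) : Set G) := by
      rw [hWdef]
      rintro _ ⟨x, -, rfl⟩
      exact x.2
    have hWp : IsPGroup 3 W := IsPGroup.of_card (n := 3) (by rw [hW27]; norm_num)
    have := card_dvd_of_le_centralizer_sylow P (q := 3) (by norm_num) (by rw [h16]) W hWp hWC
    rw [hW27] at this
    norm_num at this
  · left
    rw [h36] at hNn
    have hN : Nat.card (normalizer ((P : Subgroup G) : Set G)) = 120 := by omega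
    refine ⟨hN, ?_⟩
    rw [hN] at hcm
    rcases hd24 with h2 | h4
    · left; rw [h2] at hcm; omega
    · right; rw [h4] at hcm; omega
  · -- n_5 = 96: |N| = 45
    exfalso
    rw [h96] at hNn
    have hN : Nat.card (normalizer ((P : Subgroup G) : Set G)) = 45 := by omega
    rw [hN] at hd2
    have hd9 : d ∣ 9 := by
      have : 5 * d ∣ 5 * 9 := hd2
      exact (Nat.mul_dvd_mul_iff_left (by norm_num)).mp this
    rcases hd24 with h2 | h4
    · rw [h2] at hd9; norm_num at hd9
    · rw [h4] at hd9; norm_num at hd9
  · right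
    rw [h216] at hNn
    have hN : Nat.card (normalizer ((P : Subgroup G) : Set G)) = 20 := by omega
    refine ⟨hN, ?_⟩
    rw [hN] at hcm
    rcases hd24 with h2 | h4
    · left; rw [h2] at hcm; omega
    · right; rw [h4] at hcm; omega

end Cfsg.Agent.Helper17.G4320
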