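import Mathlib
import Cfsg.Agent.Helper17.G4320a
import Cfsg.Agent.Helper17.CountOrder

set_option autoImplicit false
set_option linter.style.haveILetI false

namespace Cfsg.Agent.Helper17.G4320

open Cfsg.Agent.Helper17 Subgroup

section General

variable {G : Type*} [Group G]

/-- If `X` is normalized by `H ≥ X`, `|H| = |X| m`, and `y ∈ H` has order prime to `m`,
then `y ∈ X`. -/
theorem mem_of_normal_of_coprime_index [Finite G] {H X : Subgroup G} (hXH : X ≤ H)
    (hnorm : H ≤ normalizer (X : Set G)) {m : ℕ} (hm : Nat.card H = Nat.card X * m)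
    {y : G} (hy : y ∈ H) (hcop : (orderOf y).Coprime m) : y ∈ X := by
  haveI hN : (X.subgroupOf H).Normal := (Subgroup.normal_subgroupOf_iff_le_normalizer hXH).mpr hnorm
  have hcard : Nat.card (X.subgroupOf H) = Nat.card X :=
    Nat.card_congr (subgroupOfEquivOfLe hXH).toEquiv
  have hidx : (X.subgroupOf H).index = m := by
    have h1 := (X.subgroupOf H).card_mul_index
    rw [hcard, hm] at h1
    exact Nat.eq_of_mul_eq_mul_left Nat.card_pos h1
  have h2 : (⟨y, hy⟩ : ↥H) ^ (X.subgroupOf H).index ∈ X.subgroupOf H :=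
    Subgroup.pow_index_mem _ _
  rw [hidx, Subgroup.mem_subgroupOf] at h2
  have h3 : y ^ m ∈ X := by simpa using h2
  obtain ⟨k, hk⟩ := exists_pow_eq_self_of_coprime hcop.symm
  rw [← hk]
  exact X.pow_mem h3 k

/-- A group of order 12 whose Sylow 3-subgroup is not normal has a normal Sylow 2-subgroup. -/
theorem sylow_two_normal_of_card_twelve {W : Type*} [Group W] [Finite W] (h : Nat.card W = 12)
    [Fact (Nat.Prime 2)] [Fact (Nat.Prime 3)] (hn3 : Nat.card (Sylow 3 W) ≠ 1) (T : Sylow 2 W) :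
    (T : Subgroup W).Normal := by
  classical
  have hW3 : Nat.card W = 3 ^ 1 * 4 := by rw [h]; norm_num
  have hW2 : Nat.card W = 2 ^ 2 * 3 := by rw [h]; norm_num
  have h3card : ∀ K : Sylow 3 W, Nat.card (K : Subgroup W) = 3 := fun K => by
    have := card_sylow_subgroup_of_card_eq hW3 (by norm_num) K
    simpa using this
  have h2card : ∀ K : Sylow 2 W, Nat.card (K : Subgroup W) = 4 := fun K => by
    have := card_sylow_subgroup_of_card_eq hW2 (by norm_num) K
    simpa using this
  have hn1 : Nat.card (Sylow 3 W) ∣ 4 := card_sylow_dvd_of_card_eq hW3 (by norm_num)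
  have hn2 : Nat.card (Sylow 3 W) ≡ 1 [MOD 3] := card_sylow_modEq_one 3 W
  have hn4 : Nat.card (Sylow 3 W) = 4 := by
    have hle : Nat.card (Sylow 3 W) ≤ 4 := Nat.le_of_dvd (by norm_num) hn1
    have hmod : Nat.card (Sylow 3 W) % 3 = 1 := hn2
    interval_cases (Nat.card (Sylow 3 W)) <;> simp_all
  have hcount := card_orderOf_eq_prime (G := W) (p := 3) h3card
  rw [hn4] at hcount
  -- the set of elements of order ≠ 3 has 4 elements
  haveI : Fintype W := Fintype.ofFinite W
  have hcompl : Nat.card {g : W // ¬ orderOf g = 3} = 4 := by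
    have h1 : Fintype.card {g : W // ¬ orderOf g = 3}
        = Fintype.card W - Fintype.card {g : W // orderOf g = 3} := Fintype.card_subtype_compl _
    rw [Nat.card_eq_fintype_card, h1, ← Nat.card_eq_fintype_card, ← Nat.card_eq_fintype_card,
      h, hcount]
  -- every Sylow 2-subgroup is that set
  have hsub : ∀ K : Sylow 2 W, ((K : Subgroup W) : Set W) = {g : W | ¬ orderOf g = 3} := by
    intro K
    have hKsub : ((K : Subgroup W) : Set W) ⊆ {g : W | ¬ orderOf g = 3} := by
      intro g hg ho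
      have h1 : orderOf g ∣ 4 := by
        have := orderOf_dvd_natCard (⟨g, hg⟩ : (K : Subgroup W))
        rwa [h2card K, Subgroup.orderOf_mk] at this
      rw [ho] at h1
      norm_num at h1
    apply Set.eq_of_subset_of_ncard_le hKsub
    · have e1 : ({g : W | ¬ orderOf g = 3} : Set W).ncard = 4 := by
        rw [← hcompl]; rfl
      have e2 : ((K : Subgroup W) : Set W).ncard = 4 := by
        rw [← h2card K]; rfl
      rw [e1, e2]
  haveI : Subsingleton (Sylow 2 W) := by
    constructor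
    intro K K'
    apply Sylow.ext
    apply SetLike.coe_injective
    rw [hsub K, hsub K']
  exact Sylow.normal_of_subsingleton T

/-- A central Sylow subgroup has a normal complement. -/
theorem exists_normal_complement_of_central_sylow {H : Type*} [Group H] [Finite H] {p : ℕ}
    [Fact p.Prime] (P : Sylow p H) (hcen : ∀ c : H, ∀ x ∈ (P : Subgroup H), x * c = c * x) :
    ∃ W : Subgroup H, W.Normal ∧ Nat.card W * Nat.card (P : Subgroup H) = Nat.card H := by
  have hP : normalizer ((P : Subgroup H) : Set H) ≤ centralizer ((P : Subgroup H) : Set H) := by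
    intro c _
    rw [Subgroup.mem_centralizer_iff]
    intro x hx
    exact hcen c x hx
  have hc := MonoidHom.ker_transferSylow_isComplement' P hP
  exact ⟨_, (MonoidHom.transferSylow P hP).normal_ker, hc.card_mul_card⟩

/-- Transport a normal subgroup of a subgroup `H` to a subgroup of `G` normalized by `H`. -/
theorem exists_map_of_normal [Finite G] (H : Subgroup G) (W₁ : Subgroup ↥H) (hW₁ : W₁.Normal) :
    ∃ W : Subgroup G, W ≤ H ∧ H ≤ normalizer (W : Set G) ∧ Nat.card W = Nat.card W₁ ∧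
      W = W₁.map H.subtype := by
  refine ⟨W₁.map H.subtype, ?_, ?_, ?_, rfl⟩
  · rintro _ ⟨x, -, rfl⟩
    exact x.2
  · intro c hc
    apply mem_normalizer_of_conj_mem
    rintro _ ⟨x, hx, rfl⟩
    exact ⟨⟨c, hc⟩ * x * ⟨c, hc⟩⁻¹, hW₁.conj_mem x hx ⟨c, hc⟩, rfl⟩
  · rw [Subgroup.card_map_of_injective (Subgroup.subtype_injective _)]

end General

section CaseA

variable {G : Type*} [Group G] [Finite G] [IsSimpleGroup G]

theorem key_n36 : ∀ n ∈ Nat.divisors 36, n % 5 = 1 → n = 1 ∨ n = 6 ∨ n = 36 := by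
  decide

/-- In case A, `N(P)` is a maximal subgroup. -/
theorem maxA (h : Nat.card G = 4320) [Fact (Nat.Prime 5)] (P : Sylow 5 G)
    (hN : Nat.card (normalizer ((P : Subgroup G) : Set G)) = 120)
    (R : Subgroup G) (hNR : normalizer ((P : Subgroup G) : Set G) ≤ R) (hR : R ≠ ⊤) :
    R = normalizer ((P : Subgroup G) : Set G) := by
  have hG : ¬ IsMulCommutative G := not_comm_of_simple_of_not_prime (by rw [h]; norm_num)
  have hPR : (P : Subgroup G) ≤ R := le_normalizer.trans hNR
  have hcount := card_sylow_of_le P R hPR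
  rw [inf_eq_right.mpr hNR, hN] at hcount
  have hmod : Nat.card (Sylow 5 ↥R) ≡ 1 [MOD 5] := card_sylow_modEq_one 5 _
  have hRdvd : Nat.card R ∣ 4320 := by
    have := Subgroup.card_subgroup_dvd_card R
    rwa [h] at this
  have hidx := Subgroup.card_mul_index R
  rw [h] at hidx
  generalize hn : Nat.card (Sylow 5 ↥R) = n at hcount hmod
  have hn36 : n ∣ 36 := by
    have : n * 120 ∣ 36 * 120 := by rw [hcount]; exact hRdvd
    exact (Nat.mul_dvd_mul_iff_right (by norm_num)).mp this
  rcases key_n36 n (Nat.mem_divisors.mpr ⟨hn36, by norm_num⟩) hmod with rfl | rfl | rfl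
  · symm
    apply Subgroup.eq_of_le_of_card_ge hNR
    rw [hN, ← hcount]
  · exfalso
    have hidx6 : R.index = 6 := by
      rw [← hcount] at hidx
      omega
    have := two_mul_card_dvd_factorial_of_index_le hG R hR (le_of_eq hidx6)
    rw [h] at this
    norm_num [Nat.factorial] at this
  · exfalso
    apply hR
    apply Subgroup.eq_top_of_card_eq
    rw [← hcount, h]

/-- In case A, no subgroup of order 3 is normalized by `N(P)`. -/
theorem no_K3 (h : Nat.card G = 4320) [Fact (Nat.Prime 5)] [Fact (Nat.Prime 3)] (P : Sylow 5 G)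
    (hN : Nat.card (normalizer ((P : Subgroup G) : Set G)) = 120)
    (K : Subgroup G) (hK : Nat.card K = 3)
    (hNK : normalizer ((P : Subgroup G) : Set G) ≤ normalizer (K : Set G)) : False := by
  have htop : normalizer (K : Set G) ≠ ⊤ :=
    normalizer_ne_top_of_simple K (by rw [hK]; norm_num) (by rw [hK, h]; norm_num)
  have heq := maxA h P hN _ hNK htop
  have hK3 : IsPGroup 3 K := IsPGroup.of_card (n := 1) (by rw [hK]; norm_num)
  obtain ⟨Q, hKQ⟩ := hK3.exists_le_sylow
  have hQ : Nat.card (Q : Subgroup G) = 27 := by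
    have := card_sylow_subgroup_of_card_eq (p := 3) (k := 3) (m := 160)
      (by rw [h]; norm_num) (by norm_num) Q
    simpa using this
  have hlt : K < (Q : Subgroup G) := by
    refine lt_of_le_of_ne hKQ (fun he => ?_)
    rw [he, hQ] at hK
    norm_num at hK
  obtain ⟨x, hxQ, hxN, hxK⟩ := exists_mem_normalizer_not_mem Q.2 hlt
  -- the 3-subgroup Q ⊓ N(K)
  obtain ⟨R, hRdef⟩ : ∃ R : Subgroup G, R = (Q : Subgroup G) ⊓ normalizer (K : Set G) := ⟨_, rfl⟩
  have hRQ : R ≤ (Q : Subgroup G) := by rw [hRdef]; exact inf_le_left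
  have hRN : R ≤ normalizer (K : Set G) := by rw [hRdef]; exact inf_le_right
  have hKR : K < R := by
    refine lt_of_le_of_ne (by rw [hRdef]; exact le_inf hKQ le_normalizer) (fun he => ?_)
    apply hxK
    rw [he, hRdef]
    exact ⟨hxQ, hxN⟩
  have hR3 : IsPGroup 3 R := Q.2.to_le hRQ
  obtain ⟨j, hj⟩ := IsPGroup.iff_card.mp hR3
  have h1 : Nat.card K < Nat.card R := card_lt_of_lt' hKR
  rw [hK, hj] at h1
  have h2 : Nat.card R ∣ 120 := by
    have := Subgroup.card_dvd_of_le hRN
    rwa [heq, hN] at this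
  rw [hj] at h2
  have hj2 : 2 ≤ j := by
    by_contra hlt
    push Not at hlt
    interval_cases j <;> norm_num at h1
  have h9 : 3 ^ 2 ∣ 120 := (pow_dvd_pow 3 hj2).trans h2
  norm_num at h9

theorem orderOf_conj' {G : Type*} [Group G] (n w : G) : orderOf (n * w * n⁻¹) = orderOf w := by
  have := (MulAut.conj n).orderOf_eq w
  simpa [MulAut.conj_apply] using this

/-- In case A, `C(P)` has a normal Sylow 2-subgroup `V` of order 4, normal in `N(P)`, containing
every 2-element of `C(P)`. -/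
theorem exists_V (h : Nat.card G = 4320) [Fact (Nat.Prime 5)] [Fact (Nat.Prime 3)]
    [Fact (Nat.Prime 2)] (P : Sylow 5 G) (hP : Nat.card (P : Subgroup G) = 5)
    (hN : Nat.card (normalizer ((P : Subgroup G) : Set G)) = 120)
    (hC : Nat.card (centralizer ((P : Subgroup G) : Set G)) = 60 ∨
      Nat.card (centralizer ((P : Subgroup G) : Set G)) = 30) :
    ∃ V : Subgroup G, Nat.card V = 4 ∧ V ≤ centralizer ((P : Subgroup G) : Set G) ∧
      normalizer ((P : Subgroup G) : Set G) ≤ normalizer (V : Set G) ∧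
      ∀ c ∈ centralizer ((P : Subgroup G) : Set G), (orderOf c).Coprime 15 → c ∈ V := by
  have hno := no_K3 h P hN
  obtain ⟨N, hNdef⟩ : ∃ N : Subgroup G, N = normalizer ((P : Subgroup G) : Set G) := ⟨_, rfl⟩
  obtain ⟨C, hCdef⟩ : ∃ C : Subgroup G, C = centralizer ((P : Subgroup G) : Set G) := ⟨_, rfl⟩
  rw [← hNdef] at hN hno ⊢
  rw [← hCdef] at hC ⊢
  have hCN : C ≤ N := by rw [hCdef, hNdef]; exact centralizer_le_normalizer _
  have hNC : ∀ n ∈ N, ∀ c ∈ C, n * c * n⁻¹ ∈ C := by
    intro n hn c hc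
    rw [hCdef] at hc ⊢
    rw [hNdef] at hn
    exact conj_mem_centralizer_of_mem_normalizer hn hc
  have hPC : (P : Subgroup G) ≤ C := by
    intro a ha
    rw [hCdef, Subgroup.mem_centralizer_iff]
    intro b hb
    haveI hcyc : IsCyclic (P : Subgroup G) := isCyclic_of_prime_card hP
    let _ := hcyc.commGroup
    have := mul_comm (⟨b, hb⟩ : (P : Subgroup G)) ⟨a, ha⟩
    exact congrArg Subtype.val this
  have hcen : ∀ c : ↥C, ∀ x ∈ ((P.subtype hPC : Sylow 5 ↥C) : Subgroup ↥C), x * c = c * x := by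
    intro c x hx
    have hxP : (x : G) ∈ (P : Subgroup G) := by
      rw [Sylow.coe_subtype] at hx
      exact Subgroup.mem_subgroupOf.mp hx
    have hc : (c : G) ∈ centralizer ((P : Subgroup G) : Set G) := hCdef ▸ c.2
    apply Subtype.ext
    exact (Subgroup.mem_centralizer_iff.mp hc) x hxP
  obtain ⟨W₁, hW₁n, hW₁c⟩ := exists_normal_complement_of_central_sylow (P.subtype hPC) hcen
  have hP₁ : Nat.card ((P.subtype hPC : Sylow 5 ↥C) : Subgroup ↥C) = 5 := by
    rw [Sylow.coe_subtype]
    exact (Nat.card_congr (subgroupOfEquivOfLe hPC).toEquiv).trans hP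
  rw [hP₁] at hW₁c
  obtain ⟨W, hWC, hCW, hWcard, -⟩ := exists_map_of_normal C W₁ hW₁n
  have hWmul : Nat.card C = Nat.card W * 5 := by rw [hWcard, hW₁c]
  have hWcard' : Nat.card W = 12 ∨ Nat.card W = 6 := by
    rcases hC with h | h <;> rw [h] at hWmul <;> omega
  have hordW : ∀ w ∈ W, orderOf w ∣ Nat.card W := by
    intro w hw
    have := orderOf_dvd_natCard (⟨w, hw⟩ : W)
    rwa [Subgroup.orderOf_mk] at this
  have hNW : N ≤ normalizer (W : Set G) := by
    intro n hn
    apply mem_normalizer_of_conj_mem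
    intro w hw
    apply mem_of_normal_of_coprime_index hWC hCW hWmul (hNC n hn w (hWC hw))
    rw [orderOf_conj']
    apply Nat.Coprime.coprime_dvd_left (hordW w hw)
    rcases hWcard' with h | h <;> rw [h] <;> norm_num
  by_cases hn3 : Nat.card (Sylow 3 ↥W) = 1
  · exfalso
    obtain ⟨K₁⟩ : Nonempty (Sylow 3 ↥W) := inferInstance
    haveI : Subsingleton (Sylow 3 ↥W) := (Nat.card_eq_one_iff_unique.mp hn3).1
    have hK₁n : (K₁ : Subgroup ↥W).Normal := Sylow.normal_of_subsingleton K₁
    have hK₁c : Nat.card (K₁ : Subgroup ↥W) = 3 := by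
      rcases hWcard' with h | h
      · have := card_sylow_subgroup_of_card_eq (G := ↥W) (p := 3) (k := 1) (m := 4)
          (by rw [h]; norm_num) (by norm_num) K₁
        simpa using this
      · have := card_sylow_subgroup_of_card_eq (G := ↥W) (p := 3) (k := 1) (m := 2)
          (by rw [h]; norm_num) (by norm_num) K₁
        simpa using this
    obtain ⟨K, hKW, hWK, hKcard, -⟩ := exists_map_of_normal W (K₁ : Subgroup ↥W) hK₁n
    rw [hK₁c] at hKcard
    apply hno K hKcard
    intro n hn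
    apply mem_normalizer_of_conj_mem
    intro k hk
    have hnk : n * k * n⁻¹ ∈ W :=
      (Subgroup.mem_normalizer_iff.mp (hNW hn) k).mp (hKW hk)
    have hordk : orderOf k ∣ 3 := by
      have := orderOf_dvd_natCard (⟨k, hk⟩ : K)
      rwa [Subgroup.orderOf_mk, hKcard] at this
    rcases hWcard' with h | h
    · apply mem_of_normal_of_coprime_index (m := 4) hKW hWK (by rw [h, hKcard]) hnk
      rw [orderOf_conj']
      exact Nat.Coprime.coprime_dvd_left hordk (by norm_num)
    · apply mem_of_normal_of_coprime_index (m := 2) hKW hWK (by rw [h, hKcard]) hnk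
      rw [orderOf_conj']
      exact Nat.Coprime.coprime_dvd_left hordk (by norm_num)
  · have hW12 : Nat.card W = 12 := by
      rcases hWcard' with h | h
      · exact h
      · exfalso
        apply hn3
        have h1 : Nat.card (Sylow 3 ↥W) ∣ 2 :=
          card_sylow_dvd_of_card_eq (p := 3) (k := 1) (by rw [h]; norm_num) (by norm_num)
        have h2 : Nat.card (Sylow 3 ↥W) ≡ 1 [MOD 3] := card_sylow_modEq_one 3 _
        have hle : Nat.card (Sylow 3 ↥W) ≤ 2 := Nat.le_of_dvd (by norm_num) h1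
        have hmod : Nat.card (Sylow 3 ↥W) % 3 = 1 := h2
        interval_cases (Nat.card (Sylow 3 ↥W)) <;> simp_all
    obtain ⟨V₁⟩ : Nonempty (Sylow 2 ↥W) := inferInstance
    have hV₁n : (V₁ : Subgroup ↥W).Normal := sylow_two_normal_of_card_twelve hW12 hn3 V₁
    have hV₁c : Nat.card (V₁ : Subgroup ↥W) = 4 := by
      have := card_sylow_subgroup_of_card_eq (G := ↥W) (p := 2) (k := 2) (m := 3)
        (by rw [hW12]; norm_num) (by norm_num) V₁
      simpa using this
    obtain ⟨V, hVW, hWV, hVcard, -⟩ := exists_map_of_normal W (V₁ : Subgroup ↥W) hV₁n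
    rw [hV₁c] at hVcard
    have hC60 : Nat.card C = 60 := by rw [hWmul, hW12]
    refine ⟨V, hVcard, hVW.trans hWC, ?_, ?_⟩
    · intro n hn
      apply mem_normalizer_of_conj_mem
      intro v hv
      have hnv : n * v * n⁻¹ ∈ W :=
        (Subgroup.mem_normalizer_iff.mp (hNW hn) v).mp (hVW hv)
      have hordv : orderOf v ∣ 4 := by
        have := orderOf_dvd_natCard (⟨v, hv⟩ : V)
        rwa [Subgroup.orderOf_mk, hVcard] at this
      apply mem_of_normal_of_coprime_index (m := 3) hVW hWV (by rw [hW12, hVcard]) hnv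
      rw [orderOf_conj']
      exact Nat.Coprime.coprime_dvd_left hordv (by norm_num)
    · intro c hc hcop
      have hcW : c ∈ W := by
        apply mem_of_normal_of_coprime_index hWC hCW hWmul hc
        exact Nat.Coprime.coprime_dvd_right (by norm_num : 5 ∣ 15) hcop
      apply mem_of_normal_of_coprime_index (m := 3) hVW hWV (by rw [hW12, hVcard]) hcW
      exact Nat.Coprime.coprime_dvd_right (by norm_num : 3 ∣ 15) hcop

set_option maxRecDepth 100000 in
theorem key_L : ∀ n ∈ Nat.divisors 216, n % 5 = 1 → n ≠ 1 → n * 20 ≤ 617 → n = 6 := by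
  decide

/-- Case A (`n_5 = 36`) is impossible. -/
theorem caseA (h : Nat.card G = 4320) [Fact (Nat.Prime 5)] [Fact (Nat.Prime 3)]
    [Fact (Nat.Prime 2)] (P : Sylow 5 G) (hP : Nat.card (P : Subgroup G) = 5)
    (hN : Nat.card (normalizer ((P : Subgroup G) : Set G)) = 120)
    (hC : Nat.card (centralizer ((P : Subgroup G) : Set G)) = 60 ∨
      Nat.card (centralizer ((P : Subgroup G) : Set G)) = 30) : False := by
  have hG : ¬ IsMulCommutative G := not_comm_of_simple_of_not_prime (by rw [h]; norm_num)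
  obtain ⟨V, hV4, hVC, hNV, hVuniq⟩ := exists_V h P hP hN hC
  have hNVeq : normalizer (V : Set G) = normalizer ((P : Subgroup G) : Set G) :=
    maxA h P hN _ hNV
      (normalizer_ne_top_of_simple V (by rw [hV4]; norm_num) (by rw [hV4, h]; norm_num))
  have hCN : centralizer ((P : Subgroup G) : Set G) ≤ normalizer ((P : Subgroup G) : Set G) :=
    Subgroup.centralizer_le_normalizer _
  have hVN : V ≤ normalizer ((P : Subgroup G) : Set G) := hVC.trans hCN
  have hV2 : IsPGroup 2 V := IsPGroup.of_card (n := 2) (by rw [hV4]; norm_num)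
  have hVab : ∀ a ∈ V, ∀ b ∈ V, a * b = b * a := by
    intro a ha b hb
    haveI : Fact (Nat.Prime 2) := ⟨by norm_num⟩
    have hc : IsMulCommutative V :=
      IsPGroup.isMulCommutative_of_card_eq_prime_sq (p := 2) (by rw [hV4]; norm_num)
    have := hc.is_comm.comm (⟨a, ha⟩ : V) ⟨b, hb⟩
    exact congrArg Subtype.val this
  -- a Sylow 2-subgroup of N(P) containing V
  have hV2' : IsPGroup 2 (V.subgroupOf (normalizer ((P : Subgroup G) : Set G))) :=
    hV2.comap_subtype
  obtain ⟨T', hT'⟩ := hV2'.exists_le_sylow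
  have hT'card : Nat.card (T' : Subgroup ↥(normalizer ((P : Subgroup G) : Set G))) = 8 := by
    have := card_sylow_subgroup_of_card_eq (G := ↥(normalizer ((P : Subgroup G) : Set G)))
      (p := 2) (k := 3) (m := 15) (by rw [hN]; norm_num) (by norm_num) T'
    simpa using this
  obtain ⟨T₀, hT₀def⟩ : ∃ T₀ : Subgroup G, T₀ = (T' : Subgroup ↥(normalizer
    ((P : Subgroup G) : Set G))).map (normalizer ((P : Subgroup G) : Set G)).subtype := ⟨_, rfl⟩
  have hT₀card : Nat.card T₀ = 8 := by
    rw [hT₀def, Subgroup.card_map_of_injective (Subgroup.subtype_injective _), hT'card]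
  have hT₀N : T₀ ≤ normalizer ((P : Subgroup G) : Set G) := by
    rw [hT₀def]
    rintro _ ⟨x, -, rfl⟩
    exact x.2
  have hVT₀ : V ≤ T₀ := by
    intro x hx
    rw [hT₀def]
    exact ⟨⟨x, hVN hx⟩, hT' (Subgroup.mem_subgroupOf.mpr hx), rfl⟩
  have hT₀2 : IsPGroup 2 T₀ := IsPGroup.of_card (n := 3) (by rw [hT₀card]; norm_num)
  obtain ⟨S, hTS⟩ := hT₀2.exists_le_sylow
  obtain ⟨T, hTdef⟩ : ∃ T : Subgroup G,
    T = (S : Subgroup G) ⊓ normalizer ((P : Subgroup G) : Set G) := ⟨_, rfl⟩
  have hTS0 : T ≤ (S : Subgroup G) := by rw [hTdef]; exact inf_le_left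
  have hTN : T ≤ normalizer ((P : Subgroup G) : Set G) := by rw [hTdef]; exact inf_le_right
  have hT₀T : T₀ ≤ T := by rw [hTdef]; exact le_inf hTS hT₀N
  have hT2 : IsPGroup 2 T := S.2.to_le hTS0
  have hTcard : Nat.card T = 8 := by
    obtain ⟨j, hj⟩ := IsPGroup.iff_card.mp hT2
    have h1 : 2 ^ j ∣ 2 ^ 3 * 15 := by
      have := Subgroup.card_dvd_of_le hTN
      rwa [hj, hN] at this
    have h2 : 2 ^ j ∣ 2 ^ 3 :=
      (Nat.Coprime.pow_left j (by norm_num : Nat.Coprime 2 15)).dvd_of_dvd_mul_right h1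
    have h3 : 2 ^ 3 ∣ 2 ^ j := by
      have := Subgroup.card_dvd_of_le hT₀T
      rwa [hj, hT₀card] at this
    rw [hj]
    exact Nat.dvd_antisymm h2 h3
  have hScard : Nat.card (S : Subgroup G) = 32 := by
    have := card_sylow_subgroup_of_card_eq (p := 2) (k := 5) (m := 135)
      (by rw [h]; norm_num) (by norm_num) S
    simpa using this
  have hTS' : T < (S : Subgroup G) := by
    refine lt_of_le_of_ne hTS0 (fun heq => ?_)
    rw [← heq, hTcard] at hScard
    norm_num at hScard
  obtain ⟨g, hgS, hgN, hgT⟩ := exists_mem_normalizer_not_mem S.2 hTS'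
  have hgnotN : g ∉ normalizer ((P : Subgroup G) : Set G) := by
    intro hg
    apply hgT
    rw [hTdef]
    exact ⟨hgS, hg⟩
  have hVT : V ≤ T := hVT₀.trans hT₀T
  -- the conjugate V' = V^g
  obtain ⟨V', hV'def⟩ : ∃ V' : Subgroup G, V' = V.map (MulAut.conj g).toMonoidHom := ⟨_, rfl⟩
  have hV'mem : ∀ y, y ∈ V' ↔ ∃ x ∈ V, g * x * g⁻¹ = y := by
    intro y
    rw [hV'def]
    constructor
    · rintro ⟨x, hx, rfl⟩
      exact ⟨x, hx, by simp [MulAut.conj_apply]⟩
    · rintro ⟨x, hx, rfl⟩
      exact ⟨x, hx, by simp [MulAut.conj_apply]⟩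
  have hV'T : V' ≤ T := by
    intro y hy
    obtain ⟨x, hx, rfl⟩ := (hV'mem y).mp hy
    exact (Subgroup.mem_normalizer_iff.mp hgN x).mp (hVT hx)
  have hV'card : Nat.card V' = 4 := by
    rw [hV'def, Subgroup.card_map_of_injective (MulAut.conj g).injective, hV4]
  have hne : V ⊓ V' ≠ ⊥ := by
    apply inf_ne_bot_of_card_lt hVT hV'T
    rw [hTcard, hV'card, hV4]
    norm_num
  obtain ⟨⟨w, hwV, hwV'⟩, hw1'⟩ := Subgroup.ne_bot_iff_exists_ne_one.mp hne
  have hw1 : w ≠ 1 := fun he => hw1' (Subtype.ext he)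
  obtain ⟨w₀, hw₀V, hw₀'⟩ := (hV'mem w).mp hwV'
  -- L = C(w)
  obtain ⟨L, hLdef⟩ : ∃ L : Subgroup G, L = centralizer ({w} : Set G) := ⟨_, rfl⟩
  have hLtop : L ≠ ⊤ := by rw [hLdef]; exact centralizer_ne_top_of_simple hG hw1
  have hPL : (P : Subgroup G) ≤ L := by
    intro x hx
    rw [hLdef, Subgroup.mem_centralizer_singleton_iff]
    have := hVC hwV
    rw [Subgroup.mem_centralizer_iff] at this
    exact (this x hx)
  have hVL : V ≤ L := by
    intro v hv
    rw [hLdef, Subgroup.mem_centralizer_singleton_iff]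
    exact hVab v hv w hwV
  have hQL : ((g • P : Sylow 5 G) : Subgroup G) ≤ L := by
    intro y hy
    rw [mem_smul_sylow_iff] at hy
    rw [hLdef, Subgroup.mem_centralizer_singleton_iff, ← hw₀']
    have hc := hVC hw₀V
    rw [Subgroup.mem_centralizer_iff] at hc
    have hxw₀ := hc _ hy
    calc y * (g * w₀ * g⁻¹) = g * ((g⁻¹ * y * g) * w₀) * g⁻¹ := by group
      _ = g * (w₀ * (g⁻¹ * y * g)) * g⁻¹ := by rw [hxw₀]
      _ = g * w₀ * g⁻¹ * y := by group
  have hPgne : g • P ≠ P := by
    intro he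
    exact hgnotN (Sylow.smul_eq_iff_mem_normalizer.mp he)
  -- n_5(L) = 6
  have hcount := card_sylow_of_le P L hPL
  have hn_ne1 : Nat.card (Sylow 5 ↥L) ≠ 1 := by
    intro h1
    haveI : Subsingleton (Sylow 5 ↥L) := (Nat.card_eq_one_iff_unique.mp h1).1
    have : (g • P).subtype hQL = P.subtype hPL := Subsingleton.elim _ _
    exact hPgne (Sylow.subtype_injective this)
  have hmod : Nat.card (Sylow 5 ↥L) ≡ 1 [MOD 5] := card_sylow_modEq_one 5 _
  have hm120 : Nat.card (L ⊓ normalizer ((P : Subgroup G) : Set G) : Subgroup G) ∣ 120 := by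
    have := Subgroup.card_dvd_of_le
      (inf_le_right : L ⊓ normalizer ((P : Subgroup G) : Set G) ≤ _)
    rwa [hN] at this
  have hm20 : 20 ∣ Nat.card (L ⊓ normalizer ((P : Subgroup G) : Set G) : Subgroup G) := by
    have h5 : 5 ∣ Nat.card (L ⊓ normalizer ((P : Subgroup G) : Set G) : Subgroup G) := by
      have := Subgroup.card_dvd_of_le (le_inf hPL (le_normalizer (H := (P : Subgroup G))))
      rwa [hP] at this
    have h4 : 4 ∣ Nat.card (L ⊓ normalizer ((P : Subgroup G) : Set G) : Subgroup G) := by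
      have := Subgroup.card_dvd_of_le (le_inf hVL hVN)
      rwa [hV4] at this
    exact Nat.Coprime.mul_dvd_of_dvd_of_dvd (by norm_num : Nat.Coprime 4 5) h4 h5
  have hLdvd : Nat.card L ∣ 4320 := by
    have := Subgroup.card_subgroup_dvd_card L
    rwa [h] at this
  have hLle : Nat.card L ≤ 617 := by
    have hidx := Subgroup.card_mul_index L
    rw [h] at hidx
    have h7 : 7 ≤ L.index := by
      by_contra hlt
      push Not at hlt
      have := two_mul_card_dvd_factorial_of_index_le hG L hLtop (k := 6) (by omega)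
      rw [h] at this
      norm_num [Nat.factorial] at this
    nlinarith
  have hn6 : Nat.card (Sylow 5 ↥L) = 6 := by
    generalize Nat.card (Sylow 5 ↥L) = n at hcount hn_ne1 hmod
    generalize Nat.card (L ⊓ normalizer ((P : Subgroup G) : Set G) : Subgroup G) = m
      at hcount hm120 hm20
    obtain ⟨m', rfl⟩ := hm20
    have hm'pos : 0 < m' := by
      rcases Nat.eq_zero_or_pos m' with h0 | h0
      · rw [h0] at hcount
        have : 0 < Nat.card L := Nat.card_pos
        omega
      · exact h0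
    have hn216 : n ∣ 216 := by
      have h1 : n * 20 ∣ 216 * 20 := by
        refine Dvd.dvd.trans ?_ hLdvd
        rw [← hcount]
        exact ⟨m', by ring⟩
      exact (Nat.mul_dvd_mul_iff_right (by norm_num)).mp h1
    apply key_L n (Nat.mem_divisors.mpr ⟨hn216, by norm_num⟩) hmod hn_ne1
    calc n * 20 ≤ n * (20 * m') := Nat.mul_le_mul_left _ (by omega)
      _ = Nat.card L := hcount
      _ ≤ 617 := hLle
  -- the kernel of the action of L on its Sylow 5-subgroups
  obtain ⟨M, hMdef⟩ : ∃ M : Subgroup ↥L,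
    M = (MulAction.toPermHom ↥L (Sylow 5 ↥L)).ker := ⟨_, rfl⟩
  haveI hMn : M.Normal := by rw [hMdef]; infer_instance
  have hMmem : ∀ d : ↥L, d ∈ M ↔ ∀ P' : Sylow 5 ↥L, d • P' = P' := by
    intro d
    rw [hMdef, MonoidHom.mem_ker]
    constructor
    · intro hd P'
      have := congrArg (fun σ => σ P') hd
      simpa using this
    · intro hd
      ext P'
      simp [hd P']
  have hP₁ : Nat.card ((P.subtype hPL : Sylow 5 ↥L) : Subgroup ↥L) = 5 := by
    rw [Sylow.coe_subtype]
    exact (Nat.card_congr (subgroupOfEquivOfLe hPL).toEquiv).trans hP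
  have hVM : ∀ v (hv : v ∈ V), (⟨v, hVL hv⟩ : ↥L) ∈ M := by
    intro v hv
    rw [hMmem]
    intro P'
    rw [Sylow.smul_eq_iff_mem_normalizer]
    apply mem_normalizer_sylow_of_commute (P.subtype hPL) hP₁ (by rw [hn6])
    · intro x hx
      have hxP : (x : G) ∈ (P : Subgroup G) := by
        rw [Sylow.coe_subtype] at hx
        exact Subgroup.mem_subgroupOf.mp hx
      apply Subtype.ext
      have hc := hVC hv
      rw [Subgroup.mem_centralizer_iff] at hc
      exact (hc x hxP).symm
    · have hord : orderOf (⟨v, hVL hv⟩ : ↥L) = orderOf v := Subgroup.orderOf_mk v (hVL hv)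
      rw [hord]
      have hordv : orderOf v ∣ 4 := by
        have := orderOf_dvd_natCard (⟨v, hv⟩ : V)
        rwa [Subgroup.orderOf_mk, hV4] at this
      exact Nat.Coprime.coprime_dvd_left hordv (by norm_num)
  -- M meets P trivially
  have hMP : ∀ c : ↥L, c ∈ M → (c : G) ∈ (P : Subgroup G) → c = 1 := by
    intro c hcM hcP
    by_contra hc1
    have hc1' : (c : G) ≠ 1 := fun he => hc1 (Subtype.ext he)
    have hnorm : c ∈ normalizer ((((g • P).subtype hQL : Sylow 5 ↥L) : Subgroup ↥L) : Set ↥L) :=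
      Sylow.smul_eq_iff_mem_normalizer.mp ((hMmem c).mp hcM _)
    have hordc : orderOf c ∣ 5 := by
      have := orderOf_dvd_natCard (⟨(c : G), hcP⟩ : (P : Subgroup G))
      rw [Subgroup.orderOf_mk, hP] at this
      rwa [Subgroup.orderOf_coe] at this
    have hcQ : c ∈ (((g • P).subtype hQL : Sylow 5 ↥L) : Subgroup ↥L) := by
      apply mem_sylow_of_mem_normalizer_of_orderOf _ hnorm
      rcases (Nat.dvd_prime (by norm_num : Nat.Prime 5)).mp hordc with h1 | h5
      · exact ⟨0, by rw [h1]; norm_num⟩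
      · exact ⟨1, by rw [h5]; norm_num⟩
    have hcQ' : (c : G) ∈ ((g • P : Sylow 5 G) : Subgroup G) := by
      rw [Sylow.coe_subtype] at hcQ
      exact Subgroup.mem_subgroupOf.mp hcQ
    have hbot := sylow_inf_eq_bot_of_ne P (g • P) hP hPgne
    have : (c : G) ∈ ((g • P : Sylow 5 G) : Subgroup G) ⊓ (P : Subgroup G) := ⟨hcQ', hcP⟩
    rw [hbot, Subgroup.mem_bot] at this
    exact hc1' this
  -- L normalizes V
  have hLV : L ≤ normalizer (V : Set G) := by
    intro m hm
    apply mem_normalizer_of_conj_mem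
    intro v hv
    have hdM : (⟨m, hm⟩ : ↥L) * ⟨v, hVL hv⟩ * (⟨m, hm⟩ : ↥L)⁻¹ ∈ M :=
      hMn.conj_mem _ (hVM v hv) _
    obtain ⟨d, hddef⟩ : ∃ d : ↥L, d = (⟨m, hm⟩ : ↥L) * ⟨v, hVL hv⟩ * (⟨m, hm⟩ : ↥L)⁻¹ :=
      ⟨_, rfl⟩
    rw [← hddef] at hdM
    have hdval : (d : G) = m * v * m⁻¹ := by rw [hddef]; rfl
    rw [← hdval]
    apply hVuniq
    · rw [Subgroup.mem_centralizer_iff]
      intro x hx
      obtain ⟨x', hx'def⟩ : ∃ x' : ↥L, x' = ⟨x, hPL hx⟩ := ⟨_, rfl⟩
      have hx'val : (x' : G) = x := by rw [hx'def]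
      have hdnorm : d ∈ normalizer (((P.subtype hPL : Sylow 5 ↥L) : Subgroup ↥L) : Set ↥L) :=
        Sylow.smul_eq_iff_mem_normalizer.mp ((hMmem d).mp hdM _)
      have hx'P : x' ∈ ((P.subtype hPL : Sylow 5 ↥L) : Subgroup ↥L) := by
        rw [Sylow.coe_subtype, Subgroup.mem_subgroupOf, hx'val]
        exact hx
      have h1 : d * x' * d⁻¹ ∈ ((P.subtype hPL : Sylow 5 ↥L) : Subgroup ↥L) :=
        (Subgroup.mem_normalizer_iff.mp hdnorm x').mp hx'P
      have h2 : d * x' * d⁻¹ * x'⁻¹ ∈ ((P.subtype hPL : Sylow 5 ↥L) : Subgroup ↥L) :=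
        Subgroup.mul_mem _ h1 (Subgroup.inv_mem _ hx'P)
      have h3 : d * x' * d⁻¹ * x'⁻¹ ∈ M := by
        have : d * x' * d⁻¹ * x'⁻¹ = d * (x' * d⁻¹ * x'⁻¹) := by group
        rw [this]
        exact M.mul_mem hdM (hMn.conj_mem _ (M.inv_mem hdM) _)
      have h2' : ((d * x' * d⁻¹ * x'⁻¹ : ↥L) : G) ∈ (P : Subgroup G) := by
        rw [Sylow.coe_subtype] at h2
        exact Subgroup.mem_subgroupOf.mp h2
      have h4 := hMP _ h3 h2'
      have h5 : d * x' = x' * d := by
        calc d * x' = (d * x' * d⁻¹ * x'⁻¹) * (x' * d) := by group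
          _ = x' * d := by rw [h4, one_mul]
      have h6 := congrArg (Subtype.val : ↥L → G) h5
      simp only [Subgroup.coe_mul, hx'val] at h6
      exact h6.symm
    · rw [hdval, orderOf_conj']
      have hordv : orderOf v ∣ 4 := by
        have := orderOf_dvd_natCard (⟨v, hv⟩ : V)
        rwa [Subgroup.orderOf_mk, hV4] at this
      exact Nat.Coprime.coprime_dvd_left hordv (by norm_num)
  rw [hNVeq] at hLV
  -- now g normalizes P
  apply hgnotN
  apply mem_normalizer_of_conj_mem
  intro y hy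
  have hmem : g * y * g⁻¹ ∈ ((g • P : Sylow 5 G) : Subgroup G) := by
    rw [mem_smul_sylow_iff]
    have : g⁻¹ * (g * y * g⁻¹) * g = y := by group
    rw [this]
    exact hy
  refine mem_sylow_of_mem_normalizer_of_orderOf P (hLV (hQL hmem)) ?_
  rw [orderOf_conj']
  have h1 : orderOf y ∣ 5 := by
    have := orderOf_dvd_natCard (⟨y, hy⟩ : (P : Subgroup G))
    rwa [hP, Subgroup.orderOf_mk] at this
  rcases (Nat.dvd_prime (by norm_num : Nat.Prime 5)).mp h1 with h2 | h2
  · exact ⟨0, by rw [h2]; norm_num⟩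
  · exact ⟨1, by rw [h2]; norm_num⟩

end CaseA

end Cfsg.Agent.Helper17.G4320
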