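import Mathlib
import Cfsg.Agent.Helper17.G4320b
import Cfsg.Agent.Helper17.ExcApply
import Cfsg.Agent.Helper17.ExcChar5
import Cfsg.Agent.Helper66.BLMain
import Cfsg.Agent.Helper3.CharVal
import Cfsg.Agent.Helper80.CharLevel

set_option autoImplicit false
set_option linter.style.haveILetI false

namespace Cfsg.Agent.Helper17.G4320

open Cfsg
open scoped ComplexConjugate

universe u

section CharLemmas

variable {G : Type u} [Group G]

/-- Values of a character at an involution. -/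
theorem involution_values {χ : G → ℂ} (hχ : IsCharacter G χ) (t : G) (ht : orderOf t = 2) :
    ∃ n k : ℕ, χ 1 = n ∧ k ≤ n ∧ χ t = (n : ℂ) - 2 * k := by
  classical
  obtain ⟨n, ρ, rfl⟩ := hχ
  have hfin : IsOfFinOrder t := orderOf_pos_iff.1 (by rw [ht]; norm_num)
  obtain ⟨μ, hμ, hk, _⟩ := Helper3.exists_roots_char_pow ρ t hfin
  have h0 := hk 0
  have h1 := hk 1
  simp only [pow_zero, pow_one] at h0 h1
  have hμ' : ∀ i, μ i = 1 ∨ μ i = -1 := by
    intro i
    have h2 := hμ i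
    rw [ht] at h2
    have h3 : (μ i - 1) * (μ i + 1) = 0 := by ring_nf; rw [h2]; ring
    rcases mul_eq_zero.1 h3 with h | h
    · left; exact sub_eq_zero.1 h
    · right; exact eq_neg_of_add_eq_zero_left h
  refine ⟨Module.finrank ℂ (Fin n → ℂ), (Finset.univ.filter (fun i => μ i = -1)).card, ?_, ?_, ?_⟩
  · rw [h0]; simp
  · calc (Finset.univ.filter (fun i => μ i = -1)).card ≤ (Finset.univ : Finset (Fin _)).card :=
        Finset.card_filter_le _ _
      _ = _ := by simp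
  · rw [h1]
    have : ∀ i, μ i = 1 - 2 * (if μ i = -1 then (1 : ℂ) else 0) := by
      intro i
      rcases hμ' i with h | h
      · rw [h]
        have : ¬ ((1 : ℂ) = -1) := by norm_num
        rw [if_neg this]; ring
      · rw [h, if_pos rfl]; ring
    rw [Finset.sum_congr rfl (fun i _ => this i), Finset.sum_sub_distrib, ← Finset.mul_sum,
      Finset.sum_boole]
    simp

variable [Finite G] [IsSimpleGroup G]

/-- In a simple group a non-principal irreducible character is faithful. -/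
theorem ne_degree_of_simple (ψ : IrrCharacter G) (hψ : ψ ≠ Helper79.principalIrr G) {g : G}
    (hg : g ≠ 1) : (ψ : G → ℂ) g ≠ (ψ : G → ℂ) 1 := by
  classical
  let _ : Fintype G := Fintype.ofFinite G
  intro heq
  have hchar := Helper74.irr_isCharacter ψ
  have hmem : g ∈ Helper80.kerChar (ψ : G → ℂ) hchar := (Helper80.mem_kerChar hchar g).mpr heq
  rcases (Helper80.kerChar_normal (ψ : G → ℂ) hchar).eq_bot_or_eq_top with hb | ht
  · rw [hb, Subgroup.mem_bot] at hmem
    exact hg hmem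
  · have hall : ∀ x : G, (ψ : G → ℂ) x = (ψ : G → ℂ) 1 := by
      intro x
      apply (Helper80.mem_kerChar hchar x).mp
      rw [ht]; exact Subgroup.mem_top x
    have h0 := Helper74.irr_inner_ne hψ
    rw [classInner] at h0
    have h1 : ∑ x : G, (ψ : G → ℂ) x * conj ((Helper79.principalIrr G : G → ℂ) x)
        = (Nat.card G : ℂ) * (ψ : G → ℂ) 1 := by
      have e1 : ∀ x : G, (ψ : G → ℂ) x * conj ((Helper79.principalIrr G : G → ℂ) x)
          = (ψ : G → ℂ) 1 := by
        intro x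
        rw [hall x]
        show (ψ : G → ℂ) 1 * conj (1 : ℂ) = (ψ : G → ℂ) 1
        simp
      rw [Finset.sum_congr rfl (fun x _ => e1 x), Finset.sum_const, Finset.card_univ,
        Nat.card_eq_fintype_card]
      simp
    rw [h1] at h0
    have hpos := Helper78.charDegree_pos_of_isIrrCharacter ψ.2
    rw [Helper78.irrChar_one_eq_charDegree ψ.2] at h0
    have hG0 : (Nat.card G : ℂ) ≠ 0 := by
      have : 0 < Nat.card G := Nat.card_pos
      exact_mod_cast this.ne'
    have hd0 : (charDegree (ψ : G → ℂ) : ℂ) ≠ 0 := by exact_mod_cast hpos.ne'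
    rw [← mul_assoc, inv_mul_cancel₀ hG0, one_mul] at h0
    exact hd0 h0

end CharLemmas

section Setup

open Subgroup

variable {G : Type u} [Group G] [Finite G]

/-- centralizer of a generator -/
theorem centralizer_singleton_eq_of_zpowers {x : G} {P : Subgroup G} (hP : P = zpowers x) :
    centralizer ({x} : Set G) = centralizer (P : Set G) := by
  apply le_antisymm
  · intro z hz
    rw [Subgroup.mem_centralizer_singleton_iff] at hz
    rw [Subgroup.mem_centralizer_iff]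
    intro y hy
    rw [hP] at hy
    obtain ⟨k, rfl⟩ := Subgroup.mem_zpowers_iff.mp hy
    have hc : Commute z x := hz
    exact ((hc.zpow_right k).eq).symm
  · intro z hz
    rw [Subgroup.mem_centralizer_iff] at hz
    rw [Subgroup.mem_centralizer_singleton_iff]
    have hx : x ∈ P := by rw [hP]; exact Subgroup.mem_zpowers x
    exact (hz x hx).symm

/-- The local structure in case B: generators `x`, `u`. -/
theorem setupB [Fact (Nat.Prime 5)] (P : Sylow 5 G)
    (hP : Nat.card (P : Subgroup G) = 5)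
    (hC : Nat.card (centralizer ((P : Subgroup G) : Set G)) = 10) :
    ∃ x u : G, x ∈ (P : Subgroup G) ∧ orderOf x = 5 ∧ (P : Subgroup G) = zpowers x ∧
      u ∈ centralizer ((P : Subgroup G) : Set G) ∧ orderOf u = 2 ∧ Commute x u ∧
      orderOf (x * u) = 10 ∧
      centralizer ((P : Subgroup G) : Set G) = zpowers (x * u) ∧
      centralizer ({x} : Set G) = centralizer ((P : Subgroup G) : Set G) ∧
      centralizer ({x * u} : Set G) = centralizer ((P : Subgroup G) : Set G) := by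
  obtain ⟨x', hx'⟩ := exists_prime_orderOf_dvd_card' (G := ↥(P : Subgroup G)) 5
    (by rw [hP])
  obtain ⟨x, hxdef⟩ : ∃ x : G, x = (x' : G) := ⟨_, rfl⟩
  have hx5 : orderOf x = 5 := by rw [hxdef, Subgroup.orderOf_coe, hx']
  have hxP : x ∈ (P : Subgroup G) := by rw [hxdef]; exact x'.2
  have hPz : (P : Subgroup G) = zpowers x := by
    symm
    apply Subgroup.eq_of_le_of_card_ge (zpowers_le.mpr hxP)
    rw [Nat.card_zpowers, hx5, hP]
  obtain ⟨u', hu'⟩ := exists_prime_orderOf_dvd_card'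
    (G := ↥(centralizer ((P : Subgroup G) : Set G))) 2 (by rw [hC]; norm_num)
  obtain ⟨u, hudef⟩ : ∃ u : G, u = (u' : G) := ⟨_, rfl⟩
  have hu2 : orderOf u = 2 := by rw [hudef, Subgroup.orderOf_coe, hu']
  have huC : u ∈ centralizer ((P : Subgroup G) : Set G) := by rw [hudef]; exact u'.2
  have hcomm : Commute x u := by
    rw [Subgroup.mem_centralizer_iff] at huC
    exact huC x hxP
  have hord : orderOf (x * u) = 10 := by
    rw [hcomm.orderOf_mul_eq_mul_orderOf_of_coprime (by rw [hx5, hu2]; norm_num), hx5, hu2]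
  have hxC : x ∈ centralizer ((P : Subgroup G) : Set G) := by
    rw [Subgroup.mem_centralizer_iff]
    intro y hy
    rw [hPz] at hy
    obtain ⟨k, rfl⟩ := Subgroup.mem_zpowers_iff.mp hy
    exact ((Commute.refl x).zpow_left k).eq
  have hCz : centralizer ((P : Subgroup G) : Set G) = zpowers (x * u) := by
    symm
    apply Subgroup.eq_of_le_of_card_ge (zpowers_le.mpr (Subgroup.mul_mem _ hxC huC))
    rw [Nat.card_zpowers, hord, hC]
  have hCx := centralizer_singleton_eq_of_zpowers hPz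
  refine ⟨x, u, hxP, hx5, hPz, huC, hu2, hcomm, hord, hCz, hCx, ?_⟩
  apply le_antisymm
  · rw [← hCx]
    intro z hz
    rw [Subgroup.mem_centralizer_singleton_iff] at hz ⊢
    have hc : Commute z (x * u) := hz
    have h6 : (x * u) ^ 6 = x := by
      rw [hcomm.mul_pow]
      have hx6 : x ^ 6 = x := by
        have := pow_orderOf_eq_one x
        rw [hx5] at this
        calc x ^ 6 = x ^ 5 * x := by rw [pow_succ]
          _ = x := by rw [this, one_mul]
      have hu6 : u ^ 6 = 1 := by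
        have := pow_orderOf_eq_one u
        rw [hu2] at this
        calc u ^ 6 = (u ^ 2) ^ 3 := by rw [← pow_mul]
          _ = 1 := by rw [this, one_pow]
      rw [hx6, hu6, mul_one]
    have := hc.pow_right 6
    rw [h6] at this
    exact this.eq
  · rw [hCz]
    intro z hz
    obtain ⟨k, rfl⟩ := Subgroup.mem_zpowers_iff.mp hz
    rw [Subgroup.mem_centralizer_singleton_iff]
    exact ((Commute.refl (x * u)).zpow_left k).eq

/-- Counting bound for the class multiplication coefficient. -/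
theorem count_bound [Fact (Nat.Prime 5)] (P : Sylow 5 G) (hP : Nat.card (P : Subgroup G) = 5)
    (hN : Nat.card (normalizer ((P : Subgroup G) : Set G)) = 20)
    (hC : Nat.card (centralizer ((P : Subgroup G) : Set G)) = 10)
    (u z : G) (hu2 : orderOf u = 2) (hzP : z ^ 2 ∈ (P : Subgroup G)) (hz1 : z ^ 2 ≠ 1) :
    Nat.card {p : G × G // IsConj u p.1 ∧ IsConj u p.2 ∧ p.1 * p.2 = z} ≤ 10 := by
  classical
  have hinv : ∀ a : G, IsConj u a → a * a = 1 := by
    intro a ha
    obtain ⟨g, hg⟩ := isConj_iff.mp ha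
    rw [← hg]
    have huu : u * u = 1 := by
      have := pow_orderOf_eq_one u
      rwa [hu2, pow_two] at this
    calc g * u * g⁻¹ * (g * u * g⁻¹) = g * (u * u) * g⁻¹ := by group
      _ = 1 := by rw [huu]; group
  -- w = z^2 generates P
  obtain ⟨w, hwdef⟩ : ∃ w : G, w = z ^ 2 := ⟨_, rfl⟩
  rw [← hwdef] at hzP hz1
  have hw5 : orderOf w = 5 := by
    have h1 : orderOf w ∣ 5 := by
      have := orderOf_dvd_natCard (⟨w, hzP⟩ : (P : Subgroup G))
      rwa [hP, Subgroup.orderOf_mk] at this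
    rcases (Nat.dvd_prime (by norm_num : Nat.Prime 5)).mp h1 with h | h
    · exact absurd (orderOf_eq_one_iff.mp h) hz1
    · exact h
  have hPz : (P : Subgroup G) = zpowers w := by
    symm
    apply Subgroup.eq_of_le_of_card_ge (zpowers_le.mpr hzP)
    rw [Nat.card_zpowers, hw5, hP]
  -- the target set
  let T := {a : ↥(normalizer ((P : Subgroup G) : Set G)) //
    a ∉ (centralizer ((P : Subgroup G) : Set G)).subgroupOf (normalizer ((P : Subgroup G) : Set G))}
  have hTcard : Nat.card T = 10 := by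
    haveI : Fintype ↥(normalizer ((P : Subgroup G) : Set G)) := Fintype.ofFinite _
    have h1 : Fintype.card T = Fintype.card ↥(normalizer ((P : Subgroup G) : Set G))
        - Fintype.card {a : ↥(normalizer ((P : Subgroup G) : Set G)) //
          a ∈ (centralizer ((P : Subgroup G) : Set G)).subgroupOf
            (normalizer ((P : Subgroup G) : Set G))} := Fintype.card_subtype_compl _
    rw [Nat.card_eq_fintype_card, h1, ← Nat.card_eq_fintype_card, ← Nat.card_eq_fintype_card, hN]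
    have h2 : Nat.card {a : ↥(normalizer ((P : Subgroup G) : Set G)) //
          a ∈ (centralizer ((P : Subgroup G) : Set G)).subgroupOf
            (normalizer ((P : Subgroup G) : Set G))} = 10 := by
      rw [← hC]
      exact Nat.card_congr (subgroupOfEquivOfLe (Subgroup.centralizer_le_normalizer _)).toEquiv
    rw [h2]
  have key : ∀ p : {p : G × G // IsConj u p.1 ∧ IsConj u p.2 ∧ p.1 * p.2 = z},
      p.1.1 * w * p.1.1⁻¹ = w⁻¹ := by
    rintro ⟨⟨a, b⟩, ha, hb, hab⟩
    simp only at ha hb hab ⊢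
    have haa := hinv a ha
    have hbb := hinv b hb
    have hainv : a⁻¹ = a := by
      calc a⁻¹ = a⁻¹ * (a * a) := by rw [haa, mul_one]
        _ = a := by group
    have hbinv : b⁻¹ = b := by
      calc b⁻¹ = b⁻¹ * (b * b) := by rw [hbb, mul_one]
        _ = b := by group
    have hz' : a * z * a⁻¹ = z⁻¹ := by
      rw [← hab, mul_inv_rev, hainv, hbinv]
      calc a * (a * b) * a = (a * a) * b * a := by group
        _ = b * a := by rw [haa, one_mul]
    rw [hwdef]
    calc a * z ^ 2 * a⁻¹ = (a * z * a⁻¹) ^ 2 := by rw [conj_pow]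
      _ = (z⁻¹) ^ 2 := by rw [hz']
      _ = (z ^ 2)⁻¹ := by rw [inv_pow]
  have hmemN : ∀ p : {p : G × G // IsConj u p.1 ∧ IsConj u p.2 ∧ p.1 * p.2 = z},
      p.1.1 ∈ normalizer ((P : Subgroup G) : Set G) := by
    intro p
    apply mem_normalizer_of_conj_mem
    intro y hy
    rw [hPz] at hy ⊢
    obtain ⟨k, rfl⟩ := Subgroup.mem_zpowers_iff.mp hy
    rw [← conj_zpow, key p]
    exact Subgroup.zpow_mem _ (Subgroup.inv_mem _ (Subgroup.mem_zpowers w)) k
  have hnotC : ∀ p : {p : G × G // IsConj u p.1 ∧ IsConj u p.2 ∧ p.1 * p.2 = z},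
      p.1.1 ∉ centralizer ((P : Subgroup G) : Set G) := by
    intro p hp
    rw [Subgroup.mem_centralizer_iff] at hp
    have h1 := hp w hzP
    have h2 : p.1.1 * w * p.1.1⁻¹ = w := by
      rw [← h1]; group
    rw [key p] at h2
    have hww : w ^ 2 = 1 := by
      calc w ^ 2 = w * w := pow_two w
        _ = w⁻¹ * w := by rw [h2]
        _ = 1 := inv_mul_cancel w
    have := orderOf_dvd_of_pow_eq_one hww
    rw [hw5] at this
    norm_num at this
  let f : {p : G × G // IsConj u p.1 ∧ IsConj u p.2 ∧ p.1 * p.2 = z} → T :=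
    fun p => ⟨⟨p.1.1, hmemN p⟩, fun h => hnotC p (Subgroup.mem_subgroupOf.mp h)⟩
  have hf : Function.Injective f := by
    rintro ⟨⟨a, b⟩, ha, hb, hab⟩ ⟨⟨a', b'⟩, ha', hb', hab'⟩ hff
    have h1 : a = a' := by
      have := congrArg (fun t : T => ((t.1 : ↥(normalizer ((P : Subgroup G) : Set G))) : G)) hff
      exact this
    subst h1
    have h2 : b = b' := by
      simp only at hab hab'
      have : a * b = a * b' := by rw [hab, hab']
      exact mul_left_cancel this
    subst h2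
    rfl
  calc Nat.card {p : G × G // IsConj u p.1 ∧ IsConj u p.2 ∧ p.1 * p.2 = z}
      ≤ Nat.card T := Nat.card_le_card_of_injective f hf
    _ = 10 := hTcard

end Setup

section Arith

set_option maxRecDepth 100000 in
theorem key_degB : ∀ d ∈ Nat.divisors 4320, d ≤ 65 → d ≠ 1 →
    (d % 5 = 1 → d = 6 ∨ d = 16 ∨ d = 36) ∧ (d % 5 = 4 → d = 4 ∨ d = 9 ∨ d = 24 ∨ d = 54) := by
  decide

/-- The arithmetic core of case B. -/
theorem caseB_arith (d₁ D Nc kc : ℕ) (a₁ e c : ℤ)
    (ha : a₁ = 1 ∨ a₁ = -1) (he : e = 1 ∨ e = -1)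
    (hD : (D : ℤ) = -e * (1 + a₁ * d₁))
    (hd₁ : d₁ ∣ 4320) (hDdvd : D ∣ 4320) (h1 : 1 < d₁)
    (hsq : 1 + d₁ ^ 2 + 2 * D ^ 2 ≤ 4320)
    (hmod : (d₁ : ℤ) ≡ a₁ [ZMOD 5])
    (hpar : (c - d₁) % 2 = 0) (hlo : -(d₁ : ℤ) ≤ c) (hhi : c < d₁)
    (hN : Nc ≤ 20)
    (hcm : (Nc : ℤ) * (10 * kc) ^ 2 * d₁ * (1 + a₁ * d₁) = 2 * 4320 * a₁ * (d₁ - c) ^ 2) :
    False := by
  have hd65 : d₁ ≤ 65 := by nlinarith
  have hkey := key_degB d₁ (Nat.mem_divisors.mpr ⟨hd₁, by norm_num⟩) hd65 (by omega)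
  rcases ha with rfl | rfl
  · -- a₁ = 1
    have hm : d₁ % 5 = 1 := by
      have := hmod
      rw [Int.ModEq] at this
      omega
    have hDpos : (0 : ℤ) ≤ D := Int.natCast_nonneg D
    have hDe : (D : ℤ) = d₁ + 1 := by
      rcases he with rfl | rfl
      · rw [hD] at hDpos
        have : (0 : ℤ) ≤ d₁ := Int.natCast_nonneg d₁
        linarith
      · rw [hD]; ring
    have hDe' : D = d₁ + 1 := by exact_mod_cast hDe
    rcases hkey.1 hm with rfl | rfl | rfl <;> rw [hDe'] at hDdvd <;> norm_num at hDdvd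
  · -- a₁ = -1
    have hm : d₁ % 5 = 4 := by
      have := hmod
      rw [Int.ModEq] at this
      omega
    have hDpos : (0 : ℤ) ≤ D := Int.natCast_nonneg D
    have hd1' : (1 : ℤ) < d₁ := by exact_mod_cast h1
    have hDe : (D : ℤ) = d₁ - 1 := by
      rcases he with rfl | rfl
      · rw [hD]; ring
      · rw [hD] at hDpos
        linarith
    have hDe' : D = d₁ - 1 := by omega
    rcases hkey.2 hm with rfl | rfl | rfl | rfl
    · -- (4,3)
      norm_num at hcm hpar hlo hhi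
      have hc : c = -4 ∨ c = -2 ∨ c = 0 ∨ c = 2 := by omega
      have h5 : (Nc : ℤ) * (kc : ℤ) ^ 2 * 5 = 36 * (4 - c) ^ 2 := by nlinarith
      rcases hc with rfl | rfl | rfl | rfl <;> norm_num at h5 <;> omega
    · -- (9,8)
      norm_num at hcm hpar hlo hhi
      have h5 : (Nc : ℤ) * (kc : ℤ) ^ 2 * 5 = 6 * (9 - c) ^ 2 := by nlinarith
      have hc : c = -9 ∨ c = -7 ∨ c = -5 ∨ c = -3 ∨ c = -1 ∨ c = 1 ∨ c = 3 ∨ c = 5 ∨ c = 7 := by
        omega
      rcases hc with rfl | rfl | rfl | rfl | rfl | rfl | rfl | rfl | rfl <;> norm_num at h5 <;>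
        try omega
      -- c = -1 : Nc * kc^2 = 120
      have h6 : Nc * kc ^ 2 = 120 := by
        have : (Nc : ℤ) * (kc : ℤ) ^ 2 = 120 := by linarith
        exact_mod_cast this
      have hk : kc ≤ 10 := by
        by_contra hlt
        push Not at hlt
        have : 121 ≤ kc ^ 2 := by nlinarith
        have hNc : 1 ≤ Nc := by
          rcases Nat.eq_zero_or_pos Nc with h0 | h0
          · rw [h0] at h6; omega
          · exact h0
        nlinarith
      interval_cases kc <;> omega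
    · rw [hDe'] at hDdvd; norm_num at hDdvd
    · rw [hDe'] at hsq; norm_num at hsq


end Arith

section Main

open Subgroup

variable {G : Type u} [Group G] [Finite G] [IsSimpleGroup G]

/-- Case B (`n_5 = 216`, `|C(P)| = 10`) is impossible. -/
theorem caseB (h : Nat.card G = 4320) [Fact (Nat.Prime 5)] (P : Sylow 5 G)
    (hP : Nat.card (P : Subgroup G) = 5)
    (hN : Nat.card (normalizer ((P : Subgroup G) : Set G)) = 20)
    (hC : Nat.card (centralizer ((P : Subgroup G) : Set G)) = 10) : False := by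
  classical
  let _ : Fintype G := Fintype.ofFinite G
  let _ := Helper74.irrFintype G
  obtain ⟨x, u, hxP, hx5, hPz, huC, hu2, hcomm, hxu10, hCz, hCx, hCxu⟩ := setupB P hP hC
  have hx1 : x ≠ 1 := by
    intro h1
    rw [h1, orderOf_one] at hx5
    norm_num at hx5
  -- hypotheses of the Brauer–Leonard theorem
  obtain ⟨M, hM⟩ := Helper74.exists_isPModular 5 (by norm_num)
  have hab : IsMulCommutative P := by
    refine ⟨⟨fun a b => ?_⟩⟩
    haveI hcyc : IsCyclic (P : Subgroup G) := isCyclic_of_prime_card hP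
    let _ := hcyc.commGroup
    exact mul_comm a b
  have hP1 : Nat.card P ≠ 1 := by
    have : Nat.card P = 5 := hP
    rw [this]; norm_num
  have hCN : (centralizer ((P : Subgroup G) : Set G)).relIndex
      (normalizer ((P : Subgroup G) : Set G)) = 2 := by
    have := card_centralizer_mul_relIndex (P : Subgroup G)
    rw [hC, hN] at this
    omega
  have hfrob : ∀ y : G, y ∈ (P : Subgroup G) → y ≠ 1 →
      centralizer ({y} : Set G) ⊓ normalizer ((P : Subgroup G) : Set G) =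
        centralizer ((P : Subgroup G) : Set G) := by
    intro y hy hy1
    have hy5 : orderOf y = 5 := by
      have h1 : orderOf y ∣ 5 := by
        have := orderOf_dvd_natCard (⟨y, hy⟩ : (P : Subgroup G))
        rwa [hP, Subgroup.orderOf_mk] at this
      rcases (Nat.dvd_prime (by norm_num : Nat.Prime 5)).mp h1 with h | h
      · exact absurd (orderOf_eq_one_iff.mp h) hy1
      · exact h
    have hPy : (P : Subgroup G) = zpowers y := by
      symm
      apply Subgroup.eq_of_le_of_card_ge (zpowers_le.mpr hy)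
      rw [Nat.card_zpowers, hy5, hP]
    rw [centralizer_singleton_eq_of_zpowers hPy]
    exact inf_eq_left.mpr (Subgroup.centralizer_le_normalizer _)
  obtain ⟨X, Y, a, d, δ, ζ, D⟩ :=
    Helper66.BL.exists_BLData hM P hab hP1 2 (by
      have : Nat.card P = 5 := hP
      rw [this]; norm_num) hCN hfrob
  -- |Y| = 2
  have hY2 : Nat.card Y = 2 := by
    have := D.cardY
    have hP' : Nat.card P = 5 := hP
    rw [hP'] at this
    omega
  have hXfin : X.Finite := Set.toFinite X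
  have hnorm := D.norm
  rw [hY2, finsum_mem_eq_finite_toFinset_sum _ hXfin] at hnorm
  have h1X : Helper79.principalIrr G ∈ hXfin.toFinset :=
    (Set.Finite.mem_toFinset hXfin).mpr D.one_mem
  rw [← Finset.add_sum_erase _ _ h1X, D.a_one] at hnorm
  have hRnonneg : 0 ≤ ∑ χ ∈ hXfin.toFinset.erase (Helper79.principalIrr G), a χ ^ 2 :=
    Finset.sum_nonneg (fun j _ => sq_nonneg _)
  have hδ2 : δ * δ = 1 := by rcases D.sign with h | h <;> rw [h] <;> norm_num
  have hdd : 1 ≤ (d - δ) ^ 2 + d ^ 2 := by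
    rcases D.sign with h | h <;> rw [h]
    · rcases le_or_gt d 0 with hd | hd
      · nlinarith
      · nlinarith
    · rcases le_or_gt d (-1) with hd | hd
      · nlinarith
      · nlinarith
  have hR1 : ∑ χ ∈ hXfin.toFinset.erase (Helper79.principalIrr G), a χ ^ 2 = 1 := by
    have hle : ∑ χ ∈ hXfin.toFinset.erase (Helper79.principalIrr G), a χ ^ 2 ≤ 1 := by
      push_cast at hnorm
      nlinarith
    rcases (by omega : ∑ χ ∈ hXfin.toFinset.erase (Helper79.principalIrr G), a χ ^ 2 = 0 ∨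
        ∑ χ ∈ hXfin.toFinset.erase (Helper79.principalIrr G), a χ ^ 2 = 1) with h0 | h1
    · exfalso
      rw [h0] at hnorm
      push_cast at hnorm
      have h2 : 2 * (d * d) - 2 * δ * d = 2 - δ * δ := by linear_combination hnorm
      rw [hδ2] at h2
      rcases D.sign with h | h <;> rw [h] at h2
      · generalize d * d = q at h2
        omega
      · generalize d * d = q at h2
        omega
    · exact h1
  have hde : d * (d - δ) = 0 := by
    rw [hR1] at hnorm
    push_cast at hnorm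
    nlinarith
  obtain ⟨χ₁, hχ₁, haχ₁, hrest⟩ := Exc.sq_sum_one _ a hR1
  have hχ₁X : χ₁ ∈ X := (Set.Finite.mem_toFinset hXfin).mp (Finset.mem_of_mem_erase hχ₁)
  have hχ₁ne : χ₁ ≠ Helper79.principalIrr G := Finset.ne_of_mem_erase hχ₁
  have hXeq : X = {Helper79.principalIrr G, χ₁} := by
    ext ψ
    constructor
    · intro hψ
      by_cases h1 : ψ = Helper79.principalIrr G
      · left; exact h1
      · right
        by_contra h2
        have hmem : ψ ∈ hXfin.toFinset.erase (Helper79.principalIrr G) :=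
          Finset.mem_erase.mpr ⟨h1, (Set.Finite.mem_toFinset hXfin).mpr hψ⟩
        exact D.a_ne ψ hψ (hrest ψ hmem h2)
    · rintro (rfl | rfl)
      · exact D.one_mem
      · exact hχ₁X
  -- the sign e
  obtain ⟨e, hedef⟩ : ∃ e : ℤ, e = 2 * d - δ := ⟨_, rfl⟩
  have he : e = 1 ∨ e = -1 := by
    rcases mul_eq_zero.mp hde with h0 | h0
    · rw [hedef, h0]
      rcases D.sign with h | h <;> rw [h] <;> norm_num
    · have : d = δ := by linarith
      rw [hedef, this]
      rcases D.sign with h | h <;> rw [h] <;> norm_num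
  -- the two exceptional characters
  obtain ⟨η₁, η₂, hη12, hYeq⟩ : ∃ η₁ η₂ : IrrCharacter G, η₁ ≠ η₂ ∧ Y = {η₁, η₂} := by
    rw [Nat.card_coe_set_eq] at hY2
    exact Set.ncard_eq_two.mp hY2
  have hη₁Y : η₁ ∈ Y := by rw [hYeq]; simp
  have hη₂Y : η₂ ∈ Y := by rw [hYeq]; simp
  have hη₁X : η₁ ∉ X := fun hmem => (Set.disjoint_left.mp D.disj) hmem hη₁Y
  have hη₂X : η₂ ∉ X := fun hmem => (Set.disjoint_left.mp D.disj) hmem hη₂Y
  have hη₁1 : η₁ ≠ Helper79.principalIrr G := fun hh => hη₁X (hh ▸ D.one_mem)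
  have hη₂1 : η₂ ≠ Helper79.principalIrr G := fun hh => hη₂X (hh ▸ D.one_mem)
  have hη₁χ : η₁ ≠ χ₁ := fun hh => hη₁X (hh ▸ hχ₁X)
  have hη₂χ : η₂ ≠ χ₁ := fun hh => hη₂X (hh ▸ hχ₁X)
  -- sums over the principal block
  obtain ⟨B, hBdef⟩ : ∃ B : Finset (IrrCharacter G),
    B = {Helper79.principalIrr G, χ₁, η₁, η₂} := ⟨_, rfl⟩
  have hB₀ : principalBlock M G = (B : Set (IrrCharacter G)) := by
    rw [D.union, hXeq, hYeq, hBdef]
    ext ψ
    simp only [Set.mem_union, Set.mem_insert_iff, Set.mem_singleton_iff, Finset.coe_insert,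
      Finset.coe_singleton]
    rw [or_assoc]
  have hBsum : ∀ {β : Type} [AddCommMonoid β] (F : IrrCharacter G → β), ∑ χ ∈ B, F χ
      = F (Helper79.principalIrr G) + F χ₁ + F η₁ + F η₂ := by
    intro β _ F
    rw [hBdef, Finset.sum_insert, Finset.sum_insert, Finset.sum_pair hη12]
    · simp only [add_assoc]
    · simp only [Finset.mem_insert, Finset.mem_singleton, not_or]
      exact ⟨hη₁χ.symm, hη₂χ.symm⟩
    · simp only [Finset.mem_insert, Finset.mem_singleton, not_or]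
      exact ⟨hχ₁ne.symm, hη₁1.symm, hη₂1.symm⟩
  have hB₀sum : ∀ F : IrrCharacter G → ℂ, ∑ᶠ χ ∈ principalBlock M G, F χ
      = F (Helper79.principalIrr G) + F χ₁ + F η₁ + F η₂ := by
    intro F
    rw [hB₀, finsum_mem_coe_finset, hBsum]
  have hfull : ∀ F : IrrCharacter G → ℂ, ∑ χ, F χ
      = F (Helper79.principalIrr G) + F χ₁ + F η₁ + F η₂ + ∑ χ ∈ Finset.univ \ B, F χ := by
    intro F
    rw [← hBsum, add_comm, Finset.sum_sdiff (Finset.subset_univ B)]
  have hmemB : ∀ χ ∈ B, χ ∈ principalBlock M G := by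
    intro χ hχ
    rw [hB₀]; exact hχ
  have h1B : Helper79.principalIrr G ∈ principalBlock M G := by
    rw [D.union]; exact Or.inl D.one_mem
  have hχ₁B : χ₁ ∈ principalBlock M G := by rw [D.union]; exact Or.inl hχ₁X
  have hη₁B : η₁ ∈ principalBlock M G := by rw [D.union]; exact Or.inr hη₁Y
  have hη₂B : η₂ ∈ principalBlock M G := by rw [D.union]; exact Or.inr hη₂Y
  -- values
  have hprinc : ∀ g : G, ((Helper79.principalIrr G : IrrCharacter G) : G → ℂ) g = 1 :=
    fun _ => rfl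
  have hpp_x : IsPPart 5 x x := Helper66.BL.isPPart_self P hxP
  have hpp_xu : IsPPart 5 (x * u) x :=
    ⟨u, rfl, hcomm, ⟨1, by rw [hx5]; norm_num⟩, by rw [hu2]; norm_num⟩
  have hval_xu : ∀ χ ∈ principalBlock M G, (χ : G → ℂ) (x * u) = (χ : G → ℂ) x :=
    fun χ hχ => Helper66.BL.principal_apply_of_isPPart hM P hab hfrob hxP hx1 hpp_xu χ hχ
  have hχ₁x : (χ₁ : G → ℂ) x = (a χ₁ : ℂ) := D.valX χ₁ hχ₁X x x hpp_x hxP hx1
  have hreg : ∀ η ∈ Y, ∀ g : G, ¬ 5 ∣ orderOf g →
      (e : ℂ) * (η : G → ℂ) g + 1 + (a χ₁ : ℂ) * (χ₁ : G → ℂ) g = 0 := by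
    intro η hη g hg
    have := D.reg_rel η hη g hg
    rw [hY2, hXeq, finsum_mem_pair hχ₁ne.symm, D.a_one, hprinc] at this
    rw [hedef]
    push_cast at this ⊢
    linear_combination this
  have hreg1 : ¬ 5 ∣ orderOf (1 : G) := by rw [orderOf_one]; norm_num
  have hregu : ¬ 5 ∣ orderOf u := by rw [hu2]; norm_num
  have he2 : (e : ℂ) * e = 1 := by
    rcases he with h | h <;> rw [h] <;> norm_num
  have he2' : e * e = 1 := by rcases he with h | h <;> rw [h] <;> norm_num
  have ha2 : a χ₁ * a χ₁ = 1 := by rcases haχ₁ with h | h <;> rw [h] <;> norm_num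
  -- degrees
  obtain ⟨d₁, hd₁def⟩ : ∃ d₁ : ℕ, d₁ = charDegree (χ₁ : G → ℂ) := ⟨_, rfl⟩
  have hχ₁one : (χ₁ : G → ℂ) 1 = (d₁ : ℂ) := by
    rw [hd₁def]; exact Helper78.irrChar_one_eq_charDegree χ₁.2
  obtain ⟨Dη, hDηdef⟩ : ∃ Dη : ℕ, Dη = charDegree (η₁ : G → ℂ) := ⟨_, rfl⟩
  have hη₁one : (η₁ : G → ℂ) 1 = (Dη : ℂ) := by
    rw [hDηdef]; exact Helper78.irrChar_one_eq_charDegree η₁.2
  have hη₂one : (η₂ : G → ℂ) 1 = (Dη : ℂ) := by
    rw [D.reg_eq η₂ hη₂Y η₁ hη₁Y 1 hreg1]; exact hη₁one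
  have hη₂deg : charDegree (η₂ : G → ℂ) = Dη := by
    have := Helper78.irrChar_one_eq_charDegree η₂.2
    rw [hη₂one] at this
    exact_mod_cast this.symm
  have hperf : commutator G = ⊤ := Exc.commutator_eq_top_of_simple (by rw [h]; norm_num)
  have hd₁gt : 1 < d₁ := by
    rw [hd₁def]; exact Exc.one_lt_charDegree_of_perfect hperf χ₁ hχ₁ne
  have hd₁dvd : d₁ ∣ 4320 := by
    rw [hd₁def, ← h]; exact Helper80.IsIrrCharacter.charDegree_dvd_card χ₁.2
  have hDηdvd : Dη ∣ 4320 := by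
    rw [hDηdef, ← h]; exact Helper80.IsIrrCharacter.charDegree_dvd_card η₁.2
  have hsq : 1 + d₁ ^ 2 + 2 * Dη ^ 2 ≤ 4320 := by
    have hs := Helper79.sum_charDegree_sq (G := G)
    rw [h] at hs
    have hsub : ∑ χ ∈ B, charDegree (χ : G → ℂ) ^ 2
        ≤ ∑ χ : IrrCharacter G, charDegree (χ : G → ℂ) ^ 2 :=
      Finset.sum_le_sum_of_subset (Finset.subset_univ B)
    rw [hBsum, hs, Exc.charDegree_principal, ← hd₁def, ← hDηdef, hη₂deg] at hsub
    omega
  have hDrel : (Dη : ℤ) = -e * (1 + a χ₁ * d₁) := by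
    have h1 := hreg η₁ hη₁Y 1 hreg1
    rw [hη₁one, hχ₁one] at h1
    have h2 : (e : ℤ) * Dη + 1 + a χ₁ * d₁ = 0 := by exact_mod_cast h1
    linear_combination e * h2 - (Dη : ℤ) * he2'
  -- the value at the involution
  obtain ⟨n, k, hn1, hkn, hnu⟩ := involution_values (Helper74.irr_isCharacter χ₁) u hu2
  have hnd : n = d₁ := by
    rw [hχ₁one] at hn1
    exact_mod_cast hn1.symm
  rw [hnd] at hkn hnu
  obtain ⟨c, hcdef⟩ : ∃ c : ℤ, c = (d₁ : ℤ) - 2 * k := ⟨_, rfl⟩
  have hχ₁u : (χ₁ : G → ℂ) u = (c : ℂ) := by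
    rw [hnu, hcdef]; push_cast; ring
  have hu1 : u ≠ 1 := by
    intro h1
    rw [h1, orderOf_one] at hu2
    norm_num at hu2
  have hk0 : k ≠ 0 := by
    intro hk
    apply ne_degree_of_simple χ₁ hχ₁ne hu1
    rw [hnu, hk, hχ₁one]; simp
  have hpar : (c - d₁) % 2 = 0 := by rw [hcdef]; omega
  have hlo : -(d₁ : ℤ) ≤ c := by rw [hcdef]; omega
  have hhi : c < d₁ := by rw [hcdef]; omega
  -- the congruence mod 5
  have hmod : (d₁ : ℤ) ≡ a χ₁ [ZMOD 5] := by
    let _ : Fintype (P : Subgroup G) := Fintype.ofFinite _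
    have hnt : Nontrivial (P : Subgroup G) :=
      ⟨⟨⟨x, hxP⟩, 1, fun h => hx1 (congrArg Subtype.val h)⟩⟩
    have hA : IsCharacter (P : Subgroup G) (fun y : (P : Subgroup G) => (χ₁ : G → ℂ) (y : G)) :=
      Helper74.isCharacter_restrict (P : Subgroup G) (Helper74.irr_isCharacter χ₁)
    obtain ⟨t, a', b, hTt, ha', _, hcong⟩ := Exc.const_congr hnt hA
      (Helper74.isCharacter_zero (G := (P : Subgroup G))) 0 (T := (a χ₁ : ℂ)) (by
        intro y hy
        have hy1 : (y : G) ≠ 1 := fun h => hy (Subtype.ext h)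
        simp only [Int.cast_zero, zero_mul, sub_zero]
        exact D.valX χ₁ hχ₁X y y (Helper66.BL.isPPart_self P y.2) y.2 hy1)
    have ht : a χ₁ = t := by exact_mod_cast hTt
    have ha'' : a' = d₁ := by
      have h1 : (χ₁ : G → ℂ) 1 = a' := ha'
      rw [hχ₁one] at h1
      exact_mod_cast h1.symm
    rw [hP, ha'', ← ht] at hcong
    simpa using hcong
  -- values of the exceptional characters
  obtain ⟨U, hUdef⟩ : ∃ U : ℂ, U = (η₁ : G → ℂ) u := ⟨_, rfl⟩
  have hη₂u : (η₂ : G → ℂ) u = U := by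
    rw [hUdef]; exact D.reg_eq η₂ hη₂Y η₁ hη₁Y u hregu
  have hUrel : (e : ℂ) * U + 1 + (a χ₁ : ℂ) * c = 0 := by
    have := hreg η₁ hη₁Y u hregu
    rw [← hUdef, hχ₁u] at this
    exact this
  have hDrelC : (e : ℂ) * Dη + 1 + (a χ₁ : ℂ) * d₁ = 0 := by
    have := hreg η₁ hη₁Y 1 hreg1
    rw [hη₁one, hχ₁one] at this
    exact this
  obtain ⟨y₁, hy₁def⟩ : ∃ y₁ : ℂ, y₁ = conj ((η₁ : G → ℂ) x) := ⟨_, rfl⟩
  obtain ⟨y₂, hy₂def⟩ : ∃ y₂ : ℂ, y₂ = conj ((η₂ : G → ℂ) x) := ⟨_, rfl⟩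
  have hcr := Helper66.BL.column_regular P hM hab hfrob hreg1 hxP hx1
  rw [hB₀sum, hprinc, hprinc, hχ₁one, hχ₁x, hη₁one, hη₂one, ← hy₁def, ← hy₂def] at hcr
  simp only [map_one, map_intCast] at hcr
  have hDη0 : (Dη : ℂ) ≠ 0 := by
    intro h0
    have h0' : (Dη : ℤ) = 0 := by exact_mod_cast h0
    rw [hDrel] at h0'
    have hd1' : (1 : ℤ) < d₁ := by exact_mod_cast hd₁gt
    rcases he with h | h <;> rcases haχ₁ with h' | h' <;> rw [h, h'] at h0' <;> omega
  have hd₁0 : (d₁ : ℂ) ≠ 0 := by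
    have : d₁ ≠ 0 := by omega
    exact_mod_cast this
  have hS : y₁ + y₂ = (e : ℂ) := by
    have h1 : (Dη : ℂ) * (y₁ + y₂ - e) = 0 := by
      linear_combination hcr - hDrelC
    rcases mul_eq_zero.mp h1 with h2 | h2
    · exact absurd h2 hDη0
    · linear_combination h2
  -- second orthogonality
  have hnc : ¬ IsConj x (x * u) := by
    intro hc
    obtain ⟨g, hg⟩ := isConj_iff.mp hc
    have := orderOf_conj' g x
    rw [hg, hxu10, hx5] at this
    norm_num at this
  have hso1 := Helper74.second_orthogonality (G := G) x x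
  rw [if_pos (IsConj.refl x), hCx, hC] at hso1
  have hso2 := Helper74.second_orthogonality (G := G) (x * u) (x * u)
  rw [if_pos (IsConj.refl _), hCxu, hC] at hso2
  have hso3 := Helper74.second_orthogonality (G := G) x (x * u)
  rw [if_neg hnc] at hso3
  have hso4 := Helper74.second_orthogonality (G := G) (x * u) x
  rw [if_neg (fun h => hnc h.symm)] at hso4
  have hsum20 : ∑ χ : IrrCharacter G, ((χ : G → ℂ) x + (χ : G → ℂ) (x * u))
      * conj ((χ : G → ℂ) x + (χ : G → ℂ) (x * u)) = 20 := by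
    have hexp : ∀ χ : IrrCharacter G, ((χ : G → ℂ) x + (χ : G → ℂ) (x * u))
        * conj ((χ : G → ℂ) x + (χ : G → ℂ) (x * u))
        = (χ : G → ℂ) x * conj ((χ : G → ℂ) x) + (χ : G → ℂ) x * conj ((χ : G → ℂ) (x * u))
          + (χ : G → ℂ) (x * u) * conj ((χ : G → ℂ) x)
          + (χ : G → ℂ) (x * u) * conj ((χ : G → ℂ) (x * u)) := by
      intro χ
      rw [map_add]; ring
    rw [Finset.sum_congr rfl (fun χ _ => hexp χ), Finset.sum_add_distrib, Finset.sum_add_distrib,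
      Finset.sum_add_distrib, hso1, hso2, hso3, hso4]
    norm_num
  have hgram := Helper66.BL.column_gram P hM hab hfrob hxP hx1 hxP hx1
  rw [if_pos ⟨1, Subgroup.one_mem _, by group⟩, hB₀sum] at hgram
  have hP' : (Nat.card P : ℂ) = 5 := by
    have : Nat.card P = 5 := hP
    rw [this]; norm_num
  rw [hP'] at hgram
  have hrest0 : ∑ χ ∈ Finset.univ \ B, ((χ : G → ℂ) x + (χ : G → ℂ) (x * u))
      * conj ((χ : G → ℂ) x + (χ : G → ℂ) (x * u)) = 0 := by
    rw [hfull, hval_xu _ h1B, hval_xu _ hχ₁B, hval_xu _ hη₁B, hval_xu _ hη₂B] at hsum20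
    simp only [map_add] at hsum20 hgram ⊢
    linear_combination hsum20 - 4 * hgram
  have hvanish : ∀ χ ∈ Finset.univ \ B, (χ : G → ℂ) x + (χ : G → ℂ) (x * u) = 0 := by
    have h0 : ∑ χ ∈ Finset.univ \ B,
        Complex.normSq ((χ : G → ℂ) x + (χ : G → ℂ) (x * u)) = 0 := by
      have h1 := hrest0
      simp only [Complex.mul_conj] at h1
      exact_mod_cast h1
    intro χ hχ
    have := (Finset.sum_eq_zero_iff_of_nonneg (fun _ _ => Complex.normSq_nonneg _)).mp h0 χ hχ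
    exact Complex.normSq_eq_zero.mp this
  -- class multiplication
  obtain ⟨N₁, hN₁def⟩ : ∃ N₁ : ℕ,
    N₁ = Nat.card {p : G × G // IsConj u p.1 ∧ IsConj u p.2 ∧ p.1 * p.2 = x} := ⟨_, rfl⟩
  obtain ⟨N₂, hN₂def⟩ : ∃ N₂ : ℕ,
    N₂ = Nat.card {p : G × G // IsConj u p.1 ∧ IsConj u p.2 ∧ p.1 * p.2 = x * u} := ⟨_, rfl⟩
  obtain ⟨cl, hcldef⟩ : ∃ cl : ℕ, cl = Nat.card {y : G // IsConj u y} := ⟨_, rfl⟩
  have hm1 := Cfsg.Agent.S0840.result u u x
  have hm2 := Cfsg.Agent.S0840.result u u (x * u)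
  rw [← hN₁def, ← hcldef, finsum_eq_sum_of_fintype, hfull] at hm1
  rw [← hN₂def, ← hcldef, finsum_eq_sum_of_fintype, hfull] at hm2
  have hrestsum : ∑ χ ∈ Finset.univ \ B, (χ : G → ℂ) u * (χ : G → ℂ) u * conj ((χ : G → ℂ) x)
        / (χ : G → ℂ) 1
      + ∑ χ ∈ Finset.univ \ B, (χ : G → ℂ) u * (χ : G → ℂ) u * conj ((χ : G → ℂ) (x * u))
        / (χ : G → ℂ) 1 = 0 := by
    rw [← Finset.sum_add_distrib]
    apply Finset.sum_eq_zero
    intro χ hχ
    have h0 := hvanish χ hχ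
    have h1 : conj ((χ : G → ℂ) x) + conj ((χ : G → ℂ) (x * u)) = 0 := by
      rw [← map_add, h0, map_zero]
    have : (χ : G → ℂ) u * (χ : G → ℂ) u * conj ((χ : G → ℂ) x) / (χ : G → ℂ) 1
        + (χ : G → ℂ) u * (χ : G → ℂ) u * conj ((χ : G → ℂ) (x * u)) / (χ : G → ℂ) 1
        = (χ : G → ℂ) u * (χ : G → ℂ) u
          * (conj ((χ : G → ℂ) x) + conj ((χ : G → ℂ) (x * u))) / (χ : G → ℂ) 1 := by ring
    rw [this, h1, mul_zero, zero_div]
  rw [hval_xu _ h1B, hval_xu _ hχ₁B, hval_xu _ hη₁B, hval_xu _ hη₂B] at hm2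
  rw [hprinc, hprinc, hprinc, hχ₁u, hχ₁x, hχ₁one, ← hUdef, hη₂u, hη₁one, hη₂one, ← hy₁def,
    ← hy₂def] at hm1 hm2
  simp only [map_one, map_intCast] at hm1 hm2
  have hG0 : (Nat.card G : ℂ) ≠ 0 := by
    have : Nat.card G ≠ 0 := Nat.card_pos.ne'
    exact_mod_cast this
  have hUval : U = -(e : ℂ) * (1 + (a χ₁ : ℂ) * c) := by
    linear_combination (e : ℂ) * hUrel - U * he2
  have hDval : (Dη : ℂ) = -(e : ℂ) * (1 + (a χ₁ : ℂ) * d₁) := by
    linear_combination (e : ℂ) * hDrelC - (Dη : ℂ) * he2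
  have ha2C : (a χ₁ : ℂ) * (a χ₁ : ℂ) = 1 := by exact_mod_cast ha2
  obtain ⟨R1, hR1def⟩ : ∃ R1 : ℂ, R1 = ∑ χ ∈ Finset.univ \ B,
    (χ : G → ℂ) u * (χ : G → ℂ) u * conj ((χ : G → ℂ) x) / (χ : G → ℂ) 1 := ⟨_, rfl⟩
  obtain ⟨R2, hR2def⟩ : ∃ R2 : ℂ, R2 = ∑ χ ∈ Finset.univ \ B,
    (χ : G → ℂ) u * (χ : G → ℂ) u * conj ((χ : G → ℂ) (x * u)) / (χ : G → ℂ) 1 := ⟨_, rfl⟩
  rw [← hR1def] at hm1 hrestsum
  rw [← hR2def] at hm2 hrestsum
  have hA0 : (1 + (a χ₁ : ℂ) * d₁) ≠ 0 := by
    intro h0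
    apply hDη0
    rw [hDval, h0, mul_zero]
  have hkey : ((N₁ + N₂ : ℕ) : ℂ) * (Nat.card G : ℂ) * d₁ * (1 + (a χ₁ : ℂ) * d₁)
      = (cl : ℂ) * cl * 2 * (a χ₁ : ℂ) * ((d₁ : ℂ) - c) ^ 2 := by
    have hR2 : R2 = -R1 := by linear_combination hrestsum
    have hy₂ : y₂ = (e : ℂ) - y₁ := by linear_combination hS
    have hNsum : ((N₁ + N₂ : ℕ) : ℂ) * (Nat.card G : ℂ)
        = (cl : ℂ) * cl * (2 * (1 + (c : ℂ) * c * (a χ₁ : ℂ) / d₁ + U * U * (e : ℂ) / Dη)) := by
      push_cast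
      rw [hm1, hm2, hR2, hy₂]
      field_simp
      ring
    have hterm : U * U * (e : ℂ) / Dη
        = -((1 + (a χ₁ : ℂ) * c) ^ 2) / (1 + (a χ₁ : ℂ) * d₁) := by
      rw [div_eq_div_iff hDη0 hA0, hUval, hDval]
      linear_combination ((e : ℂ) * (1 + (a χ₁ : ℂ) * c) ^ 2 * (1 + (a χ₁ : ℂ) * d₁)) * he2
    calc ((N₁ + N₂ : ℕ) : ℂ) * (Nat.card G : ℂ) * d₁ * (1 + (a χ₁ : ℂ) * d₁)
        = ((cl : ℂ) * cl * (2 * (1 + (c : ℂ) * c * (a χ₁ : ℂ) / d₁ + U * U * (e : ℂ) / Dη)))
          * d₁ * (1 + (a χ₁ : ℂ) * d₁) := by rw [← hNsum]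
      _ = (cl : ℂ) * cl * 2 * (a χ₁ : ℂ) * ((d₁ : ℂ) - c) ^ 2 := by
        rw [hterm]
        field_simp
        ring
  have hkeyZ : ((N₁ + N₂ : ℕ) : ℤ) * 4320 * d₁ * (1 + a χ₁ * d₁)
      = (cl : ℤ) * cl * 2 * a χ₁ * ((d₁ : ℤ) - c) ^ 2 := by
    rw [h] at hkey
    exact_mod_cast hkey
  -- the class size
  have hclC : cl * Nat.card (centralizer ({u} : Set G)) = 4320 := by
    have h1 := Helper74.card_isConj_mul_card_centralizer u
    have h2 : Nat.card {y : G // IsConj y u} = cl := by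
      rw [hcldef]
      exact Nat.card_congr (Equiv.subtypeEquivRight (fun y => isConj_comm))
    rw [h2, h] at h1
    exact h1
  have hCu : 10 ∣ Nat.card (centralizer ({u} : Set G)) := by
    rw [← hC]
    apply Subgroup.card_dvd_of_le
    rw [hCz]
    intro z hz
    obtain ⟨j, rfl⟩ := Subgroup.mem_zpowers_iff.mp hz
    rw [Subgroup.mem_centralizer_singleton_iff]
    have h1 : Commute (x * u) u := (hcomm.mul_left (Commute.refl u))
    exact ((h1.zpow_left j).eq)
  obtain ⟨kc, hkc⟩ := hCu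
  rw [hkc] at hclC
  -- the counting bound
  have hx2P : x ^ 2 ∈ (P : Subgroup G) := Subgroup.pow_mem _ hxP 2
  have hx21 : x ^ 2 ≠ 1 := by
    intro h1
    have := orderOf_dvd_of_pow_eq_one h1
    rw [hx5] at this
    norm_num at this
  have hxu2 : (x * u) ^ 2 = x ^ 2 := by
    rw [hcomm.mul_pow]
    have := pow_orderOf_eq_one u
    rw [hu2] at this
    rw [this, mul_one]
  have hN₁ : N₁ ≤ 10 := by
    rw [hN₁def]
    exact count_bound P hP hN hC u x hu2 hx2P hx21
  have hN₂ : N₂ ≤ 10 := by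
    rw [hN₂def]
    exact count_bound P hP hN hC u (x * u) hu2 (by rw [hxu2]; exact hx2P) (by rw [hxu2]; exact hx21)
  -- conclude
  apply caseB_arith d₁ Dη (N₁ + N₂) kc (a χ₁) e c haχ₁ he hDrel hd₁dvd hDηdvd hd₁gt hsq hmod hpar
    hlo hhi (by omega)
  have hclZ : (cl : ℤ) * (10 * kc) = 4320 := by exact_mod_cast hclC
  have h4320 : (4320 : ℤ) * (((N₁ + N₂ : ℕ) : ℤ) * (10 * kc) ^ 2 * d₁ * (1 + a χ₁ * d₁))
      = 4320 * (2 * 4320 * a χ₁ * ((d₁ : ℤ) - c) ^ 2) := by
    linear_combination ((10 * (kc : ℤ)) ^ 2) * hkeyZ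
      + (2 * a χ₁ * ((d₁ : ℤ) - c) ^ 2) * ((cl : ℤ) * (10 * kc) + 4320) * hclZ
  exact mul_left_cancel₀ (by norm_num) h4320

end Main

end Cfsg.Agent.Helper17.G4320
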