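import Mathlib
import Cfsg.Agent.Helper17.DihedralCount

set_option autoImplicit false

namespace Cfsg.Agent.Helper17

open Subgroup

variable {G : Type*} [Group G]

/-- An involution normalizing a self-centralizing subgroup `K` of odd prime order inverts it. -/
theorem inverts_of_involution [Finite G] (K : Subgroup G) {p : ℕ} [hp : Fact p.Prime]
    (hK : Nat.card K = p) (hp2 : p ≠ 2)
    (hC : ∀ k ∈ K, k ≠ 1 → centralizer ({k} : Set G) ≤ K) {t : G}
    (htN : t ∈ normalizer (K : Set G)) (ht : orderOf t = 2) :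
    ∀ k ∈ K, t * k * t⁻¹ = k⁻¹ := by
  have htt : t * t = 1 := by
    have := pow_orderOf_eq_one t
    rwa [ht, pow_two] at this
  have htK : t ∉ K := by
    have := conj_not_mem_of_orderOf_two hp.out hK hp2 ht 1
    simpa using this
  have hKnt : Nontrivial K := by
    rw [← Finite.one_lt_card_iff_nontrivial, hK]
    exact hp.out.one_lt
  obtain ⟨⟨u, huK⟩, hu1'⟩ := exists_ne (1 : K)
  have hu1 : u ≠ 1 := fun h => hu1' (Subtype.ext h)
  have huo : orderOf u = p := by
    have h1 : orderOf u ∣ p := by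
      have := orderOf_dvd_natCard (⟨u, huK⟩ : K)
      rwa [hK, Subgroup.orderOf_mk] at this
    rcases (Nat.dvd_prime hp.out).mp h1 with h2 | h2
    · exact absurd (orderOf_eq_one_iff.mp h2) hu1
    · exact h2
  have hKz : K = zpowers u := by
    symm
    apply Subgroup.eq_of_le_of_card_ge (zpowers_le.mpr huK)
    rw [Nat.card_zpowers, huo, hK]
  have htu : t * u * t⁻¹ = u⁻¹ := by
    have hmem : t * u * t⁻¹ ∈ zpowers u := by
      rw [← hKz]
      exact (Subgroup.mem_normalizer_iff.mp htN u).mp huK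
    rcases conj_eq_or_inv_of_involution huo htt hmem with h | h
    · exfalso
      apply htK
      apply hC u huK hu1
      rw [Subgroup.mem_centralizer_singleton_iff]
      calc t * u = t * u * t⁻¹ * t := by group
        _ = u * t := by rw [h]
    · exact h
  intro k hk
  rw [hKz] at hk
  obtain ⟨i, rfl⟩ := Subgroup.mem_zpowers_iff.mp hk
  rw [← conj_zpow, htu, inv_zpow]

/-- Every element of the coset `K t` is conjugate to `t`. -/
theorem isConj_of_mul_mem [Finite G] (K : Subgroup G) {p : ℕ} [hp : Fact p.Prime]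
    (hK : Nat.card K = p) (hp2 : p ≠ 2)
    (hC : ∀ k ∈ K, k ≠ 1 → centralizer ({k} : Set G) ≤ K) {t : G}
    (htN : t ∈ normalizer (K : Set G)) (ht : orderOf t = 2) (x : G) (hxt : x * t ∈ K) :
    IsConj t x := by
  have hpodd : Odd p := hp.out.odd_of_ne_two hp2
  have htt : t * t = 1 := by
    have := pow_orderOf_eq_one t
    rwa [ht, pow_two] at this
  have hinvK := inverts_of_involution K hK hp2 hC htN ht
  set k := x * t with hk
  have hxk : x = k * t := by
    rw [hk, mul_assoc, htt, mul_one]
  obtain ⟨m, hm⟩ := hpodd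
  have hkp : k ^ p = 1 := by
    have := pow_card_eq_one' (G := K) (x := ⟨k, hxt⟩)
    rw [hK] at this
    exact congrArg Subtype.val this
  have hk1 : (k ^ (m + 1)) * (k ^ (m + 1)) = k := by
    rw [← pow_add]
    have : m + 1 + (m + 1) = p + 1 := by omega
    rw [this, pow_succ, hkp, one_mul]
  have hk1K : k ^ (m + 1) ∈ K := K.pow_mem hxt _
  rw [isConj_iff]
  refine ⟨k ^ (m + 1), ?_⟩
  have h1 := hinvK _ (K.inv_mem hk1K)
  rw [inv_inv] at h1
  calc k ^ (m + 1) * t * (k ^ (m + 1))⁻¹
      = k ^ (m + 1) * (t * (k ^ (m + 1))⁻¹ * t⁻¹) * t := by group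
    _ = k ^ (m + 1) * k ^ (m + 1) * t := by rw [h1]
    _ = x := by rw [hk1, ← hxk]

/-- The general involution count: if `|K| = p` is an odd prime, `K` contains the centralizers
of its non-identity elements and `t ∈ N(K)` is an involution, then each `u ∈ K \ {1}` is a product
of two conjugates of `t` in exactly `p` ways. -/
theorem card_involution_pairs_gen [Finite G] (K : Subgroup G) {p : ℕ} [hp : Fact p.Prime]
    (hK : Nat.card K = p) (hp2 : p ≠ 2)
    (hC : ∀ k ∈ K, k ≠ 1 → centralizer ({k} : Set G) ≤ K) {t u : G}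
    (htN : t ∈ normalizer (K : Set G)) (ht : orderOf t = 2) (huK : u ∈ K) (hu1 : u ≠ 1) :
    Nat.card {q : G × G // IsConj t q.1 ∧ IsConj t q.2 ∧ q.1 * q.2 = u} = p := by
  have hpodd : Odd p := hp.out.odd_of_ne_two hp2
  have htt : t * t = 1 := by
    have := pow_orderOf_eq_one t
    rwa [ht, pow_two] at this
  have htinv : t⁻¹ = t := inv_eq_of_mul_eq_one_left htt
  have htK : t ∉ K := by
    have := conj_not_mem_of_orderOf_two hp.out hK hp2 ht 1
    simpa using this
  have huo : orderOf u = p := by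
    have h1 : orderOf u ∣ p := by
      have := orderOf_dvd_natCard (⟨u, huK⟩ : K)
      rwa [hK, Subgroup.orderOf_mk] at this
    rcases (Nat.dvd_prime hp.out).mp h1 with h2 | h2
    · exact absurd (orderOf_eq_one_iff.mp h2) hu1
    · exact h2
  have hKz : K = zpowers u := by
    symm
    apply Subgroup.eq_of_le_of_card_ge (zpowers_le.mpr huK)
    rw [Nat.card_zpowers, huo, hK]
  -- t inverts every element of K
  have htu : t * u * t⁻¹ = u⁻¹ := by
    have hmem : t * u * t⁻¹ ∈ zpowers u := by
      rw [← hKz]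
      exact (Subgroup.mem_normalizer_iff.mp htN u).mp huK
    rcases conj_eq_or_inv_of_involution huo htt hmem with h | h
    · exfalso
      apply htK
      apply hC u huK hu1
      rw [Subgroup.mem_centralizer_singleton_iff]
      calc t * u = t * u * t⁻¹ * t := by group
        _ = u * t := by rw [h]
    · exact h
  have hinvK : ∀ k ∈ K, t * k * t⁻¹ = k⁻¹ := by
    intro k hk
    rw [hKz] at hk
    obtain ⟨i, rfl⟩ := Subgroup.mem_zpowers_iff.mp hk
    rw [← conj_zpow, htu, inv_zpow]
  -- every element of K t is conjugate to t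
  have hconj : ∀ x : G, x * t ∈ K → IsConj t x := by
    intro x hxt
    set k := x * t with hk
    have hxk : x = k * t := by
      rw [hk, mul_assoc, htt, mul_one]
    obtain ⟨m, hm⟩ := hpodd
    have hkp : k ^ p = 1 := by
      have := pow_card_eq_one' (G := K) (x := ⟨k, hxt⟩)
      rw [hK] at this
      exact congrArg Subtype.val this
    have hk1 : (k ^ (m + 1)) * (k ^ (m + 1)) = k := by
      rw [← pow_add]
      have : m + 1 + (m + 1) = p + 1 := by omega
      rw [this, pow_succ, hkp, one_mul]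
    have hk1K : k ^ (m + 1) ∈ K := K.pow_mem hxt _
    rw [isConj_iff]
    refine ⟨k ^ (m + 1), ?_⟩
    have h1 := hinvK _ (K.inv_mem hk1K)
    rw [inv_inv] at h1
    calc k ^ (m + 1) * t * (k ^ (m + 1))⁻¹
        = k ^ (m + 1) * (t * (k ^ (m + 1))⁻¹ * t⁻¹) * t := by group
      _ = k ^ (m + 1) * k ^ (m + 1) * t := by rw [h1]
      _ = x := by rw [hk1, ← hxk]
  have hcardKt : Nat.card {x : G // x * t ∈ K} = p := by
    rw [← hK]
    apply Nat.card_congr
    exact
      { toFun := fun x => ⟨x.1 * t, x.2⟩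
        invFun := fun k => ⟨k.1 * t⁻¹, by
          have : k.1 * t⁻¹ * t = k.1 := by group
          rw [this]; exact k.2⟩
        left_inv := by
          rintro ⟨x, hx⟩
          apply Subtype.ext
          show x * t * t⁻¹ = x
          group
        right_inv := by
          rintro ⟨k, hk⟩
          apply Subtype.ext
          show k * t⁻¹ * t = k
          group }
  rw [← hcardKt]
  apply Nat.card_congr
  refine
    { toFun := fun q => ⟨q.1.1, ?_⟩
      invFun := fun x => ⟨(x.1, x.1⁻¹ * u), ?_⟩
      left_inv := ?_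
      right_inv := ?_ }
  · obtain ⟨⟨x, y⟩, hx, hy, hxy⟩ := q
    simp only at hx hy hxy ⊢
    have hord : ∀ z : G, IsConj t z → z * z = 1 := by
      intro z hz
      obtain ⟨c, hc⟩ := isConj_iff.mp hz
      rw [← hc]
      calc c * t * c⁻¹ * (c * t * c⁻¹) = c * (t * t) * c⁻¹ := by group
        _ = 1 := by rw [htt]; group
    have hxx := hord x hx
    have hyy := hord y hy
    have hxinv : x⁻¹ = x := inv_eq_of_mul_eq_one_left hxx
    have hyinv : y⁻¹ = y := inv_eq_of_mul_eq_one_left hyy
    have hxu : x * u * x⁻¹ = u⁻¹ := by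
      rw [← hxy, mul_inv_rev, hxinv, hyinv]
      calc x * (x * y) * x = (x * x) * y * x := by group
        _ = y * x := by rw [hxx, one_mul]
    apply hC u huK hu1
    rw [Subgroup.mem_centralizer_singleton_iff]
    have h1 : x * t * u * (x * t)⁻¹ = u := by
      calc x * t * u * (x * t)⁻¹ = x * (t * u * t⁻¹) * x⁻¹ := by group
        _ = x * u⁻¹ * x⁻¹ := by rw [htu]
        _ = (x * u * x⁻¹)⁻¹ := by group
        _ = u := by rw [hxu, inv_inv]
    calc x * t * u = x * t * u * (x * t)⁻¹ * (x * t) := by group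
      _ = u * (x * t) := by rw [h1]
  · obtain ⟨x, hxt⟩ := x
    simp only
    refine ⟨hconj x hxt, hconj _ ?_, by group⟩
    -- x⁻¹ * u * t ∈ K
    have hk := hinvK _ (K.mul_mem (K.inv_mem hxt) huK)
    have : x⁻¹ * u * t = ((x * t)⁻¹ * u)⁻¹ := by
      rw [← hk, mul_inv_rev, htinv]
      calc x⁻¹ * u * t = (t * t) * x⁻¹ * u * t := by rw [htt, one_mul]
        _ = t * (t * x⁻¹ * u) * t := by group
    rw [this]
    exact K.inv_mem (K.mul_mem (K.inv_mem hxt) huK)
  · rintro ⟨⟨x, y⟩, hx, hy, hxy⟩
    apply Subtype.ext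
    simp only
    rw [← hxy]
    congr 1
    group
  · rintro ⟨x, hxt⟩
    rfl

end Cfsg.Agent.Helper17
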