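import Mathlib
import Cfsg.Agent.Helper17.G4320c
import Cfsg.Agent.Helper17.InvolPairs
import Cfsg.Agent.Helper74.LinTwist

set_option autoImplicit false
set_option linter.style.haveILetI false

namespace Cfsg.Agent.Helper17.G4320

open Cfsg
open scoped ComplexConjugate

universe u

section Comb2

variable {ι : Type*} [DecidableEq ι]

theorem sq_sum_three (s : Finset ι) (a : ι → ℤ) (h : ∑ i ∈ s, a i ^ 2 = 3) :
    ∃ i ∈ s, ∃ j ∈ s, ∃ k ∈ s, i ≠ j ∧ i ≠ k ∧ j ≠ k ∧ (a i = 1 ∨ a i = -1) ∧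
      (a j = 1 ∨ a j = -1) ∧ (a k = 1 ∨ a k = -1) ∧
      ∀ l ∈ s, l ≠ i → l ≠ j → l ≠ k → a l = 0 := by
  have hex : ∃ i ∈ s, a i ≠ 0 := by
    by_contra hcon
    push Not at hcon
    rw [Finset.sum_eq_zero (fun i hi => by rw [hcon i hi]; ring)] at h
    norm_num at h
  obtain ⟨i, hi, hai⟩ := hex
  have hsplit := Finset.add_sum_erase s (fun i => a i ^ 2) hi
  rw [h] at hsplit
  have hnn : 0 ≤ ∑ j ∈ s.erase i, a j ^ 2 := Finset.sum_nonneg (fun j _ => sq_nonneg _)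
  have h1 : 1 ≤ a i ^ 2 := by
    have : 0 < a i ^ 2 := by positivity
    omega
  have h2 : a i ^ 2 = 1 := by
    have hle : a i ^ 2 ≤ 3 := by omega
    have hu : a i ≤ 1 := by nlinarith
    have hl : -1 ≤ a i := by nlinarith
    interval_cases (a i) <;> simp_all
  have h3 : ∑ j ∈ s.erase i, a j ^ 2 = 2 := by omega
  obtain ⟨j, hj, k, hk, hjk, haj, hak, hrest⟩ := Exc.sq_sum_two (s.erase i) a h3
  refine ⟨i, hi, j, Finset.mem_of_mem_erase hj, k, Finset.mem_of_mem_erase hk,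
    (Finset.ne_of_mem_erase hj).symm, (Finset.ne_of_mem_erase hk).symm, hjk,
    Exc.int_sq_eq_one h2, haj, hak, ?_⟩
  intro l hl hli hlj hlk
  exact hrest l (Finset.mem_erase.mpr ⟨hli, hl⟩) hlj hlk

theorem sq_sum_four (s : Finset ι) (a : ι → ℤ) (h : ∑ i ∈ s, a i ^ 2 = 4) :
    (∃ i ∈ s, (a i = 2 ∨ a i = -2) ∧ ∀ l ∈ s, l ≠ i → a l = 0) ∨
    (∃ i ∈ s, ∃ j ∈ s, ∃ k ∈ s, ∃ m ∈ s, i ≠ j ∧ i ≠ k ∧ i ≠ m ∧ j ≠ k ∧ j ≠ m ∧ k ≠ m ∧
      (a i = 1 ∨ a i = -1) ∧ (a j = 1 ∨ a j = -1) ∧ (a k = 1 ∨ a k = -1) ∧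
      (a m = 1 ∨ a m = -1) ∧ ∀ l ∈ s, l ≠ i → l ≠ j → l ≠ k → l ≠ m → a l = 0) := by
  have hex : ∃ i ∈ s, a i ≠ 0 := by
    by_contra hcon
    push Not at hcon
    rw [Finset.sum_eq_zero (fun i hi => by rw [hcon i hi]; ring)] at h
    norm_num at h
  obtain ⟨i, hi, hai⟩ := hex
  have hsplit := Finset.add_sum_erase s (fun i => a i ^ 2) hi
  rw [h] at hsplit
  have hnn : 0 ≤ ∑ j ∈ s.erase i, a j ^ 2 := Finset.sum_nonneg (fun j _ => sq_nonneg _)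
  have hle : a i ^ 2 ≤ 4 := by omega
  have hu : a i ≤ 2 := by nlinarith
  have hl : -2 ≤ a i := by nlinarith
  have hcases : a i = 2 ∨ a i = -2 ∨ a i = 1 ∨ a i = -1 := by omega
  rcases hcases with h2 | h2 | h2 | h2
  · left
    refine ⟨i, hi, Or.inl h2, ?_⟩
    have h3 : ∑ j ∈ s.erase i, a j ^ 2 = 0 := by rw [h2] at hsplit; omega
    intro l hl hli
    have := (Finset.sum_eq_zero_iff_of_nonneg (fun j _ => sq_nonneg (a j))).mp h3 l
      (Finset.mem_erase.mpr ⟨hli, hl⟩)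
    exact pow_eq_zero_iff (two_ne_zero) |>.mp this
  · left
    refine ⟨i, hi, Or.inr h2, ?_⟩
    have h3 : ∑ j ∈ s.erase i, a j ^ 2 = 0 := by rw [h2] at hsplit; omega
    intro l hl hli
    have := (Finset.sum_eq_zero_iff_of_nonneg (fun j _ => sq_nonneg (a j))).mp h3 l
      (Finset.mem_erase.mpr ⟨hli, hl⟩)
    exact pow_eq_zero_iff (two_ne_zero) |>.mp this
  · right
    have h3 : ∑ j ∈ s.erase i, a j ^ 2 = 3 := by rw [h2] at hsplit; omega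
    obtain ⟨j, hj, k, hk, m, hm, hjk, hjm, hkm, haj, hak, ham, hrest⟩ :=
      sq_sum_three (s.erase i) a h3
    refine ⟨i, hi, j, Finset.mem_of_mem_erase hj, k, Finset.mem_of_mem_erase hk, m,
      Finset.mem_of_mem_erase hm, (Finset.ne_of_mem_erase hj).symm,
      (Finset.ne_of_mem_erase hk).symm, (Finset.ne_of_mem_erase hm).symm, hjk, hjm, hkm,
      Or.inl h2, haj, hak, ham, ?_⟩
    intro l hl hli hlj hlk hlm
    exact hrest l (Finset.mem_erase.mpr ⟨hli, hl⟩) hlj hlk hlm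
  · right
    have h3 : ∑ j ∈ s.erase i, a j ^ 2 = 3 := by rw [h2] at hsplit; omega
    obtain ⟨j, hj, k, hk, m, hm, hjk, hjm, hkm, haj, hak, ham, hrest⟩ :=
      sq_sum_three (s.erase i) a h3
    refine ⟨i, hi, j, Finset.mem_of_mem_erase hj, k, Finset.mem_of_mem_erase hk, m,
      Finset.mem_of_mem_erase hm, (Finset.ne_of_mem_erase hj).symm,
      (Finset.ne_of_mem_erase hk).symm, (Finset.ne_of_mem_erase hm).symm, hjk, hjm, hkm,
      Or.inr h2, haj, hak, ham, ?_⟩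
    intro l hl hli hlj hlk hlm
    exact hrest l (Finset.mem_erase.mpr ⟨hli, hl⟩) hlj hlk hlm

end Comb2

section Dihedral

variable {G : Type u} [Group G]

theorem pw_add {x : G} (hx5 : orderOf x = 5) (i j : ZMod 5) :
    x ^ (i + j).val = x ^ i.val * x ^ j.val := by
  rw [ZMod.val_add, ← pow_add]
  have := pow_mod_orderOf x (i.val + j.val)
  rw [hx5] at this
  exact this

theorem pw_sub {x : G} (hx5 : orderOf x = 5) (i j : ZMod 5) :
    x ^ (j - i).val = x ^ j.val * (x ^ i.val)⁻¹ := by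
  have h := pw_add hx5 (j - i) i
  rw [sub_add_cancel] at h
  rw [h]; group

/-- The homomorphism from the dihedral group of order 10 attached to an element `x` of order 5
inverted by an involution `t`. -/
noncomputable def dihHom {x t : G} (hx5 : orderOf x = 5) (htt : t * t = 1)
    (hinv : t * x * t⁻¹ = x⁻¹) : DihedralGroup 5 →* G :=
  MonoidHom.mk' (fun g => match g with
    | .r i => x ^ i.val
    | .sr i => t * x ^ i.val) (by
      have htinv : t⁻¹ = t := inv_eq_of_mul_eq_one_left htt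
      have hconj : ∀ k : ℕ, t * x ^ k * t⁻¹ = (x ^ k)⁻¹ := by
        intro k
        rw [← conj_pow, hinv, inv_pow]
      have hconj' : ∀ k : ℕ, x ^ k * t = t * (x ^ k)⁻¹ := by
        intro k
        have := hconj k
        calc x ^ k * t = t * (t⁻¹ * x ^ k * t) := by group
          _ = t * (t * x ^ k * t⁻¹) := by rw [htinv]
          _ = t * (x ^ k)⁻¹ := by rw [this]
      have hcomm : ∀ a b : ℕ, x ^ a * (x ^ b)⁻¹ = (x ^ b)⁻¹ * x ^ a := by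
        intro a b
        exact ((Commute.refl x).pow_pow a b).inv_right.eq
      rintro (i | i) (j | j)
      · exact pw_add hx5 i j
      · show t * x ^ (j - i).val = x ^ i.val * (t * x ^ j.val)
        rw [pw_sub hx5 i j, ← mul_assoc (x ^ i.val), hconj', hcomm]
        group
      · show t * x ^ (i + j).val = t * x ^ i.val * x ^ j.val
        rw [pw_add hx5 i j, mul_assoc]
      · show x ^ (j - i).val = t * x ^ i.val * (t * x ^ j.val)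
        rw [pw_sub hx5 i j, hcomm]
        calc (x ^ i.val)⁻¹ * x ^ j.val = (t * x ^ i.val * t⁻¹) * x ^ j.val := by rw [hconj]
          _ = t * x ^ i.val * (t * x ^ j.val) := by rw [htinv]; group)

/-- the sign character of the dihedral group -/
noncomputable def dihSign : DihedralGroup 5 →* ℂˣ :=
  MonoidHom.mk' (fun g => match g with
    | .r _ => 1
    | .sr _ => -1) (by
      rintro (i | i) (j | j) <;> simp)

theorem sum_dihedral (F : DihedralGroup 5 → ℂ) :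
    ∑ g, F g = (F (.r 0) + F (.r 1) + F (.r 2) + F (.r 3) + F (.r 4))
      + (F (.sr 0) + F (.sr 1) + F (.sr 2) + F (.sr 3) + F (.sr 4)) := by
  rw [Fintype.sum_equiv DihedralGroup.equivSum F (fun s => F (DihedralGroup.equivSum.symm s))
    (fun g => by rw [Equiv.symm_apply_apply]), Fintype.sum_sum_type]
  have e1 : ∀ f : ZMod 5 → ℂ, ∑ i, f i = f 0 + f 1 + f 2 + f 3 + f 4 := by
    intro f
    exact Fin.sum_univ_five f
  rw [e1, e1]
  rfl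

/-- Restriction of a character to a dihedral subgroup of order 10. -/
theorem dihedral_restrict [Finite G] {χ : G → ℂ} (hχ : IsCharacter G χ) {x t : G}
    (hx5 : orderOf x = 5) (htt : t * t = 1) (hinv : t * x * t⁻¹ = x⁻¹) (d : ℕ) (a c : ℤ)
    (h1 : χ 1 = d) (ha : ∀ k : ℕ, ¬ 5 ∣ k → χ (x ^ k) = a) (hc : ∀ k : ℕ, χ (t * x ^ k) = c) :
    ∃ m₀ m₁ : ℕ, (d : ℤ) + 4 * a + 5 * c = 10 * m₀ ∧ (d : ℤ) + 4 * a - 5 * c = 10 * m₁ := by
  classical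
  set φ := dihHom hx5 htt hinv with hφ
  have hψ : IsCharacter (DihedralGroup 5) (χ ∘ φ) := Helper74.isCharacter_comp φ hχ
  have hr : ∀ i : ZMod 5, φ (.r i) = x ^ i.val := fun i => rfl
  have hsr : ∀ i : ZMod 5, φ (.sr i) = t * x ^ i.val := fun i => rfl
  have hv0 : (0 : ZMod 5).val = 0 := rfl
  have hv1 : (1 : ZMod 5).val = 1 := rfl
  have hv2 : (2 : ZMod 5).val = 2 := rfl
  have hv3 : (3 : ZMod 5).val = 3 := rfl
  have hv4 : (4 : ZMod 5).val = 4 := rfl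
  have hcard : (Nat.card (DihedralGroup 5) : ℂ) = 10 := by
    rw [DihedralGroup.nat_card]; norm_num
  obtain ⟨m₀, hm₀⟩ := Helper15.isCharacter_inner_nat hψ
    (Helper74.linFun_isCharacter (1 : DihedralGroup 5 →* ℂˣ))
  obtain ⟨m₁, hm₁⟩ := Helper15.isCharacter_inner_nat hψ (Helper74.linFun_isCharacter dihSign)
  rw [classInner, hcard, sum_dihedral] at hm₀ hm₁
  have hct : χ t = c := by simpa using hc 0
  simp only [Function.comp_apply, hr, hsr, hv0, hv1, hv2, hv3, hv4, pow_zero, h1, hct,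
    ha 1 (by norm_num), ha 2 (by norm_num), ha 3 (by norm_num), ha 4 (by norm_num), hc,
    Helper74.linFun_apply, MonoidHom.one_apply, Units.val_one, map_one, mul_one] at hm₀ hm₁
  have hs_r : ∀ i : ZMod 5, ((dihSign (.r i) : ℂˣ) : ℂ) = 1 := fun i => rfl
  have hs_sr : ∀ i : ZMod 5, ((dihSign (.sr i) : ℂˣ) : ℂ) = -1 := fun i => by
    show ((-1 : ℂˣ) : ℂ) = -1
    simp
  simp only [hs_r, hs_sr, map_one, map_neg, mul_one, mul_neg] at hm₁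
  refine ⟨m₀, m₁, ?_, ?_⟩
  · have : ((d : ℤ) + 4 * a + 5 * c : ℂ) = ((10 * m₀ : ℤ) : ℂ) := by
      push_cast
      linear_combination 10 * hm₀
    exact_mod_cast this
  · have : ((d : ℤ) + 4 * a - 5 * c : ℂ) = ((10 * m₁ : ℤ) : ℂ) := by
      push_cast
      linear_combination 10 * hm₁
    exact_mod_cast this

end Dihedral


section ArithC

def Lc : List ℤ := [6, 16, 36, -4, -9, -24, -54]

def Rc (D : ℤ) : List ℤ :=
  (List.range ((D + 4).natAbs / 5 + 1)).map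
    (fun i : ℕ => -(((D + 4).natAbs / 5 : ℕ) : ℤ) + 2 * (i : ℤ))

def Qc (D₁ D₂ D₃ D₄ γ₁ γ₂ γ₃ γ₄ : ℤ) : ℤ :=
  (D₁ * D₂ * D₃ * D₄) * (D₁ * D₂ * D₃ * D₄ + γ₁ ^ 2 * (D₂ * D₃ * D₄) + γ₂ ^ 2 * (D₁ * D₃ * D₄)
    + γ₃ ^ 2 * (D₁ * D₂ * D₄) + γ₄ ^ 2 * (D₁ * D₂ * D₃))

def Wc (γ₁ γ₂ γ₃ γ₄ : ℤ) : ℤ := 1 + γ₁ ^ 2 + γ₂ ^ 2 + γ₃ ^ 2 + γ₄ ^ 2

set_option maxRecDepth 1000000 in
theorem caseC_core : ∀ D₁ ∈ Lc, ∀ D₂ ∈ Lc, ∀ D₃ ∈ Lc, ∀ D₄ ∈ Lc, 1 + D₁ + D₂ + D₃ + D₄ = 0 →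
    ∀ γ₁ ∈ Rc D₁, ∀ γ₂ ∈ Rc D₂, ∀ γ₃ ∈ Rc D₃, (-1 - γ₁ - γ₂ - γ₃) ∈ Rc D₄ →
    ¬ (IsSquare (864 * Qc D₁ D₂ D₃ D₄ γ₁ γ₂ γ₃ (-1 - γ₁ - γ₂ - γ₃)) ∧
      5 * Wc γ₁ γ₂ γ₃ (-1 - γ₁ - γ₂ - γ₃) ^ 2 * (D₁ * D₂ * D₃ * D₄) ^ 2
        ≤ 4320 * Qc D₁ D₂ D₃ D₄ γ₁ γ₂ γ₃ (-1 - γ₁ - γ₂ - γ₃)) := by
  decide +kernel


theorem mem_Lc (a : ℤ) (ha : a = 1 ∨ a = -1) (d : ℕ) (hd : d ∣ 4320) (h1 : 1 < d) (h65 : d ≤ 65)
    (hmod : (d : ℤ) ≡ a [ZMOD 5]) : a * d ∈ Lc := by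
  have hkey := key_degB d (Nat.mem_divisors.mpr ⟨hd, by norm_num⟩) h65 (by omega)
  rcases ha with rfl | rfl
  · have hm : d % 5 = 1 := by
      have := hmod
      rw [Int.ModEq] at this
      omega
    rcases hkey.1 hm with rfl | rfl | rfl <;> simp [Lc]
  · have hm : d % 5 = 4 := by
      have := hmod
      rw [Int.ModEq] at this
      omega
    rcases hkey.2 hm with rfl | rfl | rfl | rfl <;> simp [Lc]

theorem mem_Rc (a : ℤ) (ha : a = 1 ∨ a = -1) (d m0 m1 : ℕ) (c : ℤ)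
    (h0 : (d : ℤ) + 4 * a + 5 * c = 10 * m0) (h1 : (d : ℤ) + 4 * a - 5 * c = 10 * m1) :
    a * c ∈ Rc (a * d) := by
  have hM : (d : ℤ) + 4 * a = 5 * (m0 + m1) := by linarith
  have hc : c = (m0 : ℤ) - m1 := by linarith
  have habs : (a * d + 4).natAbs = 5 * (m0 + m1) := by
    rcases ha with rfl | rfl
    · have : (1 * (d : ℤ) + 4) = ((5 * (m0 + m1) : ℕ) : ℤ) := by push_cast; linarith
      rw [this, Int.natAbs_natCast]
    · have : (-1 * (d : ℤ) + 4) = -((5 * (m0 + m1) : ℕ) : ℤ) := by push_cast; linarith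
      rw [this, Int.natAbs_neg, Int.natAbs_natCast]
  unfold Rc
  rw [habs, Nat.mul_div_cancel_left _ (by norm_num : 0 < 5), List.mem_map]
  rcases ha with rfl | rfl
  · refine ⟨m0, List.mem_range.mpr (by omega : m0 < m0 + m1 + 1), ?_⟩
    rw [hc]; push_cast; ring
  · refine ⟨m1, List.mem_range.mpr (by omega : m1 < m0 + m1 + 1), ?_⟩
    rw [hc]; push_cast; ring

/-- The arithmetic core of case C. -/
theorem caseC_arith (D₁ D₂ D₃ D₄ γ₁ γ₂ γ₃ γ₄ : ℤ) (Ct : ℕ)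
    (hD₁ : D₁ ∈ Lc) (hD₂ : D₂ ∈ Lc) (hD₃ : D₃ ∈ Lc) (hD₄ : D₄ ∈ Lc)
    (hγ₁ : γ₁ ∈ Rc D₁) (hγ₂ : γ₂ ∈ Rc D₂) (hγ₃ : γ₃ ∈ Rc D₃) (hγ₄ : γ₄ ∈ Rc D₄)
    (H1 : 1 + D₁ + D₂ + D₃ + D₄ = 0) (H2 : 1 + γ₁ + γ₂ + γ₃ + γ₄ = 0)
    (H3 : 5 * (Ct : ℤ) ^ 2 * (D₁ * D₂ * D₃ * D₄) = 4320 * (D₁ * D₂ * D₃ * D₄
      + γ₁ ^ 2 * (D₂ * D₃ * D₄) + γ₂ ^ 2 * (D₁ * D₃ * D₄) + γ₃ ^ 2 * (D₁ * D₂ * D₄)
      + γ₄ ^ 2 * (D₁ * D₂ * D₃)))
    (H4 : 1 + γ₁ ^ 2 + γ₂ ^ 2 + γ₃ ^ 2 + γ₄ ^ 2 ≤ (Ct : ℤ)) : False := by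
  have hγ₄' : γ₄ = -1 - γ₁ - γ₂ - γ₃ := by linarith
  rw [hγ₄'] at hγ₄ H3 H4
  apply caseC_core D₁ hD₁ D₂ hD₂ D₃ hD₃ D₄ hD₄ H1 γ₁ hγ₁ γ₂ hγ₂ γ₃ hγ₃ hγ₄
  constructor
  · refine ⟨(Ct : ℤ) * (D₁ * D₂ * D₃ * D₄), ?_⟩
    unfold Qc
    have : (5 : ℤ) * (864 * ((D₁ * D₂ * D₃ * D₄) * (D₁ * D₂ * D₃ * D₄
        + γ₁ ^ 2 * (D₂ * D₃ * D₄) + γ₂ ^ 2 * (D₁ * D₃ * D₄) + γ₃ ^ 2 * (D₁ * D₂ * D₄)
        + (-1 - γ₁ - γ₂ - γ₃) ^ 2 * (D₁ * D₂ * D₃))))
        = 5 * ((Ct : ℤ) * (D₁ * D₂ * D₃ * D₄) * ((Ct : ℤ) * (D₁ * D₂ * D₃ * D₄))) := by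
      linear_combination (-(D₁ * D₂ * D₃ * D₄)) * H3
    exact mul_left_cancel₀ (by norm_num) this
  · unfold Qc Wc
    have hW0 : (0 : ℤ) ≤ 1 + γ₁ ^ 2 + γ₂ ^ 2 + γ₃ ^ 2 + (-1 - γ₁ - γ₂ - γ₃) ^ 2 := by positivity
    have hsq : (1 + γ₁ ^ 2 + γ₂ ^ 2 + γ₃ ^ 2 + (-1 - γ₁ - γ₂ - γ₃) ^ 2) ^ 2 ≤ (Ct : ℤ) ^ 2 :=
      pow_le_pow_left₀ hW0 H4 2
    have hPi : (0 : ℤ) ≤ (D₁ * D₂ * D₃ * D₄) ^ 2 := sq_nonneg _
    have h1 : 5 * (1 + γ₁ ^ 2 + γ₂ ^ 2 + γ₃ ^ 2 + (-1 - γ₁ - γ₂ - γ₃) ^ 2) ^ 2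
        * (D₁ * D₂ * D₃ * D₄) ^ 2 ≤ 5 * (Ct : ℤ) ^ 2 * (D₁ * D₂ * D₃ * D₄) ^ 2 := by
      nlinarith
    have h2 : 5 * (Ct : ℤ) ^ 2 * (D₁ * D₂ * D₃ * D₄) ^ 2
        = 4320 * ((D₁ * D₂ * D₃ * D₄) * (D₁ * D₂ * D₃ * D₄
        + γ₁ ^ 2 * (D₂ * D₃ * D₄) + γ₂ ^ 2 * (D₁ * D₃ * D₄) + γ₃ ^ 2 * (D₁ * D₂ * D₄)
        + (-1 - γ₁ - γ₂ - γ₃) ^ 2 * (D₁ * D₂ * D₃))) := by
      linear_combination (D₁ * D₂ * D₃ * D₄) * H3
    rw [← h2]
    exact h1

end ArithC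

section MainC

open Subgroup

variable {G : Type u} [Group G] [Finite G]

/-- If `n_5 = 216` and `|C(x)| = 5`, all elements of order 5 are conjugate to `x`. -/
theorem conj_of_order_five (h : Nat.card G = 4320) [Fact (Nat.Prime 5)] (P : Sylow 5 G)
    (hN : Nat.card (normalizer ((P : Subgroup G) : Set G)) = 20) {x : G} (hx5 : orderOf x = 5)
    (hCx : Nat.card (centralizer ({x} : Set G)) = 5) (y : G) (hy : orderOf y = 5) :
    IsConj y x := by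
  classical
  have hP5 : ∀ P' : Sylow 5 G, Nat.card (P' : Subgroup G) = 5 := fun P' => by
    have := card_sylow_subgroup_of_card_eq (p := 5) (k := 1) (m := 864)
      (by rw [h]; norm_num) (by norm_num) P'
    simpa using this
  have hcount := card_orderOf_eq_prime (G := G) (p := 5) hP5
  have hn5 : Nat.card (Sylow 5 G) = 216 := by
    have := card_normalizer_mul_card_sylow P
    rw [hN, h] at this
    omega
  rw [hn5] at hcount
  have hcl := Helper74.card_isConj_mul_card_centralizer x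
  rw [hCx, h] at hcl
  have hA : ({g : G | IsConj g x} : Set G) = {g : G | orderOf g = 5} := by
    apply Set.eq_of_subset_of_ncard_le
    · intro g hg
      obtain ⟨c, hc⟩ := isConj_iff.mp hg
      show orderOf g = 5
      have := orderOf_conj' c g
      rw [hc, hx5] at this
      exact this.symm
    · have e1 : ({g : G | orderOf g = 5} : Set G).ncard = 864 := by
        have : ({g : G | orderOf g = 5} : Set G).ncard = Nat.card {g : G // orderOf g = 5} := by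
          rw [← Nat.card_coe_set_eq]; rfl
        rw [this, hcount]
      have e2 : ({g : G | IsConj g x} : Set G).ncard = 864 := by
        have : ({g : G | IsConj g x} : Set G).ncard = Nat.card {g : G // IsConj g x} := by
          rw [← Nat.card_coe_set_eq]; rfl
        rw [this]
        omega
      rw [e1, e2]
    · exact Set.toFinite _
  have : y ∈ ({g : G | IsConj g x} : Set G) := by rw [hA]; exact hy
  exact this

end MainC

section MainC2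

open Subgroup

variable {G : Type u} [Group G] [Finite G] [IsSimpleGroup G]

set_option maxHeartbeats 1600000 in
/-- Case C (`n_5 = 216`, `C(P) = P`) is impossible. -/
theorem caseC (h : Nat.card G = 4320) [Fact (Nat.Prime 5)] (P : Sylow 5 G)
    (hP : Nat.card (P : Subgroup G) = 5)
    (hN : Nat.card (normalizer ((P : Subgroup G) : Set G)) = 20)
    (hC : Nat.card (centralizer ((P : Subgroup G) : Set G)) = 5) : False := by
  classical
  let _ : Fintype G := Fintype.ofFinite G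
  let _ := Helper74.irrFintype G
  -- a generator of P
  obtain ⟨x', hx'⟩ := exists_prime_orderOf_dvd_card' (G := ↥(P : Subgroup G)) 5 (by rw [hP])
  obtain ⟨x, hxdef⟩ : ∃ x : G, x = (x' : G) := ⟨_, rfl⟩
  have hx5 : orderOf x = 5 := by rw [hxdef, Subgroup.orderOf_coe, hx']
  have hxP : x ∈ (P : Subgroup G) := by rw [hxdef]; exact x'.2
  have hx1 : x ≠ 1 := by
    intro h1
    rw [h1, orderOf_one] at hx5
    norm_num at hx5
  have hord5 : ∀ k ∈ (P : Subgroup G), k ≠ 1 → orderOf k = 5 := by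
    intro k hk hk1
    have h1 : orderOf k ∣ 5 := by
      have := orderOf_dvd_natCard (⟨k, hk⟩ : (P : Subgroup G))
      rwa [hP, Subgroup.orderOf_mk] at this
    rcases (Nat.dvd_prime (by norm_num : Nat.Prime 5)).mp h1 with h | h
    · exact absurd (orderOf_eq_one_iff.mp h) hk1
    · exact h
  have hgen : ∀ k ∈ (P : Subgroup G), k ≠ 1 → (P : Subgroup G) = zpowers k := by
    intro k hk hk1
    symm
    apply Subgroup.eq_of_le_of_card_ge (zpowers_le.mpr hk)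
    rw [Nat.card_zpowers, hord5 k hk hk1, hP]
  have hPz := hgen x hxP hx1
  have hCx : centralizer ({x} : Set G) = centralizer ((P : Subgroup G) : Set G) :=
    centralizer_singleton_eq_of_zpowers hPz
  have hCxcard : Nat.card (centralizer ({x} : Set G)) = 5 := by rw [hCx, hC]
  have hPC : (P : Subgroup G) ≤ centralizer ((P : Subgroup G) : Set G) := by
    intro a ha
    rw [Subgroup.mem_centralizer_iff]
    intro b hb
    haveI hcyc : IsCyclic (P : Subgroup G) := isCyclic_of_prime_card hP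
    let _ := hcyc.commGroup
    have := mul_comm (⟨b, hb⟩ : (P : Subgroup G)) ⟨a, ha⟩
    exact congrArg Subtype.val this
  have hCP : centralizer ((P : Subgroup G) : Set G) = (P : Subgroup G) :=
    (Subgroup.eq_of_le_of_card_ge hPC (by rw [hC, hP])).symm
  have hCself : ∀ k ∈ (P : Subgroup G), k ≠ 1 → centralizer ({k} : Set G) ≤ (P : Subgroup G) := by
    intro k hk hk1
    rw [centralizer_singleton_eq_of_zpowers (hgen k hk hk1), hCP]
  -- the involution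
  obtain ⟨t', ht'⟩ := exists_prime_orderOf_dvd_card'
    (G := ↥(normalizer ((P : Subgroup G) : Set G))) 2 (by rw [hN]; norm_num)
  obtain ⟨t, htdef⟩ : ∃ t : G, t = (t' : G) := ⟨_, rfl⟩
  have ht2 : orderOf t = 2 := by rw [htdef, Subgroup.orderOf_coe, ht']
  have htN : t ∈ normalizer ((P : Subgroup G) : Set G) := by rw [htdef]; exact t'.2
  have htt : t * t = 1 := by
    have := pow_orderOf_eq_one t
    rwa [ht2, pow_two] at this
  have htinv : t⁻¹ = t := inv_eq_of_mul_eq_one_left htt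
  have hinvK := inverts_of_involution (P : Subgroup G) hP (by norm_num) hCself htN ht2
  have hinv : t * x * t⁻¹ = x⁻¹ := hinvK x hxP
  have hconjt : ∀ k : ℕ, IsConj t (t * x ^ k) := by
    intro k
    apply isConj_of_mul_mem (P : Subgroup G) hP (by norm_num) hCself htN ht2
    have h1 := hinvK (x ^ k) (Subgroup.pow_mem _ hxP k)
    rw [htinv] at h1
    rw [h1]
    exact Subgroup.inv_mem _ (Subgroup.pow_mem _ hxP k)
  have hcountpairs := card_involution_pairs_gen (P : Subgroup G) hP (by norm_num) hCself htN ht2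
    hxP hx1
  have hconjx : ∀ y ∈ (P : Subgroup G), y ≠ 1 → IsConj y x := fun y hy hy1 =>
    conj_of_order_five h P hN hx5 hCxcard y (hord5 y hy hy1)
  -- data of each irreducible character
  have key : ∀ χ : IrrCharacter G, ∃ a c : ℤ, ∃ m0 m1 : ℕ, (χ : G → ℂ) x = a ∧
      (χ : G → ℂ) t = c ∧ ((charDegree (χ : G → ℂ) : ℤ) ≡ a [ZMOD 5]) ∧
      (charDegree (χ : G → ℂ) : ℤ) + 4 * a + 5 * c = 10 * m0 ∧
      (charDegree (χ : G → ℂ) : ℤ) + 4 * a - 5 * c = 10 * m1 := by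
    intro χ
    have hχ := Helper74.irr_isCharacter χ
    have hcf := Helper74.irr_isClassFunction χ
    have hone : (χ : G → ℂ) 1 = (charDegree (χ : G → ℂ) : ℂ) :=
      Helper78.irrChar_one_eq_charDegree χ.2
    have hconst : ∀ y ∈ (P : Subgroup G), y ≠ 1 → (χ : G → ℂ) y = (χ : G → ℂ) x := by
      intro y hy hy1
      obtain ⟨g, hg⟩ := isConj_iff.mp (hconjx y hy hy1)
      rw [← hg]
      exact (hcf y g).symm
    let _ : Fintype (P : Subgroup G) := Fintype.ofFinite _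
    have hnt : Nontrivial (P : Subgroup G) :=
      ⟨⟨⟨x, hxP⟩, 1, fun h => hx1 (congrArg Subtype.val h)⟩⟩
    have hA : IsCharacter (P : Subgroup G) (fun y : (P : Subgroup G) => (χ : G → ℂ) (y : G)) :=
      Helper74.isCharacter_restrict (P : Subgroup G) hχ
    obtain ⟨a, a', b, hTa, ha', _, hcong⟩ := Exc.const_congr hnt hA
      (Helper74.isCharacter_zero (G := (P : Subgroup G))) 0 (T := (χ : G → ℂ) x) (by
        intro y hy
        have hy1 : (y : G) ≠ 1 := fun h => hy (Subtype.ext h)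
        simp only [Int.cast_zero, zero_mul, sub_zero]
        exact hconst y y.2 hy1)
    have ha'' : a' = charDegree (χ : G → ℂ) := by
      have h1 : (χ : G → ℂ) 1 = a' := ha'
      rw [hone] at h1
      exact_mod_cast h1.symm
    rw [hP, ha''] at hcong
    obtain ⟨c, hc⟩ := Exc.char_involution_int hχ htt
    have hpow : ∀ k : ℕ, ¬ 5 ∣ k → (χ : G → ℂ) (x ^ k) = a := by
      intro k hk
      rw [← hTa]
      apply hconst _ (Subgroup.pow_mem _ hxP k)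
      intro h1
      apply hk
      rw [← hx5]
      exact orderOf_dvd_of_pow_eq_one h1
    have hck : ∀ k : ℕ, (χ : G → ℂ) (t * x ^ k) = c := by
      intro k
      obtain ⟨g, hg⟩ := isConj_iff.mp (hconjt k)
      rw [← hg, hcf t g, hc]
    obtain ⟨m0, m1, h0, h1⟩ := dihedral_restrict hχ hx5 htt hinv (charDegree (χ : G → ℂ)) a c
      hone hpow hck
    exact ⟨a, c, m0, m1, hTa, hc, by simpa using hcong, h0, h1⟩
  choose a c m0 m1 hax hct hmod h0 h1 using key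
  have hprinc : ∀ g : G, ((Helper79.principalIrr G : IrrCharacter G) : G → ℂ) g = 1 :=
    fun _ => rfl
  have ha1 : a (Helper79.principalIrr G) = 1 := by
    have := hax (Helper79.principalIrr G)
    rw [hprinc] at this
    exact_mod_cast this.symm
  have hc1 : c (Helper79.principalIrr G) = 1 := by
    have := hct (Helper79.principalIrr G)
    rw [hprinc] at this
    exact_mod_cast this.symm
  have hdeg : ∀ χ : IrrCharacter G, (χ : G → ℂ) 1 = (charDegree (χ : G → ℂ) : ℂ) :=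
    fun χ => Helper78.irrChar_one_eq_charDegree χ.2
  -- the sum of squares
  have hso := Helper74.second_orthogonality (G := G) x x
  rw [if_pos (IsConj.refl x), hCxcard] at hso
  have hsumsq : ∑ χ : IrrCharacter G, a χ ^ 2 = 5 := by
    have : ∑ χ : IrrCharacter G, ((a χ ^ 2 : ℤ) : ℂ) = 5 := by
      have h5 : ((5 : ℕ) : ℂ) = 5 := by norm_num
      rw [← h5, ← hso]
      apply Finset.sum_congr rfl
      intro χ _
      rw [hax χ]
      simp only [Int.cast_pow, map_intCast]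
      ring
    exact_mod_cast this
  obtain ⟨s, hsdef⟩ : ∃ s : Finset (IrrCharacter G),
    s = Finset.univ.erase (Helper79.principalIrr G) := ⟨_, rfl⟩
  have hs4 : ∑ χ ∈ s, a χ ^ 2 = 4 := by
    have := Finset.add_sum_erase Finset.univ (fun χ => a χ ^ 2)
      (Finset.mem_univ (Helper79.principalIrr G))
    rw [hsumsq, ha1, ← hsdef] at this
    linarith
  have hmem_s : ∀ χ : IrrCharacter G, χ ∈ s ↔ χ ≠ Helper79.principalIrr G := by
    intro χ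
    rw [hsdef]
    simp
  -- orthogonality relations
  have hnc1 : ¬ IsConj (1 : G) x := by
    intro hc
    exact hx1 (isConj_one_left.mp hc.symm)
  have hnct : ¬ IsConj t x := by
    intro hc
    obtain ⟨g, hg⟩ := isConj_iff.mp hc
    have := orderOf_conj' g t
    rw [hg, hx5, ht2] at this
    norm_num at this
  have hE1 : ∑ χ : IrrCharacter G, (charDegree (χ : G → ℂ) : ℤ) * a χ = 0 := by
    have hso1 := Helper74.second_orthogonality (G := G) 1 x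
    rw [if_neg hnc1] at hso1
    have : ∑ χ : IrrCharacter G, (((charDegree (χ : G → ℂ) : ℤ) * a χ : ℤ) : ℂ) = 0 := by
      rw [← hso1]
      apply Finset.sum_congr rfl
      intro χ _
      rw [hax χ, hdeg χ]
      simp
    exact_mod_cast this
  have hE2 : ∑ χ : IrrCharacter G, c χ * a χ = 0 := by
    have hso2 := Helper74.second_orthogonality (G := G) t x
    rw [if_neg hnct] at hso2
    have : ∑ χ : IrrCharacter G, ((c χ * a χ : ℤ) : ℂ) = 0 := by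
      rw [← hso2]
      apply Finset.sum_congr rfl
      intro χ _
      rw [hax χ, hct χ]
      simp
    exact_mod_cast this
  have hperf : commutator G = ⊤ := Exc.commutator_eq_top_of_simple (by rw [h]; norm_num)
  have hE1' := Finset.add_sum_erase Finset.univ
    (fun χ : IrrCharacter G => (charDegree (χ : G → ℂ) : ℤ) * a χ)
    (Finset.mem_univ (Helper79.principalIrr G))
  rw [hE1, ← hsdef, ha1, Exc.charDegree_principal] at hE1'
  rcases sq_sum_four s a hs4 with ⟨ψ, hψs, hψ2, hrest⟩ |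
    ⟨ψ₁, hψ₁s, ψ₂, hψ₂s, ψ₃, hψ₃s, ψ₄, hψ₄s, h12, h13, h14, h23, h24, h34, ha₁, ha₂, ha₃, ha₄,
      hrest⟩
  · -- a single character with value ±2: parity contradiction
    exfalso
    have hsum : ∑ χ ∈ s, (charDegree (χ : G → ℂ) : ℤ) * a χ
        = a ψ * (charDegree (ψ : G → ℂ) : ℤ) := by
      rw [← Exc.sum_eq_of_support_one s a (fun χ => (charDegree (χ : G → ℂ) : ℤ)) hψs hrest]
      apply Finset.sum_congr rfl
      intro χ _
      ring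
    rw [hsum] at hE1'
    rcases hψ2 with h2 | h2 <;> rw [h2] at hE1' <;> omega
  · -- four characters with values ±1
    have hψ₁1 : ψ₁ ≠ Helper79.principalIrr G := (hmem_s ψ₁).mp hψ₁s
    have hψ₂1 : ψ₂ ≠ Helper79.principalIrr G := (hmem_s ψ₂).mp hψ₂s
    have hψ₃1 : ψ₃ ≠ Helper79.principalIrr G := (hmem_s ψ₃).mp hψ₃s
    have hψ₄1 : ψ₄ ≠ Helper79.principalIrr G := (hmem_s ψ₄).mp hψ₄s
    obtain ⟨T, hTdef⟩ : ∃ T : Finset (IrrCharacter G),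
      T = {Helper79.principalIrr G, ψ₁, ψ₂, ψ₃, ψ₄} := ⟨_, rfl⟩
    have hTsum : ∀ {β : Type} [AddCommMonoid β] (F : IrrCharacter G → β), ∑ χ ∈ T, F χ
        = F (Helper79.principalIrr G) + F ψ₁ + F ψ₂ + F ψ₃ + F ψ₄ := by
      intro β _ F
      rw [hTdef, Finset.sum_insert, Finset.sum_insert, Finset.sum_insert, Finset.sum_pair h34]
      · simp only [add_assoc]
      · simp only [Finset.mem_insert, Finset.mem_singleton, not_or]
        exact ⟨h23, h24⟩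
      · simp only [Finset.mem_insert, Finset.mem_singleton, not_or]
        exact ⟨h12, h13, h14⟩
      · simp only [Finset.mem_insert, Finset.mem_singleton, not_or]
        exact ⟨hψ₁1.symm, hψ₂1.symm, hψ₃1.symm, hψ₄1.symm⟩
    have hTout : ∀ χ : IrrCharacter G, χ ∉ T → a χ = 0 := by
      intro χ hχ
      rw [hTdef] at hχ
      simp only [Finset.mem_insert, Finset.mem_singleton, not_or] at hχ
      exact hrest χ ((hmem_s χ).mpr hχ.1) hχ.2.1 hχ.2.2.1 hχ.2.2.2.1 hχ.2.2.2.2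
    have hsplit : ∀ {β : Type} [AddCommMonoid β] (F : IrrCharacter G → β),
        (∀ χ, a χ = 0 → F χ = 0) → ∑ χ, F χ
          = F (Helper79.principalIrr G) + F ψ₁ + F ψ₂ + F ψ₃ + F ψ₄ := by
      intro β _ F hF
      rw [← hTsum, Finset.sum_subset (Finset.subset_univ T)
        (fun χ _ hχ => hF χ (hTout χ hχ))]
    have hdprop : ∀ ψ : IrrCharacter G, ψ ≠ Helper79.principalIrr G →
        charDegree (ψ : G → ℂ) ∣ 4320 ∧ 1 < charDegree (ψ : G → ℂ) ∧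
          charDegree (ψ : G → ℂ) ≤ 65 := by
      intro ψ hψ
      refine ⟨by rw [← h]; exact Helper80.IsIrrCharacter.charDegree_dvd_card ψ.2,
        Exc.one_lt_charDegree_of_perfect hperf ψ hψ, ?_⟩
      have hs := Helper79.sum_charDegree_sq (G := G)
      rw [h] at hs
      have := Finset.single_le_sum (f := fun χ : IrrCharacter G => charDegree (χ : G → ℂ) ^ 2)
        (fun _ _ => Nat.zero_le _) (Finset.mem_univ ψ)
      rw [hs] at this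
      have this' : charDegree (ψ : G → ℂ) ^ 2 ≤ 4320 := this
      nlinarith
    obtain ⟨d₁, hd₁⟩ : ∃ d₁ : ℕ, d₁ = charDegree (ψ₁ : G → ℂ) := ⟨_, rfl⟩
    obtain ⟨d₂, hd₂⟩ : ∃ d₂ : ℕ, d₂ = charDegree (ψ₂ : G → ℂ) := ⟨_, rfl⟩
    obtain ⟨d₃, hd₃⟩ : ∃ d₃ : ℕ, d₃ = charDegree (ψ₃ : G → ℂ) := ⟨_, rfl⟩
    obtain ⟨d₄, hd₄⟩ : ∃ d₄ : ℕ, d₄ = charDegree (ψ₄ : G → ℂ) := ⟨_, rfl⟩
    -- E1
    have H1 : 1 + a ψ₁ * d₁ + a ψ₂ * d₂ + a ψ₃ * d₃ + a ψ₄ * d₄ = 0 := by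
      have := hsplit (fun χ => (charDegree (χ : G → ℂ) : ℤ) * a χ)
        (fun χ hχ => by simp only [hχ, mul_zero])
      rw [hE1] at this
      simp only [ha1, Exc.charDegree_principal, ← hd₁, ← hd₂, ← hd₃, ← hd₄] at this
      push_cast at this
      linarith
    have H2 : 1 + a ψ₁ * c ψ₁ + a ψ₂ * c ψ₂ + a ψ₃ * c ψ₃ + a ψ₄ * c ψ₄ = 0 := by
      have := hsplit (fun χ => c χ * a χ) (fun χ hχ => by simp only [hχ, mul_zero])
      rw [hE2] at this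
      simp only [ha1, hc1] at this
      linarith
    -- E4
    obtain ⟨Ct, hCt⟩ : ∃ Ct : ℕ, Ct = Nat.card (centralizer ({t} : Set G)) := ⟨_, rfl⟩
    have hE4 : ∑ χ : IrrCharacter G, c χ ^ 2 = (Ct : ℤ) := by
      have hso4 := Helper74.second_orthogonality (G := G) t t
      rw [if_pos (IsConj.refl t), ← hCt] at hso4
      have : ∑ χ : IrrCharacter G, ((c χ ^ 2 : ℤ) : ℂ) = (((Ct : ℕ) : ℤ) : ℂ) := by
        rw [Int.cast_natCast, ← hso4]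
        apply Finset.sum_congr rfl
        intro χ _
        rw [hct χ]
        simp only [Int.cast_pow, map_intCast]
        ring
      exact_mod_cast this
    have H4 : 1 + c ψ₁ ^ 2 + c ψ₂ ^ 2 + c ψ₃ ^ 2 + c ψ₄ ^ 2 ≤ (Ct : ℤ) := by
      have := Finset.sum_le_sum_of_subset_of_nonneg (Finset.subset_univ T)
        (f := fun χ => c χ ^ 2) (fun χ _ _ => sq_nonneg (c χ))
      rw [hTsum, hE4, hc1] at this
      linarith
    -- E3: class multiplication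
    obtain ⟨cl, hcldef⟩ : ∃ cl : ℕ, cl = Nat.card {y : G // IsConj t y} := ⟨_, rfl⟩
    have hclC : cl * Ct = 4320 := by
      have h1 := Helper74.card_isConj_mul_card_centralizer t
      have h2 : Nat.card {y : G // IsConj y t} = cl := by
        rw [hcldef]
        exact Nat.card_congr (Equiv.subtypeEquivRight (fun y => isConj_comm))
      rw [h2, h, ← hCt] at h1
      exact h1
    have hm := Cfsg.Agent.S0840.result t t x
    rw [hcountpairs, ← hcldef, finsum_eq_sum_of_fintype, hsplit _ (fun χ hχ => by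
      rw [hax χ, hχ]; simp)] at hm
    simp only [hct, hax, hdeg, ← hd₁, ← hd₂, ← hd₃, ← hd₄, map_intCast, h] at hm
    have hd₁0 : (d₁ : ℂ) ≠ 0 := by
      have := (hdprop ψ₁ hψ₁1).2.1
      rw [← hd₁] at this
      have : d₁ ≠ 0 := by omega
      exact_mod_cast this
    have hd₂0 : (d₂ : ℂ) ≠ 0 := by
      have := (hdprop ψ₂ hψ₂1).2.1
      rw [← hd₂] at this
      have : d₂ ≠ 0 := by omega
      exact_mod_cast this
    have hd₃0 : (d₃ : ℂ) ≠ 0 := by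
      have := (hdprop ψ₃ hψ₃1).2.1
      rw [← hd₃] at this
      have : d₃ ≠ 0 := by omega
      exact_mod_cast this
    have hd₄0 : (d₄ : ℂ) ≠ 0 := by
      have := (hdprop ψ₄ hψ₄1).2.1
      rw [← hd₄] at this
      have : d₄ ≠ 0 := by omega
      exact_mod_cast this
    rw [hc1, ha1, Exc.charDegree_principal] at hm
    push_cast at hm
    have hclCℂ : (cl : ℂ) * (Ct : ℂ) = 4320 := by exact_mod_cast hclC
    obtain ⟨TT, hTT⟩ : ∃ TT : ℂ, TT = 1 + (c ψ₁ : ℂ) * (c ψ₁ : ℂ) * (a ψ₁ : ℂ) / (d₁ : ℂ)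
        + (c ψ₂ : ℂ) * (c ψ₂ : ℂ) * (a ψ₂ : ℂ) / (d₂ : ℂ)
        + (c ψ₃ : ℂ) * (c ψ₃ : ℂ) * (a ψ₃ : ℂ) / (d₃ : ℂ)
        + (c ψ₄ : ℂ) * (c ψ₄ : ℂ) * (a ψ₄ : ℂ) / (d₄ : ℂ) := ⟨_, rfl⟩
    have h4320 : (4320 : ℂ) ≠ 0 := by norm_num
    have hm1 : (5 : ℂ) * 4320 = (cl : ℂ) * (cl : ℂ) * TT := by
      have e : (1 : ℂ) * 1 * 1 / 1 = 1 := by norm_num
      rw [e, ← hTT] at hm
      rw [hm]
      field_simp
    have hT : 5 * (Ct : ℂ) ^ 2 = 4320 * TT := by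
      apply mul_left_cancel₀ h4320
      linear_combination (Ct : ℂ) ^ 2 * hm1 + (TT * ((cl : ℂ) * (Ct : ℂ) + 4320)) * hclCℂ
    have H3C : (5 : ℂ) * (Ct : ℂ) ^ 2 * (((a ψ₁ : ℂ) * (d₁ : ℂ)) * ((a ψ₂ : ℂ) * (d₂ : ℂ))
          * ((a ψ₃ : ℂ) * (d₃ : ℂ)) * ((a ψ₄ : ℂ) * (d₄ : ℂ)))
        = 4320 * ((((a ψ₁ : ℂ) * (d₁ : ℂ)) * ((a ψ₂ : ℂ) * (d₂ : ℂ))
          * ((a ψ₃ : ℂ) * (d₃ : ℂ)) * ((a ψ₄ : ℂ) * (d₄ : ℂ)))
          + ((a ψ₁ : ℂ) * (c ψ₁ : ℂ)) ^ 2 * (((a ψ₂ : ℂ) * (d₂ : ℂ))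
            * ((a ψ₃ : ℂ) * (d₃ : ℂ)) * ((a ψ₄ : ℂ) * (d₄ : ℂ)))
          + ((a ψ₂ : ℂ) * (c ψ₂ : ℂ)) ^ 2 * (((a ψ₁ : ℂ) * (d₁ : ℂ))
            * ((a ψ₃ : ℂ) * (d₃ : ℂ)) * ((a ψ₄ : ℂ) * (d₄ : ℂ)))
          + ((a ψ₃ : ℂ) * (c ψ₃ : ℂ)) ^ 2 * (((a ψ₁ : ℂ) * (d₁ : ℂ))
            * ((a ψ₂ : ℂ) * (d₂ : ℂ)) * ((a ψ₄ : ℂ) * (d₄ : ℂ)))
          + ((a ψ₄ : ℂ) * (c ψ₄ : ℂ)) ^ 2 * (((a ψ₁ : ℂ) * (d₁ : ℂ))
            * ((a ψ₂ : ℂ) * (d₂ : ℂ)) * ((a ψ₃ : ℂ) * (d₃ : ℂ)))) := by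
      rw [hT, hTT]
      field_simp
    have H3 : 5 * (Ct : ℤ) ^ 2 * ((a ψ₁ * (d₁ : ℤ)) * (a ψ₂ * (d₂ : ℤ))
          * (a ψ₃ * (d₃ : ℤ)) * (a ψ₄ * (d₄ : ℤ)))
        = 4320 * (((a ψ₁ * (d₁ : ℤ)) * (a ψ₂ * (d₂ : ℤ))
          * (a ψ₃ * (d₃ : ℤ)) * (a ψ₄ * (d₄ : ℤ)))
          + (a ψ₁ * c ψ₁) ^ 2 * ((a ψ₂ * (d₂ : ℤ))
            * (a ψ₃ * (d₃ : ℤ)) * (a ψ₄ * (d₄ : ℤ)))
          + (a ψ₂ * c ψ₂) ^ 2 * ((a ψ₁ * (d₁ : ℤ))
            * (a ψ₃ * (d₃ : ℤ)) * (a ψ₄ * (d₄ : ℤ)))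
          + (a ψ₃ * c ψ₃) ^ 2 * ((a ψ₁ * (d₁ : ℤ))
            * (a ψ₂ * (d₂ : ℤ)) * (a ψ₄ * (d₄ : ℤ)))
          + (a ψ₄ * c ψ₄) ^ 2 * ((a ψ₁ * (d₁ : ℤ))
            * (a ψ₂ * (d₂ : ℤ)) * (a ψ₃ * (d₃ : ℤ)))) := by
      exact_mod_cast H3C
    have hsq : ∀ ψ : IrrCharacter G, (a ψ = 1 ∨ a ψ = -1) → (a ψ * c ψ) ^ 2 = c ψ ^ 2 := by
      intro ψ hψ
      rcases hψ with h | h <;> rw [h] <;> ring
    have H4' : 1 + (a ψ₁ * c ψ₁) ^ 2 + (a ψ₂ * c ψ₂) ^ 2 + (a ψ₃ * c ψ₃) ^ 2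
        + (a ψ₄ * c ψ₄) ^ 2 ≤ (Ct : ℤ) := by
      rw [hsq ψ₁ ha₁, hsq ψ₂ ha₂, hsq ψ₃ ha₃, hsq ψ₄ ha₄]
      exact H4
    have hL : ∀ ψ : IrrCharacter G, ψ ≠ Helper79.principalIrr G → (a ψ = 1 ∨ a ψ = -1) →
        ∀ d : ℕ, d = charDegree (ψ : G → ℂ) → a ψ * (d : ℤ) ∈ Lc ∧ a ψ * c ψ ∈ Rc (a ψ * (d : ℤ)) := by
      intro ψ hψ1 hψa d hd
      have hp := hdprop ψ hψ1
      have hmd := hmod ψ
      have h0' := h0 ψ
      have h1' := h1 ψ
      rw [← hd] at hp hmd h0' h1'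
      exact ⟨mem_Lc (a ψ) hψa d hp.1 hp.2.1 hp.2.2 hmd,
        mem_Rc (a ψ) hψa d (m0 ψ) (m1 ψ) (c ψ) h0' h1'⟩
    exact caseC_arith (a ψ₁ * (d₁ : ℤ)) (a ψ₂ * (d₂ : ℤ)) (a ψ₃ * (d₃ : ℤ)) (a ψ₄ * (d₄ : ℤ))
      (a ψ₁ * c ψ₁) (a ψ₂ * c ψ₂) (a ψ₃ * c ψ₃) (a ψ₄ * c ψ₄) Ct
      (hL ψ₁ hψ₁1 ha₁ d₁ hd₁).1 (hL ψ₂ hψ₂1 ha₂ d₂ hd₂).1 (hL ψ₃ hψ₃1 ha₃ d₃ hd₃).1
      (hL ψ₄ hψ₄1 ha₄ d₄ hd₄).1
      (hL ψ₁ hψ₁1 ha₁ d₁ hd₁).2 (hL ψ₂ hψ₂1 ha₂ d₂ hd₂).2 (hL ψ₃ hψ₃1 ha₃ d₃ hd₃).2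
      (hL ψ₄ hψ₄1 ha₄ d₄ hd₄).2 H1 H2 H3 H4'

end MainC2

end Cfsg.Agent.Helper17.G4320
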