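import Mathlib
import Cfsg.Agent.Helper17.FixCount
import Cfsg.Agent.Helper17.VTrick2
import Cfsg.Agent.Helper17.LemmaR
import Cfsg.Agent.Helper25.PGroupBasic
import Cfsg.Agent.S1010

set_option autoImplicit false
set_option linter.style.haveILetI false

/-!
# Order 5040: the case `n_5 = 126`, part (a): local structure and the central involution
-/

namespace Cfsg.Agent.Helper17.G5040

open Cfsg.Agent.Helper17 Subgroup

variable {G : Type*} [Group G] [Finite G] [IsSimpleGroup G]

/-- The 5-local structure when `n_5 = 126`. -/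
theorem local5 (h : Nat.card G = 5040) [Fact (Nat.Prime 5)] (P : Sylow 5 G)
    (h126 : Nat.card (Sylow 5 G) = 126) :
    Nat.card (P : Subgroup G) = 5 ∧
    Nat.card (normalizer ((P : Subgroup G) : Set G)) = 40 ∧
    (Nat.card (centralizer ((P : Subgroup G) : Set G)) = 10 ∨
      Nat.card (centralizer ((P : Subgroup G) : Set G)) = 20) := by
  have hG5 : Nat.card G = 5 ^ 1 * 1008 := by rw [h]; norm_num
  have h5 : ¬ 5 ∣ 1008 := by norm_num
  have hP : Nat.card (P : Subgroup G) = 5 := by
    have := card_sylow_subgroup_of_card_eq hG5 h5 P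
    simpa using this
  have hNn := card_normalizer_mul_card_sylow P
  rw [h, h126] at hNn
  have hN : Nat.card (normalizer ((P : Subgroup G) : Set G)) = 40 := by omega
  obtain ⟨hd1, hd2⟩ := relIndex_dvd_of_card_sylow_prime P hP
  have hcm := card_centralizer_mul_relIndex (P : Subgroup G)
  have h0 : (centralizer ((P : Subgroup G) : Set G)).relIndex
    (normalizer ((P : Subgroup G) : Set G)) ≠ 0 := Subgroup.index_ne_zero_of_finite
  have hne : ¬ (normalizer ((P : Subgroup G) : Set G) ≤ centralizer ((P : Subgroup G) : Set G)) :=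
    not_normalizer_le_centralizer_of_simple P (by rw [hP]; norm_num) (by rw [hP, h]; norm_num)
  have h1' : (centralizer ((P : Subgroup G) : Set G)).relIndex
    (normalizer ((P : Subgroup G) : Set G)) ≠ 1 := fun h => hne (Subgroup.relIndex_eq_one.mp h)
  generalize hdd : (centralizer ((P : Subgroup G) : Set G)).relIndex
    (normalizer ((P : Subgroup G) : Set G)) = d at hd1 hd2 hcm h0 h1'
  have hd4 : d ≤ 4 := Nat.le_of_dvd (by norm_num) hd1
  rw [hN] at hcm
  refine ⟨hP, hN, ?_⟩
  interval_cases d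
  · exact absurd rfl h0
  · exact absurd rfl h1'
  · right; omega
  · norm_num at hd1
  · left; omega


/-- A central involution of `N(P)` inside `C(P)`. -/
theorem exists_c (h : Nat.card G = 5040) [Fact (Nat.Prime 5)] (P : Sylow 5 G)
    (h126 : Nat.card (Sylow 5 G) = 126) :
    ∃ c : G, orderOf c = 2 ∧ c ∈ centralizer ((P : Subgroup G) : Set G) ∧
      normalizer ((P : Subgroup G) : Set G) ≤ centralizer ({c} : Set G) := by
  obtain ⟨hP, hN, hC⟩ := local5 h P h126
  set N := normalizer ((P : Subgroup G) : Set G) with hNdef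
  set C := centralizer ((P : Subgroup G) : Set G) with hCdef
  have hCN : C ≤ N := Subgroup.centralizer_le_normalizer _
  haveI : Fact (Nat.Prime 2) := ⟨Nat.prime_two⟩
  -- a Sylow 2-subgroup `T` of `N`
  obtain ⟨T0, hT0⟩ := Sylow.exists_subgroup_card_pow_prime (G := ↥N) 2 (n := 3)
    (by rw [hN]; norm_num)
  set T : Subgroup G := T0.map N.subtype with hTdef
  have hTcard : Nat.card T = 8 := by
    rw [hTdef, Subgroup.card_subtype, hT0]; norm_num
  have hTN : T ≤ N := Subgroup.map_subtype_le T0
  have hT2 : IsPGroup 2 T := IsPGroup.of_card (n := 3) (by rw [hTcard]; norm_num)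
  -- `D = T ⊓ C` is a nontrivial normal subgroup of `T`
  set D : Subgroup G := T ⊓ C with hDdef
  have hDne : D ≠ ⊥ := by
    apply inf_ne_bot_of_card_lt hTN hCN
    rw [hN, hTcard]
    rcases hC with hC | hC <;> rw [hC] <;> norm_num
  have hDnorm : (D.subgroupOf T).Normal := by
    constructor
    intro d hd t
    rw [Subgroup.mem_subgroupOf] at hd ⊢
    refine ⟨?_, ?_⟩
    · simp only [Subgroup.coe_mul, InvMemClass.coe_inv]
      exact T.mul_mem (T.mul_mem t.2 d.2) (T.inv_mem t.2)
    · simp only [Subgroup.coe_mul, InvMemClass.coe_inv]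
      exact conj_mem_centralizer_of_mem_normalizer (hTN t.2) hd.2
  have hDne' : D.subgroupOf T ≠ ⊥ := by
    intro hbot
    apply hDne
    rw [Subgroup.subgroupOf_eq_bot] at hbot
    rw [hDdef] at hbot ⊢
    rw [disjoint_iff] at hbot
    have hle : T ⊓ C ≤ T ⊓ C ⊓ T := le_inf le_rfl inf_le_left
    rw [hbot] at hle
    exact le_bot_iff.mp hle
  obtain ⟨z, hzD, hz1, hzZ⟩ :=
    Helper25.exists_mem_center_of_normal_ne_bot (p := 2) hT2 (D.subgroupOf T) hDne'
  rw [Subgroup.mem_subgroupOf] at hzD
  have hzG1 : (z : G) ≠ 1 := fun hh => hz1 (Subtype.ext hh)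
  have hzcomm : ∀ t ∈ T, t * (z : G) = (z : G) * t := by
    intro t ht
    rw [Subgroup.mem_center_iff] at hzZ
    have := hzZ ⟨t, ht⟩
    exact congrArg Subtype.val this
  -- order of `z`
  have hDcard : Nat.card D ∣ 4 := by
    have h1 : Nat.card D ∣ 8 := hTcard ▸ Subgroup.card_dvd_of_le inf_le_left
    have h2 : Nat.card D ∣ 20 := by
      have := Subgroup.card_dvd_of_le (inf_le_right : D ≤ C)
      rcases hC with hC | hC <;> rw [hC] at this
      · exact this.trans (by norm_num)
      · exact this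
    have := Nat.dvd_gcd h1 h2
    norm_num at this
    exact this
  have hzo : orderOf (z : G) ∣ 4 := by
    have : orderOf (z : G) ∣ Nat.card D := by
      have := orderOf_dvd_natCard (⟨(z : G), hzD⟩ : D)
      rwa [Subgroup.orderOf_mk] at this
    exact this.trans hDcard
  have hzo' : orderOf (z : G) = 2 ∨ orderOf (z : G) = 4 := by
    have hle : orderOf (z : G) ≤ 4 := Nat.le_of_dvd (by norm_num) hzo
    have h1 : orderOf (z : G) ≠ 1 := fun hh => hzG1 (orderOf_eq_one_iff.mp hh)
    have h0 : orderOf (z : G) ≠ 0 := (orderOf_pos (z : G)).ne'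
    interval_cases hh : orderOf (z : G)
    · exact absurd rfl h0
    · exact absurd rfl h1
    · left; rfl
    · norm_num at hzo
    · right; rfl
  -- the involution
  obtain ⟨c, hc2, hcD, hccomm⟩ : ∃ c : G, orderOf c = 2 ∧ c ∈ D ∧ ∀ t ∈ T, t * c = c * t := by
    rcases hzo' with h2 | h4
    · exact ⟨z, h2, hzD, hzcomm⟩
    · refine ⟨(z : G) ^ 2, ?_, D.pow_mem hzD 2, ?_⟩
      · rw [orderOf_pow' _ (by norm_num), h4]
        norm_num
      · intro t ht
        have hc : Commute t (z : G) := hzcomm t ht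
        exact (hc.pow_right 2).eq
  have hcC : c ∈ C := hcD.2
  refine ⟨c, hc2, hcC, ?_⟩
  -- `N = P ⊔ T`
  have hPle : (P : Subgroup G) ≤ centralizer ({c} : Set G) := by
    intro x hx
    rw [Subgroup.mem_centralizer_singleton_iff]
    exact (hcC x hx)
  have hTle : T ≤ centralizer ({c} : Set G) := by
    intro x hx
    rw [Subgroup.mem_centralizer_singleton_iff]
    exact (hccomm x hx)
  have hsup : (P : Subgroup G) ⊔ T = N := by
    apply Subgroup.eq_of_le_of_card_ge (sup_le le_normalizer hTN)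
    have h5 : 5 ∣ Nat.card ((P : Subgroup G) ⊔ T : Subgroup G) := by
      have := Subgroup.card_dvd_of_le (le_sup_left : (P : Subgroup G) ≤ (P : Subgroup G) ⊔ T)
      rwa [hP] at this
    have h8 : 8 ∣ Nat.card ((P : Subgroup G) ⊔ T : Subgroup G) := by
      have := Subgroup.card_dvd_of_le (le_sup_right : T ≤ (P : Subgroup G) ⊔ T)
      rwa [hTcard] at this
    have h40 : 40 ∣ Nat.card ((P : Subgroup G) ⊔ T : Subgroup G) :=
      Nat.Coprime.mul_dvd_of_dvd_of_dvd (by norm_num : Nat.Coprime 5 8) h5 h8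
    rw [hN]
    exact Nat.le_of_dvd Nat.card_pos h40
  rw [← hsup]
  exact sup_le hPle hTle


theorem key_126 : ∀ n ∈ Nat.divisors 126, n % 5 = 1 → n ≠ 21 → n = 1 ∨ n = 6 ∨ n = 126 := by
  decide

/-- `|C(c)| ∈ {40, 240}`. -/
theorem card_centralizer_c (h : Nat.card G = 5040) [Fact (Nat.Prime 5)] (P : Sylow 5 G)
    (h126 : Nat.card (Sylow 5 G) = 126) (c : G) (hc2 : orderOf c = 2)
    (hNc : normalizer ((P : Subgroup G) : Set G) ≤ centralizer ({c} : Set G)) :
    Nat.card (centralizer ({c} : Set G)) = 40 ∨ Nat.card (centralizer ({c} : Set G)) = 240 := by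
  obtain ⟨hP, hN, hC⟩ := local5 h P h126
  have hG : ¬ IsMulCommutative G := not_comm_of_simple_of_not_prime (by rw [h]; norm_num)
  have hc1 : c ≠ 1 := by
    rintro rfl
    rw [orderOf_one] at hc2
    omega
  set H := centralizer ({c} : Set G) with hHdef
  have hPH : (P : Subgroup G) ≤ H := le_normalizer.trans hNc
  have hcount := card_sylow_of_le P H hPH
  rw [inf_eq_right.mpr hNc, hN] at hcount
  have hmod : Nat.card (Sylow 5 ↥H) ≡ 1 [MOD 5] := card_sylow_modEq_one 5 _
  have hne21 : Nat.card (Sylow 5 ↥H) ≠ 21 := Cfsg.Agent.S1010.result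
  have hHtop : H ≠ ⊤ := centralizer_ne_top_of_simple hG hc1
  have hdvd : Nat.card H ∣ 5040 := h ▸ Subgroup.card_subgroup_dvd_card H
  generalize hn : Nat.card (Sylow 5 ↥H) = n at hcount hmod hne21
  have hn126 : n ∣ 126 := by
    rw [← hcount] at hdvd
    have : n * 40 ∣ 126 * 40 := by norm_num; exact hdvd
    exact Nat.dvd_of_mul_dvd_mul_right (by norm_num) this
  have hmod' : n % 5 = 1 := by
    have := hmod
    unfold Nat.ModEq at this
    rw [this]
  rcases key_126 n (Nat.mem_divisors.mpr ⟨hn126, by norm_num⟩) hmod' hne21 with h1 | h6 | h126'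
  · left; rw [← hcount, h1]
  · right; rw [← hcount, h6]
  · exfalso
    apply hHtop
    apply Subgroup.eq_top_of_card_eq
    rw [← hcount, h126', h]

end Cfsg.Agent.Helper17.G5040
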