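import Mathlib
import Cfsg.Agent.Helper17.G5040a
import Cfsg.Agent.Helper17.Invol

set_option autoImplicit false
set_option linter.style.haveILetI false

/-!
# Order 5040: the case `n_5 = 126`, part (b): the Sylow 2-subgroup when `C(c) = N(P)`
-/

namespace Cfsg.Agent.Helper17.G5040

open Cfsg.Agent.Helper17 Subgroup

variable {G : Type*} [Group G] [Finite G] [IsSimpleGroup G]

/-- When `C(c) = N(P)` has order 40: a Sylow 2-subgroup `S` of `G` (order 16) containing `c`
with `|S ∩ C(c)| = 8`. -/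
theorem sylow2_setup (h : Nat.card G = 5040) [Fact (Nat.Prime 5)] (P : Sylow 5 G)
    (h126 : Nat.card (Sylow 5 G) = 126) (c : G) (hc2 : orderOf c = 2)
    (hNc : normalizer ((P : Subgroup G) : Set G) ≤ centralizer ({c} : Set G))
    (hC : Nat.card (centralizer ({c} : Set G)) = 40) :
    ∃ S : Sylow 2 G, Nat.card (S : Subgroup G) = 16 ∧ c ∈ (S : Subgroup G) ∧
      Nat.card ((S : Subgroup G) ⊓ centralizer ({c} : Set G) : Subgroup G) = 8 := by
  obtain ⟨hP, hN, hC5⟩ := local5 h P h126
  haveI : Fact (Nat.Prime 2) := ⟨Nat.prime_two⟩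
  set N := normalizer ((P : Subgroup G) : Set G) with hNdef
  have hNeq : N = centralizer ({c} : Set G) :=
    Subgroup.eq_of_le_of_card_ge hNc (by rw [hC, hN])
  have hcN : c ∈ N := by
    rw [hNeq, Subgroup.mem_centralizer_singleton_iff]
  -- a Sylow 2-subgroup of `N` containing `c`
  have hzp : IsPGroup 2 (zpowers (⟨c, hcN⟩ : N)) := by
    apply IsPGroup.of_card (n := 1)
    rw [Nat.card_zpowers, Subgroup.orderOf_mk, hc2]; norm_num
  obtain ⟨Q, hQ⟩ := hzp.exists_le_sylow
  have hQcard : Nat.card (Q : Subgroup N) = 2 ^ 3 :=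
    card_sylow_subgroup_of_card_eq (m := 5) (by rw [hN]; norm_num) (by norm_num) Q
  set T0 : Subgroup G := (Q : Subgroup N).map N.subtype with hT0def
  have hT0card : Nat.card T0 = 8 := by
    rw [hT0def, Subgroup.card_subtype, hQcard]; norm_num
  have hT0N : T0 ≤ N := Subgroup.map_subtype_le _
  have hcT0 : c ∈ T0 := by
    rw [hT0def, Subgroup.mem_map]
    exact ⟨⟨c, hcN⟩, hQ (Subgroup.mem_zpowers _), rfl⟩
  have hT02 : IsPGroup 2 T0 := IsPGroup.of_card (n := 3) (by rw [hT0card]; norm_num)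
  obtain ⟨S, hS⟩ := hT02.exists_le_sylow
  have hScard : Nat.card (S : Subgroup G) = 2 ^ 4 :=
    card_sylow_subgroup_of_card_eq (m := 315) (by rw [h]; norm_num) (by norm_num) S
  refine ⟨S, by rw [hScard]; norm_num, hS hcT0, ?_⟩
  rw [← hNeq]
  have h1 : Nat.card ((S : Subgroup G) ⊓ N : Subgroup G) ∣ 16 := by
    have := Subgroup.card_dvd_of_le (inf_le_left : (S : Subgroup G) ⊓ N ≤ S)
    rwa [hScard] at this
  have h2 : Nat.card ((S : Subgroup G) ⊓ N : Subgroup G) ∣ 40 := by
    have := Subgroup.card_dvd_of_le (inf_le_right : (S : Subgroup G) ⊓ N ≤ N)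
    rwa [hN] at this
  have h3 : 8 ∣ Nat.card ((S : Subgroup G) ⊓ N : Subgroup G) := by
    have := Subgroup.card_dvd_of_le (le_inf hS hT0N : T0 ≤ (S : Subgroup G) ⊓ N)
    rwa [hT0card] at this
  have h4 : Nat.card ((S : Subgroup G) ⊓ N : Subgroup G) ∣ 8 := by
    have := Nat.dvd_gcd h1 h2
    norm_num at this
    exact this
  exact Nat.dvd_antisymm h4 h3

/-- If `|C(P)| = 10`, every subgroup of order 8 of `N(P)` contains an element of order 4. -/
theorem exists_order_four (h : Nat.card G = 5040) [Fact (Nat.Prime 5)] (P : Sylow 5 G)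
    (h126 : Nat.card (Sylow 5 G) = 126)
    (hC5 : Nat.card (centralizer ((P : Subgroup G) : Set G)) = 10)
    (T : Subgroup G) (hTN : T ≤ normalizer ((P : Subgroup G) : Set G)) (hT : Nat.card T = 8) :
    ∃ y ∈ T, orderOf y = 4 := by
  obtain ⟨hP, hN, -⟩ := local5 h P h126
  by_contra hno
  push Not at hno
  set C5 := centralizer ((P : Subgroup G) : Set G) with hC5def
  -- every element of `T` squares to 1
  have hsq : ∀ t ∈ T, t * t = 1 := by
    intro t ht
    have hd : orderOf t ∣ 8 := by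
      have := orderOf_dvd_natCard (⟨t, ht⟩ : T)
      rwa [Subgroup.orderOf_mk, hT] at this
    have hle : orderOf t ≤ 8 := Nat.le_of_dvd (by norm_num) hd
    have h4 := hno t ht
    have h8 : orderOf t ≠ 8 := by
      intro h8
      apply hno (t ^ 2) (T.pow_mem ht 2)
      rw [orderOf_pow' _ (by norm_num), h8]; norm_num
    have h0 : orderOf t ≠ 0 := (orderOf_pos t).ne'
    have h12 : orderOf t ∣ 2 := by
      interval_cases hh : orderOf t <;> simp_all
    have := orderOf_dvd_iff_pow_eq_one.mp h12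
    rwa [pow_two] at this
  -- a generator of `P`
  obtain ⟨a, haP, ha1⟩ : ∃ a ∈ (P : Subgroup G), a ≠ 1 := by
    by_contra hcon
    push Not at hcon
    have : (P : Subgroup G) = ⊥ := (Subgroup.eq_bot_iff_forall _).mpr hcon
    rw [this, Subgroup.card_bot] at hP
    omega
  have hao : orderOf a = 5 := by
    have hd : orderOf a ∣ 5 := by
      have := orderOf_dvd_natCard (⟨a, haP⟩ : (P : Subgroup G))
      rwa [Subgroup.orderOf_mk, hP] at this
    rcases (Nat.dvd_prime (by norm_num : Nat.Prime 5)).mp hd with h1 | h5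
    · exact absurd (orderOf_eq_one_iff.mp h1) ha1
    · exact h5
  have hzP : zpowers a = (P : Subgroup G) := by
    apply Subgroup.eq_of_le_of_card_ge ((Subgroup.zpowers_le).mpr haP)
    rw [Nat.card_zpowers, hao, hP]
  have hcomm_mem : ∀ t : G, t * a = a * t → t ∈ C5 := by
    intro t hta
    rw [hC5def, Subgroup.mem_centralizer_iff]
    intro x hx
    have hx' : x ∈ zpowers a := by rw [hzP]; exact hx
    obtain ⟨k, rfl⟩ := Subgroup.mem_zpowers_iff.mp hx'
    have hc : Commute t a := hta
    exact ((hc.zpow_right k).eq).symm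
  have hinv : ∀ t ∈ T, t ∉ C5 → t * a * t⁻¹ = a⁻¹ := by
    intro t ht htC
    have hmem : t * a * t⁻¹ ∈ zpowers a := by
      rw [hzP]
      have := hTN ht
      rw [Subgroup.mem_normalizer_iff] at this
      exact (this a).mp haP
    rcases conj_eq_or_inv_of_involution (p := 5) hao (hsq t ht) hmem with h1 | h1
    · exfalso
      apply htC
      apply hcomm_mem
      calc t * a = t * a * t⁻¹ * t := by group
        _ = a * t := by rw [h1]
    · exact h1
  have hprod : ∀ t ∈ T, ∀ t' ∈ T, t ∉ C5 → t' ∉ C5 → t * t' ∈ C5 := by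
    intro t ht t' ht' htC htC'
    apply hcomm_mem
    have h1 := hinv t ht htC
    have h2 := hinv t' ht' htC'
    have h3 : t * t' * a * (t * t')⁻¹ = a := by
      calc t * t' * a * (t * t')⁻¹ = t * (t' * a * t'⁻¹) * t⁻¹ := by group
        _ = t * a⁻¹ * t⁻¹ := by rw [h2]
        _ = (t * a * t⁻¹)⁻¹ := by group
        _ = a := by rw [h1, inv_inv]
    calc t * t' * a = t * t' * a * (t * t')⁻¹ * (t * t') := by group
      _ = a * (t * t') := by rw [h3]
  -- `T` is not inside `C5`
  obtain ⟨t0, ht0, ht0C⟩ : ∃ t0 ∈ T, t0 ∉ C5 := by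
    by_contra hcon
    push Not at hcon
    have : T ≤ C5 := hcon
    have := Subgroup.card_dvd_of_le this
    rw [hT, hC5] at this
    omega
  have hrel : C5.relIndex T = 2 := by
    rw [Subgroup.relIndex_eq_two_iff_exists_notMem_and]
    refine ⟨t0, ht0, ht0C, ?_⟩
    intro b hb
    by_cases hbC : b ∈ C5
    · right; exact hbC
    · left; exact hprod b hb t0 ht0 hbC ht0C
  have hcm := (C5.subgroupOf T).card_mul_index
  rw [← Subgroup.relIndex, hrel, hT] at hcm
  have hcard4 : Nat.card (C5.subgroupOf T) = 4 := by omega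
  have hdvd : Nat.card (C5.subgroupOf T) ∣ 10 := by
    rw [← Subgroup.inf_subgroupOf_right,
      Nat.card_congr (Subgroup.subgroupOfEquivOfLe (inf_le_right : C5 ⊓ T ≤ T)).toEquiv, ← hC5]
    exact Subgroup.card_dvd_of_le inf_le_left
  rw [hcard4] at hdvd
  omega

end Cfsg.Agent.Helper17.G5040
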