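import Mathlib
import Cfsg.Agent.Helper17.G5040b
import Cfsg.Agent.Helper54.G5040D
import Cfsg.Agent.Helper4.Fusion16
import Cfsg.Agent.Helper82.Kill126B

set_option autoImplicit false
set_option linter.style.haveILetI false

/-!
# Order 5040: the case `n_5 = 126` is impossible
-/

namespace Cfsg.Agent.Helper17.G5040

open Cfsg.Agent.Helper17 Subgroup

variable {G : Type*} [Group G] [Finite G] [IsSimpleGroup G]

/-- No simple group of order 5040 has 126 Sylow 5-subgroups. -/
theorem not_n5_126 (h : Nat.card G = 5040) (h126 : Nat.card (Sylow 5 G) = 126) : False := by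
  haveI : Fact (Nat.Prime 5) := ⟨by norm_num⟩
  obtain ⟨P⟩ : Nonempty (Sylow 5 G) := inferInstance
  obtain ⟨hP, hN, hC5⟩ := local5 h P h126
  obtain ⟨c, hc2, hcC, hNc⟩ := exists_c h P h126
  have h240 : ∀ e : G, orderOf e = 2 → e ∈ centralizer ((P : Subgroup G) : Set G) →
      Nat.card (centralizer ({e} : Set G)) = 240 → False :=
    fun e he heP heC => Cfsg.Agent.Helper54.G5040D.kill_126_240 h P h126 e he heP heC
  rcases card_centralizer_c h P h126 c hc2 hNc with hC | hC
  · -- `C(c) = N(P)`
    have huniq := Cfsg.Agent.Helper54.G5040D.conj_unique_in_C5 h P h126 c hc2 hcC (Or.inl hC)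
    rcases hC5 with h10 | h20
    · -- `|C(P)| = 10`
      obtain ⟨S, hS, hcS, hT⟩ := sylow2_setup h P h126 c hc2 hNc hC
      have hNeq : normalizer ((P : Subgroup G) : Set G) = centralizer ({c} : Set G) :=
        Subgroup.eq_of_le_of_card_ge hNc (by rw [hC, hN])
      obtain ⟨y, hyT, hy4⟩ := exists_order_four h P h126 h10
        ((S : Subgroup G) ⊓ centralizer ({c} : Set G)) (by rw [hNeq]; exact inf_le_right) hT
      have hyc : y * c = c * y := by
        have hy2 : y ∈ centralizer ({c} : Set G) := (Subgroup.mem_inf.mp hyT).2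
        rw [Subgroup.mem_centralizer_singleton_iff] at hy2
        exact hy2
      exact Cfsg.Agent.Helper4.Fusion16.no_simple_of_Z2xZ4_centralizer S hS c hc2 hcS
        (by rw [hC]; norm_num) hT y hy4 (Subgroup.mem_inf.mp hyT).1 hyc
    · -- `|C(P)| = 20`
      exact Cfsg.Agent.Helper82.Kill126B.kill_126_B h P h126 h20 c hc2 hcC hNc hC huniq h240
  · exact h240 c hc2 hcC hC

end Cfsg.Agent.Helper17.G5040
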