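import Mathlib

set_option autoImplicit false

/-! The configuration `X = Q ⋊ K` (centralizer of a 2-central involution in a group of
Hall–Janko type), written elementwise.  Used for S3313. -/

namespace Cfsg.Agent.Helper17.J2

/-- The configuration `X = K ⊔ Q` inside a group `G`: `Q` of order 32 with the extraspecial
identities written out elementwise, `z` the central involution, `K ≅ A₅` a complement acting
faithfully. -/
structure Ctx {G : Type*} [Group G] (z : G) (Q K : Subgroup G) : Prop where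
  hz : orderOf z = 2
  hzQ : z ∈ Q
  hzc : ∀ x ∈ K ⊔ Q, x * z = z * x
  hQn : ∀ x ∈ K, ∀ q ∈ Q, x * q * x⁻¹ ∈ Q
  hQcard : Nat.card Q = 32
  sq : ∀ q ∈ Q, q ^ 2 = 1 ∨ q ^ 2 = z
  comm : ∀ a ∈ Q, ∀ b ∈ Q, a * b = b * a ∨ a * b = z * (b * a)
  cen : ∀ a ∈ Q, (∀ b ∈ Q, a * b = b * a) → a = 1 ∨ a = z
  hCQ : ∀ x ∈ K ⊔ Q, (∀ q ∈ Q, x * q = q * x) → x ∈ Q
  hK : Nonempty (↥K ≃* alternatingGroup (Fin 5))
  hKQ' : K ⊓ Q = ⊥

end Cfsg.Agent.Helper17.J2
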