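import Mathlib
import Cfsg.Prelude.Def_Transfer
import Cfsg.Prelude.Def_TwoFusion
import Cfsg.Prelude.Def_Local
import Cfsg.Agent.S0213
import Cfsg.Agent.Helper17.J2Defs
import Cfsg.Agent.Helper25.ProdSup
import Cfsg.Agent.Helper10.Card
import Cfsg.Agent.Helper48.ES2Bridge
import Cfsg.Agent.Helper32.J2L
import Cfsg.Agent.Helper32.J2T
import Cfsg.Agent.Helper4.J2P1ac
import Cfsg.Agent.Helper68.J2P1b
import Cfsg.Agent.Helper68.J2Z0
import Cfsg.Agent.Helper50.J2P1e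
import Cfsg.Agent.Helper50.J2F
import Cfsg.Agent.Helper64.J2C
import Cfsg.Agent.Helper64.J2P1f

/-! # S3313: the order of a simple group with the Hall–Janko involution pattern

Thompson order formula (S0213) with `x₁ = z`, `x₂ = t`:
`|G| = |C(t)| n_z + |C(z)| n_t = 240 * 960 + 1920 * 195 = 604800`.
Pieces contributed by helper4 (P1a, P1c), helper32 (L, T), helper50 (F, P1e), helper64 (C, P1f),
helper68 (Z0, P1b); plan and assembly by helper17. -/

set_option autoImplicit false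

namespace Cfsg.Agent.Helper17.J2

open Cfsg

section pieces

variable {G : Type*} [Group G] [Finite G] {z : G} {Q K : Subgroup G}

omit [Finite G] in
/-- (E) the elementwise extraspecial identities. -/
theorem es32_facts (Q : Subgroup G) (hes : IsExtraspecial 2 ↥Q) (z : G) (hzQ : z ∈ Q)
    (hz : orderOf z = 2) (hzc : ∀ q ∈ Q, q * z = z * q) :
    (∀ q ∈ Q, q ^ 2 = 1 ∨ q ^ 2 = z) ∧ (∀ a ∈ Q, ∀ b ∈ Q, a * b = b * a ∨ a * b = z * (b * a)) ∧
      (∀ a ∈ Q, (∀ b ∈ Q, a * b = b * a) → a = 1 ∨ a = z) := by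
  obtain ⟨z0, hES, hcen⟩ := Cfsg.Agent.Helper48.exists_ES2 hes
  have hz1 : z ≠ 1 := by
    intro h; rw [h, orderOf_one] at hz; omega
  have hzmem : (⟨z, hzQ⟩ : ↥Q) ∈ Subgroup.center ↥Q := by
    rw [Subgroup.mem_center_iff]
    intro q
    exact Subtype.ext (hzc q.1 q.2)
  have hz0 : (z0 : G) = z := by
    rcases (hcen _).mp hzmem with h | h
    · exfalso; exact hz1 (congrArg Subtype.val h)
    · exact (congrArg Subtype.val h).symm
  refine ⟨?_, ?_, ?_⟩
  · intro q hq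
    rcases hES.mul_self_eq ⟨q, hq⟩ with h1 | h1
    · left; rw [pow_two]; exact congrArg Subtype.val h1
    · right; rw [pow_two, ← hz0]; exact congrArg Subtype.val h1
  · intro a ha b hb
    rcases hES.comm ⟨a, ha⟩ ⟨b, hb⟩ with h1 | h1
    · left; exact congrArg Subtype.val h1
    · right; rw [← hz0]; exact congrArg Subtype.val h1
  · intro a ha hall
    rcases hES.center ⟨a, ha⟩ (fun b => Subtype.ext (hall b.1 b.2)) with h1 | h1
    · left; exact congrArg Subtype.val h1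
    · right; rw [← hz0]; exact congrArg Subtype.val h1

end pieces

section assembly

variable {G : Type*} [Group G] [Finite G] {z : G} {Q K : Subgroup G}

theorem isConj_orderOf {H : Type*} [Group H] {a b : H} (h : IsConj a b) : orderOf a = orderOf b := by
  obtain ⟨g, hg⟩ := isConj_iff.mp h
  exact SemiconjBy.orderOf_eq g (show g * a = b * g by rw [← hg]; group)

theorem isConj_conj {H : Type*} [Group H] {a b : H} (g : H) (h : IsConj a b) :
    IsConj a (g * b * g⁻¹) :=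
  h.trans (isConj_iff.mpr ⟨g, rfl⟩)

/-- pair version of (L). -/
theorem card_pairs_fibred (x : G) (S : G → G → Prop)
    (hinv : ∀ g a b, S a b → S (g * a * g⁻¹) (g * b * g⁻¹))
    (hx : ∀ a b, S a b → IsConj x a) :
    Nat.card {p : G × G // S p.1 p.2} * Nat.card (Subgroup.centralizer ({x} : Set G))
      = Nat.card G * Nat.card {b : G // S x b} :=
  Cfsg.Agent.Helper32.J2P.card_fibred (fun g b => g * b * g⁻¹) (fun b => by simp) (fun g h b => by simp [mul_assoc])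
    x S hinv hx

/-- triple version of (L). -/
theorem card_triples_fibred (x : G) (S : G → G → G → Prop)
    (hinv : ∀ g a b c, S a b c → S (g * a * g⁻¹) (g * b * g⁻¹) (g * c * g⁻¹))
    (hx : ∀ a b c, S a b c → IsConj x a) :
    Nat.card {p : G × (G × G) // S p.1 p.2.1 p.2.2} *
        Nat.card (Subgroup.centralizer ({x} : Set G))
      = Nat.card G * Nat.card {q : G × G // S x q.1 q.2} :=
  Cfsg.Agent.Helper32.J2P.card_fibred (β := G × G) (fun g q => (g * q.1 * g⁻¹, g * q.2 * g⁻¹)) (fun b => by simp)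
    (fun g h b => by simp [mul_assoc])
    x (fun a q => S a q.1 q.2) (fun g a q h => hinv g a q.1 q.2 h) (fun a q h => hx a q.1 q.2 h)

/-- (D) double counting of commuting pairs from two classes. -/
theorem card_conj_comm_mul (x y : G) :
    Nat.card {y' : G // IsConj y y' ∧ Commute x y'} *
        Nat.card (Subgroup.centralizer ({y} : Set G))
      = Nat.card {x' : G // IsConj x x' ∧ Commute y x'} *
        Nat.card (Subgroup.centralizer ({x} : Set G)) := by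
  have h1 := card_pairs_fibred x (fun a b => IsConj x a ∧ IsConj y b ∧ Commute a b)
    (fun g a b h => ⟨isConj_conj g h.1, isConj_conj g h.2.1, by
      have := h.2.2.eq
      show g * a * g⁻¹ * (g * b * g⁻¹) = g * b * g⁻¹ * (g * a * g⁻¹)
      calc g * a * g⁻¹ * (g * b * g⁻¹) = g * (a * b) * g⁻¹ := by group
        _ = g * (b * a) * g⁻¹ := by rw [this]
        _ = g * b * g⁻¹ * (g * a * g⁻¹) := by group⟩)
    (fun a b h => h.1)
  have h2 := card_pairs_fibred y (fun b a => IsConj x a ∧ IsConj y b ∧ Commute a b)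
    (fun g b a h => ⟨isConj_conj g h.1, isConj_conj g h.2.1, by
      have := h.2.2.eq
      show g * a * g⁻¹ * (g * b * g⁻¹) = g * b * g⁻¹ * (g * a * g⁻¹)
      calc g * a * g⁻¹ * (g * b * g⁻¹) = g * (a * b) * g⁻¹ := by group
        _ = g * (b * a) * g⁻¹ := by rw [this]
        _ = g * b * g⁻¹ * (g * a * g⁻¹) := by group⟩)
    (fun b a h => h.2.1)
  have e0 : Nat.card {p : G × G // IsConj x p.1 ∧ IsConj y p.2 ∧ Commute p.1 p.2} =
      Nat.card {p : G × G // IsConj x p.2 ∧ IsConj y p.1 ∧ Commute p.2 p.1} :=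
    Nat.card_congr ((Equiv.prodComm G G).subtypeEquiv (fun p => Iff.rfl))
  have e1 : Nat.card {b : G // IsConj x x ∧ IsConj y b ∧ Commute x b} =
      Nat.card {y' : G // IsConj y y' ∧ Commute x y'} :=
    Nat.card_congr (Equiv.subtypeEquivRight (fun b =>
      ⟨fun h => ⟨h.2.1, h.2.2⟩, fun h => ⟨IsConj.refl x, h.1, h.2⟩⟩))
  have e2 : Nat.card {a : G // IsConj x a ∧ IsConj y y ∧ Commute a y} =
      Nat.card {x' : G // IsConj x x' ∧ Commute y x'} :=
    Nat.card_congr (Equiv.subtypeEquivRight (fun b =>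
      ⟨fun h => ⟨h.1, h.2.2.symm⟩, fun h => ⟨h.1, IsConj.refl y, h.2.symm⟩⟩))
  rw [e1] at h1
  rw [e2, ← e0] at h2
  have hG : 0 < Nat.card G := Nat.card_pos
  have : Nat.card G * (Nat.card {y' : G // IsConj y y' ∧ Commute x y'} *
        Nat.card (Subgroup.centralizer ({y} : Set G))) = Nat.card G *
        (Nat.card {x' : G // IsConj x x' ∧ Commute y x'} *
        Nat.card (Subgroup.centralizer ({x} : Set G))) := by
    rw [← mul_assoc, ← h1, ← mul_assoc, ← h2]; ring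
  exact Nat.eq_of_mul_eq_mul_left hG this


theorem natCard_A5 : Nat.card (alternatingGroup (Fin 5)) = 60 := by
  rw [nat_card_alternatingGroup, Nat.card_eq_fintype_card, Fintype.card_fin]; rfl

theorem card_invol_A5_aux :
    Fintype.card {a : alternatingGroup (Fin 5) // a ^ 2 = 1 ∧ a ≠ 1} = 15 := by
  decide +kernel

theorem card_comm_pairs_A5_aux :
    Fintype.card {q : alternatingGroup (Fin 5) × alternatingGroup (Fin 5) //
      (q.1 ^ 2 = 1 ∧ q.1 ≠ 1) ∧ (q.2 ^ 2 = 1 ∧ q.2 ≠ 1) ∧ q.1 ≠ q.2 ∧ q.1 * q.2 = q.2 * q.1} = 30 := by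
  decide +kernel

theorem orderOf_two_iff {H : Type*} [Group H] (a : H) : orderOf a = 2 ↔ a ^ 2 = 1 ∧ a ≠ 1 := by
  have : Fact (Nat.Prime 2) := ⟨Nat.prime_two⟩
  exact orderOf_eq_prime_iff

/-- number of involutions of a subgroup isomorphic to `A₅`. -/
theorem card_invol_A5 {G : Type*} [Group G] (B : Subgroup G)
    (hB : Nonempty (↥B ≃* alternatingGroup (Fin 5))) :
    Nat.card {x : G // x ∈ B ∧ orderOf x = 2} = 15 := by
  obtain ⟨e⟩ := hB
  have e1 : {x : G // x ∈ B ∧ orderOf x = 2} ≃ {b : ↥B // orderOf b = 2} :=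
    { toFun := fun x => ⟨⟨x.1, x.2.1⟩, (Subgroup.orderOf_mk _ _).trans x.2.2⟩
      invFun := fun b => ⟨b.1.1, b.1.2, (Subgroup.orderOf_coe _).trans b.2⟩
      left_inv := fun x => rfl
      right_inv := fun b => rfl }
  have e2 : {b : ↥B // orderOf b = 2} ≃ {a : alternatingGroup (Fin 5) // a ^ 2 = 1 ∧ a ≠ 1} :=
    e.toEquiv.subtypeEquiv (fun b => by
      rw [← orderOf_two_iff]
      show orderOf b = 2 ↔ orderOf (e b) = 2
      rw [MulEquiv.orderOf_eq])
  rw [Nat.card_congr (e1.trans e2), Nat.card_eq_fintype_card]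
  exact card_invol_A5_aux

/-- number of ordered pairs of distinct commuting involutions of a subgroup isomorphic to `A₅`. -/
theorem card_comm_pairs_A5 {G : Type*} [Group G] (B : Subgroup G)
    (hB : Nonempty (↥B ≃* alternatingGroup (Fin 5))) :
    Nat.card {q : G × G // (q.1 ∈ B ∧ orderOf q.1 = 2) ∧ (q.2 ∈ B ∧ orderOf q.2 = 2) ∧
      q.1 ≠ q.2 ∧ q.1 * q.2 = q.2 * q.1} = 30 := by
  obtain ⟨e⟩ := hB
  have e1 : {q : G × G // (q.1 ∈ B ∧ orderOf q.1 = 2) ∧ (q.2 ∈ B ∧ orderOf q.2 = 2) ∧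
      q.1 ≠ q.2 ∧ q.1 * q.2 = q.2 * q.1} ≃
      {q : ↥B × ↥B // orderOf q.1 = 2 ∧ orderOf q.2 = 2 ∧ q.1 ≠ q.2 ∧ q.1 * q.2 = q.2 * q.1} :=
    { toFun := fun x => ⟨(⟨x.1.1, x.2.1.1⟩, ⟨x.1.2, x.2.2.1.1⟩),
        (Subgroup.orderOf_mk _ _).trans x.2.1.2, (Subgroup.orderOf_mk _ _).trans x.2.2.1.2,
        fun h => x.2.2.2.1 (congrArg Subtype.val h), Subtype.ext x.2.2.2.2⟩
      invFun := fun b => ⟨(b.1.1.1, b.1.2.1), ⟨b.1.1.2, (Subgroup.orderOf_coe _).trans b.2.1⟩,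
        ⟨b.1.2.2, (Subgroup.orderOf_coe _).trans b.2.2.1⟩,
        fun h => b.2.2.2.1 (Subtype.ext h), congrArg Subtype.val b.2.2.2.2⟩
      left_inv := fun x => rfl
      right_inv := fun b => rfl }
  have e2 : {q : ↥B × ↥B // orderOf q.1 = 2 ∧ orderOf q.2 = 2 ∧ q.1 ≠ q.2 ∧
      q.1 * q.2 = q.2 * q.1} ≃
      {q : alternatingGroup (Fin 5) × alternatingGroup (Fin 5) //
      (q.1 ^ 2 = 1 ∧ q.1 ≠ 1) ∧ (q.2 ^ 2 = 1 ∧ q.2 ≠ 1) ∧ q.1 ≠ q.2 ∧ q.1 * q.2 = q.2 * q.1} :=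
    (Equiv.prodCongr e.toEquiv e.toEquiv).subtypeEquiv (fun q => by
      rw [← orderOf_two_iff, ← orderOf_two_iff]
      show _ ↔ orderOf (e q.1) = 2 ∧ orderOf (e q.2) = 2 ∧ e q.1 ≠ e q.2 ∧
        e q.1 * e q.2 = e q.2 * e q.1
      rw [MulEquiv.orderOf_eq, MulEquiv.orderOf_eq, ← map_mul, ← map_mul, e.injective.ne_iff,
        e.injective.eq_iff])
  rw [Nat.card_congr (e1.trans e2), Nat.card_eq_fintype_card]
  exact card_comm_pairs_A5_aux

/-- (DH) an involution in the cyclic group generated by the product of two involutions is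
centralized by both. -/
theorem commute_of_mem_zpowers_mul {G : Type*} [Group G] (a b s : G) (ha : orderOf a = 2)
    (hb : orderOf b = 2) (hs : orderOf s = 2) (h : s ∈ Subgroup.zpowers (a * b)) :
    a * s = s * a ∧ b * s = s * b := by
  have haa : a * a = 1 := by rw [← pow_two, ← ha]; exact pow_orderOf_eq_one a
  have hbb : b * b = 1 := by rw [← pow_two, ← hb]; exact pow_orderOf_eq_one b
  have hss : s * s = 1 := by rw [← pow_two, ← hs]; exact pow_orderOf_eq_one s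
  have hainv : a⁻¹ = a := inv_eq_of_mul_eq_one_left haa
  have hbinv : b⁻¹ = b := inv_eq_of_mul_eq_one_left hbb
  have hsinv : s⁻¹ = s := inv_eq_of_mul_eq_one_left hss
  obtain ⟨k, hk⟩ := Subgroup.mem_zpowers_iff.mp h
  have h1 : a * (a * b) * a⁻¹ = (a * b)⁻¹ := by
    rw [mul_inv_rev, hainv, hbinv]
    calc a * (a * b) * a = (a * a) * (b * a) := by group
      _ = b * a := by rw [haa, one_mul]
  have h2 : b * (a * b) * b⁻¹ = (a * b)⁻¹ := by
    rw [mul_inv_rev, hainv, hbinv]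
    calc b * (a * b) * b = (b * a) * (b * b) := by group
      _ = b * a := by rw [hbb, mul_one]
  have h3 : a * s * a⁻¹ = s := by
    rw [← hk, ← conj_zpow, h1, inv_zpow, hk, hsinv]
  have h4 : b * s * b⁻¹ = s := by
    rw [← hk, ← conj_zpow, h2, inv_zpow, hk, hsinv]
  constructor
  · calc a * s = (a * s * a⁻¹) * a := by group
      _ = s * a := by rw [h3]
  · calc b * s = (b * s * b⁻¹) * b := by group
      _ = s * b := by rw [h4]


/-- (P1) `Q` has exactly 10 non-central involutions, and two commuting ones lie in the same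
coset of `⟨z⟩`. -/
theorem inv10 (c : Ctx z Q K) :
    Nat.card {u : G // u ∈ Q ∧ orderOf u = 2 ∧ u ≠ z} = 10 ∧
      ∀ u ∈ Q, orderOf u = 2 → u ≠ z → ∀ u' ∈ Q, orderOf u' = 2 → u * u' = u' * u →
        u' = z ∨ u' = u ∨ u' = u * z := by
  have hz1 : z ≠ 1 := by
    intro h; have := c.hz; rw [h, orderOf_one] at this; omega
  have hzz : z * z = 1 := by rw [← pow_two, ← c.hz]; exact pow_orderOf_eq_one z
  -- the key count for any noncentral involution
  have key : ∀ u : G, u ∈ Q → orderOf u = 2 → u ≠ z →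
      Nat.card {u' : G // u' ∈ Q ∧ orderOf u' = 2 ∧ u' ≠ z} = 10 ∧
      Nat.card {b : G // b ∈ Q ∧ u * b = b * u ∧ b ^ 2 = 1} = 4 := by
    intro u hu hu2 huz
    have hu1 : u ≠ 1 := by
      intro h; rw [h, orderOf_one] at hu2; omega
    have h1 := Cfsg.Agent.Helper4.J2P1.card_T_eq c u hu hu2 huz
    have h2 := Cfsg.Agent.Helper64.J2P.four_dvd_D c u hu hu2 huz
    have h3 := Cfsg.Agent.Helper68.J2P.five_dvd_T c
    have h4 : Nat.card {b : G // b ∈ Q ∧ u * b = b * u ∧ b ^ 2 = 1} ≤ 16 := by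
      rw [← Cfsg.Agent.Helper4.J2P1.cent16 c u hu hu1 huz]
      exact Nat.card_le_card_of_injective
        (fun b : {b : G // b ∈ Q ∧ u * b = b * u ∧ b ^ 2 = 1} =>
          (⟨b.1, b.2.1, b.2.2.1⟩ : {b : G // b ∈ Q ∧ u * b = b * u}))
        (fun a b h => Subtype.ext (by simpa using congrArg Subtype.val h))
    have h5 : 0 < Nat.card {b : G // b ∈ Q ∧ u * b = b * u ∧ b ^ 2 = 1} := by
      have : Nonempty {b : G // b ∈ Q ∧ u * b = b * u ∧ b ^ 2 = 1} :=
        ⟨⟨1, Q.one_mem, by simp, by simp⟩⟩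
      exact Nat.card_pos
    omega
  obtain ⟨u1, hu1Q, hu12, hu1z⟩ := Cfsg.Agent.Helper50.J2P1e.T_nonempty c
  refine ⟨(key u1 hu1Q hu12 hu1z).1, ?_⟩
  intro u hu hu2 huz u' hu' hu'2 hcomm
  by_contra hcon
  push Not at hcon
  obtain ⟨h1, h2, h3⟩ := hcon
  have hu1 : u ≠ 1 := by
    intro h; rw [h, orderOf_one] at hu2; omega
  have hu'1 : u' ≠ 1 := by
    intro h; rw [h, orderOf_one] at hu'2; omega
  have huu : u * u = 1 := by rw [← pow_two, ← hu2]; exact pow_orderOf_eq_one u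
  have hu'u' : u' ^ 2 = 1 := by rw [← hu'2]; exact pow_orderOf_eq_one u'
  have hzcQ : ∀ q ∈ Q, q * z = z * q := fun q hq => c.hzc q (Subgroup.mem_sup_right hq)
  have hd := (key u hu hu2 huz).2
  classical
  -- five distinct elements of the set `D`
  let f : Fin 5 → {b : G // b ∈ Q ∧ u * b = b * u ∧ b ^ 2 = 1} := fun i =>
    match i with
    | 0 => ⟨1, Q.one_mem, by simp, by simp⟩
    | 1 => ⟨u, hu, rfl, by rw [pow_two]; exact huu⟩
    | 2 => ⟨z, c.hzQ, hzcQ u hu, by rw [pow_two]; exact hzz⟩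
    | 3 => ⟨u * z, Q.mul_mem hu c.hzQ, by
                calc u * (u * z) = u * (z * u) := by rw [hzcQ u hu]
                  _ = (u * z) * u := by group
              , by
                rw [pow_two]
                calc u * z * (u * z) = u * (z * u) * z := by group
                  _ = u * (u * z) * z := by rw [hzcQ u hu]
                  _ = (u * u) * (z * z) := by group
                  _ = 1 := by rw [huu, hzz, one_mul]⟩
    | 4 => ⟨u', hu', hcomm, hu'u'⟩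
  have hf : Function.Injective f := by
    intro i j hij
    have huz1 : u * z ≠ 1 := by
      intro h
      apply huz
      calc u = u * (z * z) := by rw [hzz, mul_one]
        _ = (u * z) * z := by group
        _ = z := by rw [h, one_mul]
    have huzu : u * z ≠ u := by
      intro h; apply hz1
      calc z = u⁻¹ * (u * z) := by group
        _ = 1 := by rw [h]; group
    have huzz : u * z ≠ z := by
      intro h; apply hu1
      calc u = (u * z) * z⁻¹ := by group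
        _ = 1 := by rw [h]; group
    fin_cases i <;> fin_cases j <;> first
      | rfl
      | (exfalso
         have hv := congrArg Subtype.val hij
         simp only [f] at hv
         first
           | exact hu1 hv | exact hu1 hv.symm | exact hz1 hv | exact hz1 hv.symm
           | exact huz1 hv | exact huz1 hv.symm | exact hu'1 hv | exact hu'1 hv.symm
           | exact huz hv | exact huz hv.symm | exact huzu hv | exact huzu hv.symm
           | exact h2 hv | exact h2 hv.symm | exact huzz hv | exact huzz hv.symm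
           | exact h1 hv | exact h1 hv.symm | exact h3 hv | exact h3 hv.symm)
  have := Nat.card_le_card_of_injective f hf
  rw [hd, Nat.card_eq_fintype_card, Fintype.card_fin] at this
  omega

theorem card_split {α : Type*} [Finite α] (A C : α → Prop) :
    Nat.card {p : α // A p} = Nat.card {p : α // A p ∧ C p} + Nat.card {p : α // A p ∧ ¬ C p} := by
  classical
  rw [← Nat.card_sum]
  apply Nat.card_congr
  exact ((Equiv.sumCompl (fun q : {p : α // A p} => C q.1)).symm).trans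
    (Equiv.sumCongr (Equiv.subtypeSubtypeEquivSubtypeInter A C)
      (Equiv.subtypeSubtypeEquivSubtypeInter A (fun p => ¬ C p)))

/-- The core count: `960` pairs. -/
theorem card_nz_core (c : Ctx z Q K)
    (h120 : Nat.card {x : G // x ∈ K ⊔ Q ∧ x ∉ Q ∧ orderOf x = 2} = 120)
    (h240 : Nat.card {p : G × G // ((p.1 ∈ Q ∧ orderOf p.1 = 2 ∧ p.1 ≠ z) ∧
      (p.2 ∈ K ⊔ Q ∧ p.2 ∉ Q ∧ orderOf p.2 = 2)) ∧ p.1 * p.2 = p.2 * p.1} = 240) :
    Nat.card {p : G × G // p.1 ∈ Q ∧ orderOf p.1 = 2 ∧ p.2 ∈ K ⊔ Q ∧ p.2 ∉ Q ∧ orderOf p.2 = 2 ∧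
      z ∈ Subgroup.zpowers (p.1 * p.2)} = 960 := by
  obtain ⟨h10, hC⟩ := inv10 c
  -- all pairs
  have hall : Nat.card {p : G × G // (p.1 ∈ Q ∧ orderOf p.1 = 2 ∧ p.1 ≠ z) ∧
      (p.2 ∈ K ⊔ Q ∧ p.2 ∉ Q ∧ orderOf p.2 = 2)} = 1200 := by
    rw [Nat.card_congr (Equiv.subtypeProdEquivProd
      (p := fun a : G => a ∈ Q ∧ orderOf a = 2 ∧ a ≠ z)
      (q := fun b : G => b ∈ K ⊔ Q ∧ b ∉ Q ∧ orderOf b = 2)), Nat.card_prod, h10, h120]
  -- split by commuting
  have hsplit : Nat.card {p : G × G // (p.1 ∈ Q ∧ orderOf p.1 = 2 ∧ p.1 ≠ z) ∧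
      (p.2 ∈ K ⊔ Q ∧ p.2 ∉ Q ∧ orderOf p.2 = 2)} =
      Nat.card {p : G × G // ((p.1 ∈ Q ∧ orderOf p.1 = 2 ∧ p.1 ≠ z) ∧
        (p.2 ∈ K ⊔ Q ∧ p.2 ∉ Q ∧ orderOf p.2 = 2)) ∧ p.1 * p.2 = p.2 * p.1} +
      Nat.card {p : G × G // ((p.1 ∈ Q ∧ orderOf p.1 = 2 ∧ p.1 ≠ z) ∧
        (p.2 ∈ K ⊔ Q ∧ p.2 ∉ Q ∧ orderOf p.2 = 2)) ∧ ¬ p.1 * p.2 = p.2 * p.1} := by
    exact card_split _ _
  have htarget : Nat.card {p : G × G // p.1 ∈ Q ∧ orderOf p.1 = 2 ∧ p.2 ∈ K ⊔ Q ∧ p.2 ∉ Q ∧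
      orderOf p.2 = 2 ∧ z ∈ Subgroup.zpowers (p.1 * p.2)} =
      Nat.card {p : G × G // ((p.1 ∈ Q ∧ orderOf p.1 = 2 ∧ p.1 ≠ z) ∧
        (p.2 ∈ K ⊔ Q ∧ p.2 ∉ Q ∧ orderOf p.2 = 2)) ∧ ¬ p.1 * p.2 = p.2 * p.1} := by
    apply Nat.card_congr
    apply Equiv.subtypeEquivRight
    intro p
    constructor
    · rintro ⟨h1, h2, h3, h4, h5, h6⟩
      have := (Cfsg.Agent.Helper64.J2P.zpowers_criterion c hC p.1 p.2 h1 h2 h3 h4 h5).mp h6
      exact ⟨⟨⟨h1, h2, this.1⟩, h3, h4, h5⟩, this.2⟩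
    · rintro ⟨⟨⟨h1, h2, h7⟩, h3, h4, h5⟩, h8⟩
      exact ⟨h1, h2, h3, h4, h5, (Cfsg.Agent.Helper64.J2P.zpowers_criterion c hC p.1 p.2 h1 h2 h3 h4 h5).mpr ⟨h7, h8⟩⟩
  rw [htarget]
  omega


theorem final
    (z t : G) (hz : orderOf z = 2) (ht : orderOf t = 2)
    (hzt : ¬ IsConj z t) (hcl : ∀ x : G, orderOf x = 2 → IsConj x z ∨ IsConj x t)
    (hex : Cfsg.IsExtraspecial 2 ↥(Cfsg.generalizedFittingSubgroup ↥(Subgroup.centralizer ({z} : Set G))))
    (hQ : Nat.card ↥(Cfsg.pCore 2 ↥(Subgroup.centralizer ({z} : Set G))) = 32)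
    (K : Subgroup G) (hK : Nonempty (↥K ≃* alternatingGroup (Fin 5)))
    (hKC : K ⊔ (Cfsg.pCore 2 ↥(Subgroup.centralizer ({z} : Set G))).map (Subgroup.centralizer ({z} : Set G)).subtype = Subgroup.centralizer ({z} : Set G))
    (hKQ : K ⊓ (Cfsg.pCore 2 ↥(Subgroup.centralizer ({z} : Set G))).map (Subgroup.centralizer ({z} : Set G)).subtype = ⊥)
    (hQz : ∀ x ∈ (Cfsg.pCore 2 ↥(Subgroup.centralizer ({z} : Set G))).map (Subgroup.centralizer ({z} : Set G)).subtype, orderOf x = 2 → IsConj x z)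
    (hCz : ∀ x ∈ Subgroup.centralizer ({z} : Set G), orderOf x = 2 →
      x ∉ (Cfsg.pCore 2 ↥(Subgroup.centralizer ({z} : Set G))).map (Subgroup.centralizer ({z} : Set G)).subtype → IsConj x t)
    (V B : Subgroup G) (hVB : Cfsg.IsInternalDirectProduct V B (Subgroup.centralizer ({t} : Set G)))
    (hV : Nat.card ↥V = 4) (hV2 : ∀ v ∈ V, v ^ 2 = 1) (htV : t ∈ V) (hB : Nonempty (↥B ≃* alternatingGroup (Fin 5)))
    (hBz : ∀ x ∈ B, orderOf x = 2 → IsConj x z)
    (hCt : ∀ x ∈ Subgroup.centralizer ({t} : Set G), orderOf x = 2 → x ∉ B → IsConj x t) :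
    Nat.card G = 604800 := by
  obtain ⟨hzQ, hQnorm, hQes, hCQ⟩ := Cfsg.Agent.Helper50.J2F.fstar_facts z hz hex
  generalize hQdef : (Cfsg.pCore 2 ↥(Subgroup.centralizer ({z} : Set G))).map
    (Subgroup.centralizer ({z} : Set G)).subtype = Q at *
  have hQX : Q ≤ Subgroup.centralizer ({z} : Set G) := by
    rw [← hQdef]; exact Subgroup.map_subtype_le _
  have hzcX : ∀ x ∈ Subgroup.centralizer ({z} : Set G), x * z = z * x := fun x hx =>
    Subgroup.mem_centralizer_singleton_iff.mp hx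
  obtain ⟨hsq, hcomm, hcen⟩ := es32_facts Q hQes z hzQ hz (fun q hq => hzcX q (hQX hq))
  have hQcard : Nat.card Q = 32 := by
    rw [← hQdef, ← hQ]
    exact (Nat.card_congr ((Cfsg.pCore 2 ↥(Subgroup.centralizer ({z} : Set G))).equivMapOfInjective
      _ (Subgroup.subtype_injective _)).toEquiv).symm
  have hKX : K ≤ Subgroup.centralizer ({z} : Set G) := hKC ▸ le_sup_left
  have ctx : Ctx z Q K :=
    { hz := hz
      hzQ := hzQ
      hzc := fun x hx => hzcX x (hKC ▸ hx)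
      hQn := fun x hx q hq => hQnorm x (hKX hx) q hq
      hQcard := hQcard
      sq := hsq
      comm := hcomm
      cen := hcen
      hCQ := fun x hx h => hCQ x (hKC ▸ hx) h
      hK := hK
      hKQ' := hKQ }
  -- sizes
  have hKcard : Nat.card K = 60 := by
    obtain ⟨e⟩ := hK
    rw [Nat.card_congr e.toEquiv, natCard_A5]
  have hBcard : Nat.card B = 60 := by
    obtain ⟨e⟩ := hB
    rw [Nat.card_congr e.toEquiv, natCard_A5]
  have hXcard : Nat.card (Subgroup.centralizer ({z} : Set G)) = 1920 := by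
    have hn : K ≤ Subgroup.normalizer (Q : Set G) := by
      intro x hx
      rw [Subgroup.mem_normalizer_iff]
      intro q
      constructor
      · intro hq; exact hQnorm x (hKX hx) q hq
      · intro hq
        have := hQnorm x⁻¹ (inv_mem (hKX hx)) _ hq
        simpa [mul_assoc] using this
    have h := Helper10.card_sup_mul_card_inf K Q hn
    rw [hKC, hKQ, Subgroup.card_bot, hKcard, hQcard] at h
    omega
  have hTcard : Nat.card (Subgroup.centralizer ({t} : Set G)) = 240 := by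
    obtain ⟨-, -, hc, hd, hs⟩ := hVB
    rw [← hs, Helper25.card_sup_eq_mul hd hc, hV, hBcard]
  -- membership characterisations
  have hmemT : ∀ x : G, (IsConj t x ∧ x * z = z * x) ↔
      (x ∈ K ⊔ Q ∧ x ∉ Q ∧ orderOf x = 2) := by
    intro x
    rw [hKC]
    constructor
    · rintro ⟨hc, hcm⟩
      have hx2 : orderOf x = 2 := (isConj_orderOf hc).symm.trans ht
      refine ⟨Subgroup.mem_centralizer_singleton_iff.mpr hcm, ?_, hx2⟩
      intro hxQ
      exact hzt ((hQz x hxQ hx2).symm.trans hc.symm)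
    · rintro ⟨hxX, hxQ, hx2⟩
      exact ⟨(hCz x hxX hx2 hxQ).symm, Subgroup.mem_centralizer_singleton_iff.mp hxX⟩
  have hmemZ : ∀ x : G, (IsConj z x ∧ x * z = z * x ∧ x ≠ z) ↔
      (x ∈ Q ∧ orderOf x = 2 ∧ x ≠ z) := by
    intro x
    constructor
    · rintro ⟨hc, hcm, hne⟩
      have hx2 : orderOf x = 2 := (isConj_orderOf hc).symm.trans hz
      refine ⟨?_, hx2, hne⟩
      by_contra hxQ
      exact hzt (hc.trans (hCz x (Subgroup.mem_centralizer_singleton_iff.mpr hcm) hx2 hxQ))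
    · rintro ⟨hxQ, hx2, hne⟩
      exact ⟨(hQz x hxQ hx2).symm, hzcX x (hQX hxQ), hne⟩
  have hmemB : ∀ x : G, (IsConj z x ∧ x * t = t * x) ↔ (x ∈ B ∧ orderOf x = 2) := by
    intro x
    constructor
    · rintro ⟨hc, hcm⟩
      have hx2 : orderOf x = 2 := (isConj_orderOf hc).symm.trans hz
      refine ⟨?_, hx2⟩
      by_contra hxB
      have := hCt x (Subgroup.mem_centralizer_singleton_iff.mpr hcm) hx2 hxB
      exact hzt (hc.trans this)
    · rintro ⟨hxB, hx2⟩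
      refine ⟨(hBz x hxB hx2).symm, ?_⟩
      have : x ∈ Subgroup.centralizer ({t} : Set G) := hVB.2.1 hxB
      exact Subgroup.mem_centralizer_singleton_iff.mp this
  -- double counting: 120 involutions outside Q
  have hD := card_conj_comm_mul z t
  have e1 : Nat.card {y' : G // IsConj t y' ∧ Commute z y'} =
      Nat.card {x : G // x ∈ K ⊔ Q ∧ x ∉ Q ∧ orderOf x = 2} := by
    apply Nat.card_congr
    apply Equiv.subtypeEquivRight
    intro x
    rw [← hmemT x]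
    exact ⟨fun h => ⟨h.1, h.2.eq.symm⟩, fun h => ⟨h.1, h.2.symm⟩⟩
  have e2 : Nat.card {x' : G // IsConj z x' ∧ Commute t x'} =
      Nat.card {x : G // x ∈ B ∧ orderOf x = 2} := by
    apply Nat.card_congr
    apply Equiv.subtypeEquivRight
    intro x
    rw [← hmemB x]
    exact ⟨fun h => ⟨h.1, h.2.eq.symm⟩, fun h => ⟨h.1, h.2.symm⟩⟩
  rw [e1, e2, card_invol_A5 B hB, hTcard, hXcard] at hD
  have h120 : Nat.card {x : G // x ∈ K ⊔ Q ∧ x ∉ Q ∧ orderOf x = 2} = 120 := by omega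
  -- triple counting: 240 commuting pairs
  have hconjmul : ∀ g a b : G, a * b = b * a → g * a * g⁻¹ * (g * b * g⁻¹) =
      g * b * g⁻¹ * (g * a * g⁻¹) := by
    intro g a b h
    calc g * a * g⁻¹ * (g * b * g⁻¹) = g * (a * b) * g⁻¹ := by group
      _ = g * (b * a) * g⁻¹ := by rw [h]
      _ = g * b * g⁻¹ * (g * a * g⁻¹) := by group
  have hSinv : ∀ g a b c : G,
      (IsConj z a ∧ IsConj z b ∧ IsConj t c ∧ a ≠ b ∧ a * b = b * a ∧ a * c = c * a ∧
        b * c = c * b) →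
      (IsConj z (g * a * g⁻¹) ∧ IsConj z (g * b * g⁻¹) ∧ IsConj t (g * c * g⁻¹) ∧
        g * a * g⁻¹ ≠ g * b * g⁻¹ ∧ g * a * g⁻¹ * (g * b * g⁻¹) = g * b * g⁻¹ * (g * a * g⁻¹) ∧
        g * a * g⁻¹ * (g * c * g⁻¹) = g * c * g⁻¹ * (g * a * g⁻¹) ∧
        g * b * g⁻¹ * (g * c * g⁻¹) = g * c * g⁻¹ * (g * b * g⁻¹)) := by
    rintro g a b c ⟨h1, h2, h3, h4, h5, h6, h7⟩
    refine ⟨isConj_conj g h1, isConj_conj g h2, isConj_conj g h3, ?_, hconjmul g a b h5,
      hconjmul g a c h6, hconjmul g b c h7⟩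
    intro h
    apply h4
    have := congrArg (fun x => g⁻¹ * x * g) h
    simpa [mul_assoc] using this
  have hT1 := card_triples_fibred z
    (fun a b c => IsConj z a ∧ IsConj z b ∧ IsConj t c ∧ a ≠ b ∧ a * b = b * a ∧ a * c = c * a ∧
        b * c = c * b) hSinv (fun a b c h => h.1)
  have hT2 := card_triples_fibred t
    (fun c a b => IsConj z a ∧ IsConj z b ∧ IsConj t c ∧ a ≠ b ∧ a * b = b * a ∧ a * c = c * a ∧
        b * c = c * b) (fun g c a b h => hSinv g a b c h) (fun c a b h => h.2.2.1)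
  have e0 : Nat.card {p : G × (G × G) // IsConj z p.1 ∧ IsConj z p.2.1 ∧ IsConj t p.2.2 ∧
      p.1 ≠ p.2.1 ∧ p.1 * p.2.1 = p.2.1 * p.1 ∧ p.1 * p.2.2 = p.2.2 * p.1 ∧
      p.2.1 * p.2.2 = p.2.2 * p.2.1} =
      Nat.card {p : G × (G × G) // IsConj z p.2.1 ∧ IsConj z p.2.2 ∧ IsConj t p.1 ∧
      p.2.1 ≠ p.2.2 ∧ p.2.1 * p.2.2 = p.2.2 * p.2.1 ∧ p.2.1 * p.1 = p.1 * p.2.1 ∧
      p.2.2 * p.1 = p.1 * p.2.2} := by
    apply Nat.card_congr
    exact (({ toFun := fun p => (p.2.2, (p.1, p.2.1))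
              invFun := fun q => (q.2.1, (q.2.2, q.1))
              left_inv := fun p => rfl
              right_inv := fun q => rfl } : G × (G × G) ≃ G × (G × G)).subtypeEquiv
      (fun p => Iff.rfl))
  have e3 : Nat.card {q : G × G // IsConj z z ∧ IsConj z q.1 ∧ IsConj t q.2 ∧
      z ≠ q.1 ∧ z * q.1 = q.1 * z ∧ z * q.2 = q.2 * z ∧ q.1 * q.2 = q.2 * q.1} =
      Nat.card {p : G × G // ((p.1 ∈ Q ∧ orderOf p.1 = 2 ∧ p.1 ≠ z) ∧
      (p.2 ∈ K ⊔ Q ∧ p.2 ∉ Q ∧ orderOf p.2 = 2)) ∧ p.1 * p.2 = p.2 * p.1} := by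
    apply Nat.card_congr
    apply Equiv.subtypeEquivRight
    intro q
    rw [← hmemT q.2, ← hmemZ q.1]
    constructor
    · rintro ⟨-, h2, h3, h4, h5, h6, h7⟩
      exact ⟨⟨⟨h2, h5.symm, fun h => h4 h.symm⟩, h3, h6.symm⟩, h7⟩
    · rintro ⟨⟨⟨h2, h5, h4⟩, h3, h6⟩, h7⟩
      exact ⟨IsConj.refl z, h2, h3, fun h => h4 h.symm, h5.symm, h6.symm, h7⟩
  have e4 : Nat.card {q : G × G // IsConj z q.1 ∧ IsConj z q.2 ∧ IsConj t t ∧
      q.1 ≠ q.2 ∧ q.1 * q.2 = q.2 * q.1 ∧ q.1 * t = t * q.1 ∧ q.2 * t = t * q.2} =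
      Nat.card {q : G × G // (q.1 ∈ B ∧ orderOf q.1 = 2) ∧ (q.2 ∈ B ∧ orderOf q.2 = 2) ∧
      q.1 ≠ q.2 ∧ q.1 * q.2 = q.2 * q.1} := by
    apply Nat.card_congr
    apply Equiv.subtypeEquivRight
    intro q
    rw [← hmemB q.1, ← hmemB q.2]
    constructor
    · rintro ⟨h1, h2, -, h4, h5, h6, h7⟩
      exact ⟨⟨h1, h6⟩, ⟨h2, h7⟩, h4, h5⟩
    · rintro ⟨⟨h1, h6⟩, ⟨h2, h7⟩, h4, h5⟩
      exact ⟨h1, h2, IsConj.refl t, h4, h5, h6, h7⟩
  rw [e3, hXcard] at hT1
  rw [← e0, e4, card_comm_pairs_A5 B hB, hTcard] at hT2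
  have h240 : Nat.card {p : G × G // ((p.1 ∈ Q ∧ orderOf p.1 = 2 ∧ p.1 ≠ z) ∧
      (p.2 ∈ K ⊔ Q ∧ p.2 ∉ Q ∧ orderOf p.2 = 2)) ∧ p.1 * p.2 = p.2 * p.1} = 240 := by
    have hG : 0 < Nat.card G := Nat.card_pos
    generalize Nat.card {p : G × (G × G) // IsConj z p.1 ∧ IsConj z p.2.1 ∧ IsConj t p.2.2 ∧
      p.1 ≠ p.2.1 ∧ p.1 * p.2.1 = p.2.1 * p.1 ∧ p.1 * p.2.2 = p.2.2 * p.1 ∧
      p.2.1 * p.2.2 = p.2.2 * p.2.1} = N at hT1 hT2
    generalize Nat.card {p : G × G // ((p.1 ∈ Q ∧ orderOf p.1 = 2 ∧ p.1 ≠ z) ∧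
      (p.2 ∈ K ⊔ Q ∧ p.2 ∉ Q ∧ orderOf p.2 = 2)) ∧ p.1 * p.2 = p.2 * p.1} = P at hT1 ⊢
    generalize Nat.card G = g at hT1 hT2 hG
    have hg : g = 8 * N := by omega
    have hN : 0 < N := by omega
    have : N * 1920 = N * (8 * P) := by rw [hT1, hg]; ring
    have := Nat.eq_of_mul_eq_mul_left hN this
    omega
  -- the two Thompson counts
  have hnz := Cfsg.Agent.Helper68.J2P.card_nz_reduce z t hz ht hzt Q hQX hQz hCz
  have hnz' : Nat.card {p : G × G // p.1 ∈ Q ∧ orderOf p.1 = 2 ∧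
          p.2 ∈ Subgroup.centralizer ({z} : Set G) ∧ p.2 ∉ Q ∧ orderOf p.2 = 2 ∧
          z ∈ Subgroup.zpowers (p.1 * p.2)} = 960 := by
    rw [← card_nz_core ctx h120 h240]
    apply Nat.card_congr
    apply Equiv.subtypeEquivRight
    intro p
    rw [hKC]
  have hnt := Cfsg.Agent.Helper32.J2P.card_nt z t hz ht hzt V B hVB hV2 htV hB hBz hCt
  have hS := Cfsg.Agent.S0213.result z t hz ht hzt
    (fun x hx => (hcl x hx).imp IsConj.symm IsConj.symm)
  rw [hS, hnz, hnz', hnt, hTcard, hXcard]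

end assembly

end Cfsg.Agent.Helper17.J2
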