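import Mathlib
import Cfsg.Agent.Helper17.SylowKit

set_option autoImplicit false

/-!
# The `K → S_k` trick (numeric form)

Let `P` be a Sylow `p`-subgroup of prime order `p` of a finite group `G` acting faithfully on its
Sylow `p`-subgroups by conjugation (e.g. `G` simple, `n_p ≠ 1`), and write `n_p = 1 + p * k`.
Then `C_G(P)` embeds in the centralizer of a permutation of cycle type `p ^ k` fixing one point,
hence `|C_G(P)|` divides `p * k!`.
-/

namespace Cfsg.Agent.Helper17

open Subgroup

variable {G : Type*} [Group G]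

/-- In a simple group with more than one Sylow `p`-subgroup, only the identity normalizes every
Sylow `p`-subgroup. -/
theorem eq_one_of_forall_smul_sylow_eq [Finite G] [IsSimpleGroup G] {p : ℕ} [Fact p.Prime]
    (hne : Nat.card (Sylow p G) ≠ 1) (g : G) (hg : ∀ Q : Sylow p G, g • Q = Q) : g = 1 := by
  let ρ : G →* Equiv.Perm (Sylow p G) := MulAction.toPermHom G (Sylow p G)
  rcases (ρ.normal_ker).eq_bot_or_eq_top with h | h
  · have : g ∈ ρ.ker := by
      rw [MonoidHom.mem_ker]
      refine Equiv.ext fun Q => ?_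
      exact hg Q
    rw [h] at this
    exact Subgroup.mem_bot.mp this
  · exfalso
    apply hne
    obtain ⟨P⟩ : Nonempty (Sylow p G) := inferInstance
    have hsub : ∀ Q : Sylow p G, Q = P := by
      intro Q
      obtain ⟨x, hx⟩ := MulAction.exists_smul_eq G P Q
      have hxk : x ∈ ρ.ker := by rw [h]; exact Subgroup.mem_top x
      rw [MonoidHom.mem_ker] at hxk
      have : ρ x P = P := by rw [hxk]; rfl
      rw [← hx]
      exact this
    have : Subsingleton (Sylow p G) := ⟨fun a b => (hsub a).trans (hsub b).symm⟩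
    exact Nat.card_unique

/-- **`K → S_k`, numeric form.** -/
theorem card_centralizer_dvd_mul_factorial [Finite G] {p : ℕ} [hp : Fact p.Prime]
    (P : Sylow p G) (hP : Nat.card (P : Subgroup G) = p)
    (hfaith : ∀ g : G, (∀ Q : Sylow p G, g • Q = Q) → g = 1)
    (k : ℕ) (hk : Nat.card (Sylow p G) = 1 + p * k) :
    Nat.card (centralizer ((P : Subgroup G) : Set G)) ∣ p * k.factorial := by
  classical
  let _ : Fintype (Sylow p G) := Fintype.ofFinite _
  have hp1 : 1 < p := hp.out.one_lt
  -- a generator of `P`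
  obtain ⟨g0, hg0⟩ : ∃ g0 : (P : Subgroup G), orderOf g0 = p := by
    have : Fact (Nat.card (P : Subgroup G)).Prime := ⟨by rw [hP]; exact hp.out⟩
    obtain ⟨g, hg⟩ := isCyclic_iff_exists_orderOf_eq_natCard.mp
      (isCyclic_of_prime_card (α := (P : Subgroup G)) (p := p) hP)
    exact ⟨g, by rw [hg, hP]⟩
  have hg0' : orderOf (g0 : G) = p := by rw [Subgroup.orderOf_coe]; exact hg0
  have hPz : (P : Subgroup G) = zpowers (g0 : G) := by
    symm
    apply Subgroup.eq_of_le_of_card_ge (zpowers_le.mpr g0.2)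
    rw [Nat.card_zpowers, hg0', hP]
  let ρ : G →* Equiv.Perm (Sylow p G) := MulAction.toPermHom G (Sylow p G)
  have hρinj : Function.Injective ρ := by
    rw [injective_iff_map_eq_one]
    intro g hg
    apply hfaith
    intro Q
    have : ρ g Q = Q := by rw [hg]; rfl
    exact this
  set σ : Equiv.Perm (Sylow p G) := ρ (g0 : G) with hσ
  have hσord : orderOf σ = p := by rw [hσ, orderOf_injective ρ hρinj, hg0']
  -- fixed points
  have hfixP : σ P = P := by
    change (g0 : G) • P = P
    rw [Sylow.smul_eq_iff_mem_normalizer]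
    exact le_normalizer g0.2
  have hfix : ∀ Q : Sylow p G, σ Q = Q → Q = P := by
    intro Q hQ
    have hQ' : (g0 : G) ∈ normalizer ((Q : Subgroup G) : Set G) :=
      Sylow.smul_eq_iff_mem_normalizer.mp hQ
    have hz : IsPGroup p (zpowers (g0 : G)) :=
      IsPGroup.of_card (n := 1) (by rw [Nat.card_zpowers, hg0', pow_one])
    have h1 := hz.inf_normalizer_sylow Q
    have hg0Q : (g0 : G) ∈ (Q : Subgroup G) := (h1.le ⟨mem_zpowers _, hQ'⟩).2
    have hle : (P : Subgroup G) ≤ Q := by rw [hPz]; exact zpowers_le.mpr hg0Q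
    exact Sylow.ext (P.is_maximal' Q.isPGroup' hle)
  have hfixcard : Fintype.card (Function.fixedPoints σ) = 1 := by
    rw [Fintype.card_eq_one_iff]
    refine ⟨⟨P, hfixP⟩, ?_⟩
    rintro ⟨Q, hQ⟩
    exact Subtype.ext (hfix Q hQ)
  -- cycle type
  obtain ⟨n, hn⟩ := Equiv.Perm.cycleType_prime_order (σ := σ) (by rw [hσord]; exact hp.out)
  rw [hσord] at hn
  have hcardX : Fintype.card (Sylow p G) = 1 + p * k := by
    rw [← Nat.card_eq_fintype_card]; exact hk
  have hsum : σ.cycleType.sum = (n + 1) * p := by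
    rw [hn, Multiset.sum_replicate, smul_eq_mul]
  have hle := σ.sum_cycleType_le
  have hfp := σ.card_fixedPoints
  rw [hfixcard, hcardX, hsum] at hfp
  rw [hcardX, hsum] at hle
  have hnk : n + 1 = k := by
    have h2 : (n + 1) * p = p * k := by omega
    rw [mul_comm] at h2
    exact Nat.eq_of_mul_eq_mul_left hp.out.pos h2
  -- order of the centralizer of σ
  have hcent : Nat.card (centralizer ({σ} : Set (Equiv.Perm (Sylow p G)))) = p ^ k * k.factorial := by
    rw [Equiv.Perm.nat_card_centralizer, hn, hnk, hcardX, Multiset.sum_replicate,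
      Multiset.prod_replicate, smul_eq_mul]
    have hk0 : k ≠ 0 := by omega
    rw [Multiset.toFinset_replicate, if_neg hk0, Finset.prod_singleton,
      Multiset.count_replicate_self]
    have : 1 + p * k - k * p = 1 := by rw [mul_comm k p]; omega
    rw [this, Nat.factorial_one, one_mul]
  -- `C` maps into it
  set C : Subgroup G := centralizer ((P : Subgroup G) : Set G) with hC
  have hmap : C.map ρ ≤ centralizer ({σ} : Set (Equiv.Perm (Sylow p G))) := by
    rintro _ ⟨c, hc, rfl⟩
    rw [mem_centralizer_iff]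
    intro h hh
    rw [Set.mem_singleton_iff] at hh
    subst hh
    have hcomm : (g0 : G) * c = c * (g0 : G) := (mem_centralizer_iff.mp hc) (g0 : G) g0.2
    rw [hσ, ← map_mul, ← map_mul, hcomm]
  have hdvd1 : Nat.card C ∣ p ^ k * k.factorial := by
    have h3 : Nat.card (C.map ρ) = Nat.card C := Subgroup.card_map_of_injective hρinj
    rw [← hcent, ← h3]
    exact Subgroup.card_dvd_of_le hmap
  -- `p ∣ |C|`, `p² ∤ |C|`
  have hPC : (P : Subgroup G) ≤ C := by
    intro x hx
    rw [hC, mem_centralizer_iff]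
    intro y hy
    rw [hPz] at hx hy
    obtain ⟨i, rfl⟩ := mem_zpowers_iff.mp hx
    obtain ⟨j, rfl⟩ := mem_zpowers_iff.mp hy
    exact (Commute.zpow_zpow_self (g0 : G) j i).eq
  have hpC : p ∣ Nat.card C := by
    have := Subgroup.card_dvd_of_le hPC
    rwa [hP] at this
  have hp2G : ¬ p ^ 2 ∣ Nat.card G := by
    have h1 := P.card_eq_multiplicity
    rw [hP] at h1
    have h2 : (Nat.card G).factorization p = 1 := by
      have h3 : p ^ 1 = p ^ (Nat.card G).factorization p := by rw [pow_one]; exact h1
      exact (Nat.pow_right_injective hp.out.two_le h3).symm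
    have := Nat.pow_succ_factorization_not_dvd (Nat.card_pos (α := G)).ne' hp.out
    rwa [h2] at this
  have hp2C : ¬ p ^ 2 ∣ Nat.card C := fun h => hp2G (h.trans (Subgroup.card_subgroup_dvd_card C))
  obtain ⟨m, hm⟩ := hpC
  have hcop : Nat.Coprime m p := by
    rw [Nat.coprime_comm, Nat.Prime.coprime_iff_not_dvd hp.out]
    rintro ⟨m', rfl⟩
    apply hp2C
    rw [hm]
    exact ⟨m', by ring⟩
  have hm_dvd : m ∣ k.factorial := by
    have h1 : m ∣ p ^ k * k.factorial := (Dvd.intro_left p hm.symm).trans hdvd1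
    exact (Nat.Coprime.pow_right k hcop).dvd_of_dvd_mul_left h1
  rw [hm]
  exact Nat.mul_dvd_mul_left p hm_dvd

/-- `K → S_k` for simple groups. -/
theorem card_centralizer_dvd_mul_factorial_of_simple [Finite G] [IsSimpleGroup G] {p : ℕ}
    [Fact p.Prime] (P : Sylow p G) (hP : Nat.card (P : Subgroup G) = p)
    (k : ℕ) (hk : Nat.card (Sylow p G) = 1 + p * k) (hk0 : k ≠ 0) :
    Nat.card (centralizer ((P : Subgroup G) : Set G)) ∣ p * k.factorial := by
  apply card_centralizer_dvd_mul_factorial P hP _ k hk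
  apply eq_one_of_forall_smul_sylow_eq
  rw [hk]
  have := (Fact.out : p.Prime).pos
  have : 0 < p * k := Nat.mul_pos this (Nat.pos_of_ne_zero hk0)
  omega

end Cfsg.Agent.Helper17
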