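import Mathlib
import Cfsg.Prelude.Def_Characters
import Cfsg.Prelude.Def_Blocks
import Cfsg.Agent.Helper17.O459Defs
import Cfsg.Agent.Helper17.SylowKit
import Cfsg.Agent.Helper74.DefectZero
import Cfsg.Agent.Helper74.CharCenter
import Cfsg.Agent.Helper79.DihColumns
import Cfsg.Agent.Helper12.O459N96
import Cfsg.Agent.Helper12.O459Hord
import Cfsg.Agent.Helper29.O459Cnt
import Cfsg.Agent.Helper41.O459ARB
import Cfsg.Agent.Helper41.O459COL
import Cfsg.Agent.Helper41.O459KER
import Cfsg.Agent.Helper55.O459A
import Cfsg.Agent.Helper62.O459ARA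
import Cfsg.Agent.Helper72.O459CSTR

set_option autoImplicit false

/-! # S1022: no simple group of order 459648 = 2^7·3^3·7·19, given S4441

Assembly of the pieces of the team (see `departures/helper17.md`): with `n₁₉ = 1008`, `|N(P)| = 456`,
`|C(P)| = 76`, `e = 6`, Brauer's degree equation for the principal 19-block forces either a
character of degree 18 (then an involution of `C(P)` lies in its kernel) or two characters of
degree 96 (then every involution of `C(P)` has a centralizer of order 7296 or 21888, and counting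
fixed points on the Sylow 19-subgroups gives a parity contradiction). -/

namespace Cfsg.Agent.Helper17.O459

open Cfsg Subgroup

universe u

section assembly

variable {G : Type u} [Group G] [Finite G]

/-- an element of order 2 in `C(P)`. -/
theorem exists_involution_centralizer (P : Sylow 19 G)
    (hC : Nat.card (centralizer ((P : Subgroup G) : Set G)) = 76) :
    ∃ y : G, y ∈ centralizer ((P : Subgroup G) : Set G) ∧ orderOf y = 2 := by
  have : Fact (Nat.Prime 2) := ⟨Nat.prime_two⟩
  have h2 : 2 ∣ Nat.card (centralizer ((P : Subgroup G) : Set G)) := by rw [hC]; norm_num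
  obtain ⟨y, hy⟩ := exists_prime_orderOf_dvd_card' 2 h2
  exact ⟨y.1, y.2, by rw [← hy]; exact Subgroup.orderOf_coe y⟩

/-- (RS) the value at `y` of a character that is constant `δ` on the elements `x^i y^j`,
`19 ∤ i`: the sum over the cyclic group `⟨xy⟩` of order 38 is divisible by 38. -/
theorem char_value_involution {χ : G → ℂ} (hχ : IsCharacter G χ) (x y : G) (hx : orderOf x = 19)
    (hy : orderOf y = 2) (hxy : x * y = y * x) (δ : ℤ)
    (hval : ∀ i : ℕ, ¬ 19 ∣ i → χ (x ^ i) = δ ∧ χ (x ^ i * y) = δ) :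
    ∃ m : ℤ, χ 1 + χ y + 36 * (δ : ℂ) = 38 * (m : ℂ) := by
  have hcomm : Commute x y := hxy
  have hord : orderOf (x * y) = 38 := by
    rw [hcomm.orderOf_mul_eq_mul_orderOf_of_coprime (by rw [hx, hy]; norm_num), hx, hy]
  obtain ⟨m, hm⟩ := Helper79.DihColumns.fourier_int hχ (x * y) hord (Complex.isPrimitiveRoot_exp 38 (by norm_num)) 0
  refine ⟨m, ?_⟩
  have hterm : ∀ l ∈ Finset.range 38, χ ((x * y) ^ l) =
      if l = 0 then χ 1 else if l = 19 then χ y else (δ : ℂ) := by
    intro l hl
    have hl' : l < 38 := Finset.mem_range.mp hl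
    rw [hcomm.mul_pow]
    by_cases h0 : l = 0
    · subst h0; simp
    by_cases h19 : l = 19
    · subst h19
      have hx19 : x ^ 19 = 1 := by rw [← hx]; exact pow_orderOf_eq_one x
      have hy19 : y ^ 19 = y := by
        have hy2 : y ^ 2 = 1 := by rw [← hy]; exact pow_orderOf_eq_one y
        calc y ^ 19 = (y ^ 2) ^ 9 * y := by rw [← pow_mul, ← pow_succ]
          _ = y := by rw [hy2, one_pow, one_mul]
      simp [hx19, hy19]
    · rw [if_neg h0, if_neg h19]
      have hnd : ¬ 19 ∣ l := by
        intro hd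
        obtain ⟨t, rfl⟩ := hd
        omega
      have hy2 : y ^ 2 = 1 := by rw [← hy]; exact pow_orderOf_eq_one y
      rcases Nat.even_or_odd' l with ⟨t, ht | ht⟩
      · have : y ^ l = 1 := by rw [ht, pow_mul, hy2, one_pow]
        rw [this, mul_one]
        exact (hval l hnd).1
      · have : y ^ l = y := by rw [ht, pow_succ, pow_mul, hy2, one_pow, one_mul]
        rw [this]
        exact (hval l hnd).2
  have hsum : ∑ l ∈ Finset.range 38, χ ((x * y) ^ l) * ((Complex.exp (2 * Real.pi * Complex.I / (38 : ℕ)))⁻¹) ^ (0 * l)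
      = χ 1 + χ y + 36 * (δ : ℂ) := by
    have : ∀ l ∈ Finset.range 38, χ ((x * y) ^ l) * ((Complex.exp (2 * Real.pi * Complex.I / (38 : ℕ)))⁻¹) ^ (0 * l) =
        if l = 0 then χ 1 else if l = 19 then χ y else (δ : ℂ) := by
      intro l hl
      rw [zero_mul, pow_zero, mul_one]
      exact hterm l hl
    rw [Finset.sum_congr rfl this]
    simp [Finset.sum_range_succ]
    ring
  rw [← hsum, hm]
  push_cast
  ring

omit [Finite G] in
/-- conjugate elements have the same order. -/
theorem orderOf_eq_of_isConj {a b : G} (h : IsConj a b) : orderOf b = orderOf a := by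
  obtain ⟨g, hg⟩ := isConj_iff.mp h
  rw [← hg]
  exact (SemiconjBy.orderOf_eq g (show g * a = g * a * g⁻¹ * g by group)).symm

/-- **S1022 from S4441.** -/
theorem main [IsSimpleGroup G]
    (H4441 : ∀ (M : Ideal AlgInt), IsPModular 19 M → ∀ (P : Sylow 19 G),
      Nat.card (P : Subgroup G) = 19 → ∀ e : ℕ,
      (centralizer ((P : Subgroup G) : Set G)).relIndex (normalizer ((P : Subgroup G) : Set G)) = e →
      ∃ (X Y : Set (IrrCharacter G)) (εX : IrrCharacter G → ℤ) (ε : ℤ), BrauerData G M P e X Y εX ε) :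
    Nat.card G ≠ 459648 := by
  intro hG
  have : Fact (Nat.Prime 19) := ⟨by norm_num⟩
  have hG' : Nat.card G = 19 ^ 1 * 24192 := by rw [hG]; norm_num
  have h19 : ¬ 19 ∣ 24192 := by norm_num
  obtain ⟨P⟩ : Nonempty (Sylow 19 G) := inferInstance
  have hP : Nat.card (P : Subgroup G) = 19 := by
    have := card_sylow_subgroup_of_card_eq hG' h19 P
    simpa using this
  have hdvd : Nat.card (Sylow 19 G) ∣ 24192 := card_sylow_dvd_of_card_eq hG' h19
  have hmod : Nat.card (Sylow 19 G) ≡ 1 [MOD 19] := card_sylow_modEq_one 19 G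
  have hne1 : Nat.card (Sylow 19 G) ≠ 1 :=
    card_sylow_ne_one_of_simple hG' h19 (by norm_num) (by norm_num)
  have hn : Nat.card (Sylow 19 G) = 1008 := by
    have hmem : Nat.card (Sylow 19 G) ∈ Nat.divisors 24192 :=
      Nat.mem_divisors.mpr ⟨hdvd, by norm_num⟩
    rcases divisors_arith _ hmem hmod with h | h | h
    · exact absurd h hne1
    · exact absurd h (Cfsg.Agent.Helper12.O459.card_sylow_ne_96 hG)
    · exact h
  -- the normalizer and the centralizer
  have hN : Nat.card (normalizer ((P : Subgroup G) : Set G)) = 456 := by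
    have := card_normalizer_mul_card_sylow P
    rw [hn, hG] at this
    omega
  obtain ⟨he18, he19⟩ := relIndex_dvd_of_card_sylow_prime P hP
  have hCN := card_centralizer_mul_relIndex (P : Subgroup G)
  obtain ⟨e, hedef⟩ : ∃ e : ℕ, (centralizer ((P : Subgroup G) : Set G)).relIndex
    (normalizer ((P : Subgroup G) : Set G)) = e := ⟨_, rfl⟩
  rw [hedef] at he18 he19 hCN
  have he1 : e ≠ 1 := by
    intro h
    rw [h] at hedef
    exact not_normalizer_le_centralizer_of_simple P (by rw [hP]; norm_num)
      (by rw [hP, hG]; norm_num) (Subgroup.relIndex_eq_one.mp hedef)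
  rw [hN] at he19 hCN
  have he : e = 2 ∨ e = 3 ∨ e = 6 := by
    have h18 : e ∣ 18 := by simpa using he18
    have h24 : e ∣ 24 := by
      have : 19 * e ∣ 19 * 24 := by simpa using he19
      exact (Nat.mul_dvd_mul_iff_left (by norm_num)).mp this
    have h6 : e ∣ 6 := by
      have := Nat.dvd_gcd h18 h24
      simpa using this
    have hle : e ≤ 6 := Nat.le_of_dvd (by norm_num) h6
    have hpos : 0 < e := Nat.pos_of_dvd_of_pos h6 (by norm_num)
    clear hedef he18 he19 hCN h18 h24
    interval_cases e <;> simp_all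
  -- Brauer's data
  obtain ⟨M, hM⟩ := Cfsg.Agent.Helper74.exists_isPModular 19 (by norm_num)
  obtain ⟨X, Y, εX, ε, hB⟩ := H4441 M hM P hP e hedef
  obtain ⟨a, b, c, d, y, hsum, heq, hyd, hymod, hysq, ha, hc⟩ :=
    Cfsg.Agent.Helper62.O459.exists_counts hG M hM P e he X Y εX ε hB
  have hε : ε = 1 ∨ ε = -1 := hB.2.2.2.2.2.1
  have hXval := hB.2.2.2.2.1
  obtain ⟨he6, hdich⟩ := Cfsg.Agent.Helper41.O459.counts_arith e a b c d y ε he hε hsum heq hyd hymod hysq
  have hC : Nat.card (centralizer ((P : Subgroup G) : Set G)) = 76 := by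
    rw [he6] at hCN; omega
  obtain ⟨hCab, hCinv⟩ := Cfsg.Agent.Helper72.O459.centralizer_structure P hP hC
  -- a generator of P
  obtain ⟨x, hxP, hx⟩ : ∃ x : G, x ∈ (P : Subgroup G) ∧ orderOf x = 19 := by
    have h19' : 19 ∣ Nat.card (P : Subgroup G) := by rw [hP]
    obtain ⟨x, hx⟩ := exists_prime_orderOf_dvd_card' 19 h19'
    exact ⟨x.1, x.2, (Subgroup.orderOf_coe x).trans hx⟩
  have hxpow : ∀ i : ℕ, ¬ 19 ∣ i → x ^ i ∈ (P : Subgroup G) ∧ x ^ i ≠ 1 := by
    intro i hi
    refine ⟨pow_mem hxP i, fun h => hi ?_⟩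
    rw [← hx]; exact orderOf_dvd_of_pow_eq_one h
  -- values of a member of X on the elements x^i y^j
  have hvals : ∀ χ ∈ X, ∀ y : G, y ∈ centralizer ((P : Subgroup G) : Set G) → orderOf y = 2 →
      ∀ i : ℕ, ¬ 19 ∣ i → (χ : G → ℂ) (x ^ i) = (εX χ : ℂ) ∧
        (χ : G → ℂ) (x ^ i * y) = (εX χ : ℂ) := by
    intro χ hχ y hyC hy2 i hi
    obtain ⟨h1, h2⟩ := hxpow i hi
    have hv := (hXval χ hχ).2.2 (x ^ i) h1 h2
    constructor
    · have := hv 1 (Subgroup.one_mem _) (by simp)
      simpa using this
    · exact hv y hyC (by rw [hy2]; norm_num)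
  have hcomm : ∀ y : G, y ∈ centralizer ((P : Subgroup G) : Set G) → x * y = y * x := by
    intro y hy
    exact (Subgroup.mem_centralizer_iff.mp hy x hxP)
  rcases hdich with h1a | h2c
  · -- a character of degree 18
    obtain ⟨χ, hχX, hdeg, hsgn⟩ := ha h1a
    obtain ⟨y, hyC, hy2⟩ := exists_involution_centralizer P hC
    obtain ⟨m, hm⟩ := char_value_involution (Cfsg.Agent.Helper74.irr_isCharacter χ) x y hx hy2
        (hcomm y hyC) (εX χ) (hvals χ hχX y hyC hy2)
    have hd1 : (χ : G → ℂ) 1 = 18 := by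
      rw [← Cfsg.Agent.Helper74.charDegree_cast (Cfsg.Agent.Helper74.irr_isCharacter χ), hdeg]
      norm_num
    rw [hsgn, hd1] at hm
    have hval : (χ : G → ℂ) y = ((38 * m + 18 : ℤ) : ℂ) := by
      push_cast
      linear_combination hm
    have hnorm := Cfsg.Agent.Helper74.norm_le_charDegree (Cfsg.Agent.Helper74.irr_isCharacter χ) y
    rw [hdeg, hval, Complex.norm_intCast] at hnorm
    have hm0 : m = 0 := by
      have h' : |(38 * m + 18 : ℤ)| ≤ 18 := by exact_mod_cast hnorm
      rw [abs_le] at h'
      omega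
    have hy1 : (χ : G → ℂ) y = (χ : G → ℂ) 1 := by
      rw [hd1, hval, hm0]; norm_num
    have := Cfsg.Agent.Helper41.O459.eq_one_of_apply_eq_apply_one χ (by rw [hdeg]; norm_num) y hy1
    rw [this, orderOf_one] at hy2
    omega
  · -- two characters of degree 96
    obtain ⟨χ, hχX, χ', hχ'X, hne, hdeg, hsgn, hdeg', hsgn'⟩ := hc h2c
    -- every involution of C(P) has a big centralizer
    have hbig : ∀ y : G, y ∈ centralizer ((P : Subgroup G) : Set G) → orderOf y = 2 →
        456 < Nat.card (centralizer ({y} : Set G)) := by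
      intro y hyC hy2
      have key : ∀ ψ ∈ X, charDegree (ψ : G → ℂ) = 96 → εX ψ = 1 →
          18 ≤ ‖(ψ : G → ℂ) y‖ := by
        intro ψ hψX hψd hψs
        obtain ⟨m, hm⟩ := char_value_involution (Cfsg.Agent.Helper74.irr_isCharacter ψ) x y hx hy2
            (hcomm y hyC) (εX ψ) (hvals ψ hψX y hyC hy2)
        have hd1 : (ψ : G → ℂ) 1 = 96 := by
          rw [← Cfsg.Agent.Helper74.charDegree_cast (Cfsg.Agent.Helper74.irr_isCharacter ψ), hψd]
          norm_num
        rw [hψs, hd1] at hm
        have hval : (ψ : G → ℂ) y = ((38 * m - 132 : ℤ) : ℂ) := by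
          push_cast
          linear_combination hm
        rw [hval, Complex.norm_intCast]
        have h' : (18 : ℤ) ≤ |(38 * m - 132 : ℤ)| := by
          rw [le_abs]
          omega
        exact_mod_cast h'
      exact Cfsg.Agent.Helper41.O459.card_centralizer_gt χ χ' hne y (key χ hχX hdeg hsgn) (key χ' hχ'X hdeg' hsgn')
    -- hence every involution of C(P) has exactly two conjugates in C(P)
    have htwo : ∀ y : G, y ∈ centralizer ((P : Subgroup G) : Set G) → orderOf y = 2 →
        Nat.card {y' : G // IsConj y y' ∧ y' ∈ centralizer ((P : Subgroup G) : Set G)} = 2 := by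
      intro y hyC hy2
      have hh := Cfsg.Agent.Helper12.O459.card_centralizer_involution hG P hP hn hCab hC y hyC hy2
        (hbig y hyC hy2)
      have hcnt := Cfsg.Agent.Helper29.O459.card_fixed_mul_card_normalizer P y
      obtain ⟨k, hk⟩ := Cfsg.Agent.Helper55.O459A.card_conj_normalizer_eq P hP y
      have hfix := Cfsg.Agent.Helper12.O459.card_fixed_sylow_modEq_one P y hyC
      -- the conjugates of y inside C(P) are involutions of C(P): at most 3, at least 1
      have hj3 : Nat.card {y' : G // IsConj y y' ∧ y' ∈ centralizer ((P : Subgroup G) : Set G)} ≤ 3 := by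
        have hle : Nat.card {y' : G // IsConj y y' ∧ y' ∈ centralizer ((P : Subgroup G) : Set G)} ≤
            Nat.card {y' : G // y' ∈ centralizer ((P : Subgroup G) : Set G) ∧ orderOf y' = 2} := by
          apply Nat.card_le_card_of_injective
            (fun z : {y' : G // IsConj y y' ∧ y' ∈ centralizer ((P : Subgroup G) : Set G)} =>
              (⟨z.1, z.2.2, by rw [orderOf_eq_of_isConj z.2.1, hy2]⟩ :
                {y' : G // y' ∈ centralizer ((P : Subgroup G) : Set G) ∧ orderOf y' = 2}))
          intro z z' h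
          exact Subtype.ext (by simpa using congrArg Subtype.val h)
        rcases hCinv with h | h <;> omega
      have hj1 : 1 ≤ Nat.card {y' : G // IsConj y y' ∧ y' ∈ centralizer ((P : Subgroup G) : Set G)} := by
        have : Nonempty {y' : G // IsConj y y' ∧ y' ∈ centralizer ((P : Subgroup G) : Set G)} :=
          ⟨⟨y, IsConj.refl y, hyC⟩⟩
        exact Nat.card_pos
      rw [hN, hk] at hcnt
      generalize Nat.card {y' : G // IsConj y y' ∧ y' ∈ centralizer ((P : Subgroup G) : Set G)} = j
        at hcnt hj3 hj1 ⊢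
      generalize Nat.card {Q : Sylow 19 G // y • Q = Q} = f at hcnt hfix
      have hf : f % 19 = 1 := hfix
      rcases hh with h | h <;> rw [h] at hcnt <;> omega
    -- parity contradiction
    have heven := Cfsg.Agent.Helper55.O459A.even_card_of_classes
      (α := {y : G // y ∈ centralizer ((P : Subgroup G) : Set G) ∧ orderOf y = 2})
      (fun a b => IsConj a.1 b.1)
      ⟨fun a => IsConj.refl a.1, fun h => h.symm, fun h h' => h.trans h'⟩
      (by
        intro a
        refine (Nat.card_congr ?_).trans (htwo a.1 a.2.1 a.2.2)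
        exact
          { toFun := fun b => ⟨b.1.1, b.2, b.1.2.1⟩
            invFun := fun z => ⟨⟨z.1, z.2.2, (orderOf_eq_of_isConj z.2.1).trans a.2.2⟩, z.2.1⟩
            left_inv := fun b => rfl
            right_inv := fun z => rfl })
    rcases hCinv with h | h <;> rw [h] at heven <;> revert heven <;> decide

end assembly

end Cfsg.Agent.Helper17.O459
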