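import Mathlib
import Cfsg.Agent.Helper99.O9.Defs

/-!
helper17 for helper99 (S2517, board #13715): piece (NILORD) `nil_ord` of `tools/helper99_s2517/Skel.lean.txt`.
-/

set_option autoImplicit false
set_option linter.unusedSectionVars false
set_option linter.unusedVariables false

namespace Cfsg.Agent.Helper17.O9

open Matrix QuadraticMap Cfsg.Agent.Helper44 Cfsg.Agent.Helper44.QType Cfsg.Agent.Helper99.O9

universe u

variable {F : Type u} [Field F] [Fintype F]

/-- `g ^ n = 1` in terms of the matrix -/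
theorem nilord_pow_eq_one_iff (P : OPair F) (n : ℕ) : P.g ^ n = 1 ↔ P.M ^ n = 1 := by
  rw [OPair.M_def]
  constructor
  · intro h
    have h2 : ((P.g ^ n : ↥(Cfsg.isometryGroup F ⇑P.Q)) : GL P.ι F) = 1 := by rw [h]; rfl
    have h3 : (((P.g : GL P.ι F) ^ n : GL P.ι F) : Matrix P.ι P.ι F) = 1 := by
      rw [← Subgroup.coe_pow, h2]; rfl
    rwa [Units.val_pow_eq_pow_val] at h3
  · intro h
    apply Subtype.ext
    apply Units.ext
    rw [Subgroup.coe_pow, Units.val_pow_eq_pow_val, h]
    rfl

/-- (NILORD) `u^(p^k) - 1 = (u - 1)^(p^k)` -/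
theorem nil_ord {P : OPair F} {t : ℕ} (h : P.Nil t) (k : ℕ) :
    P.ord ∣ ringChar F ^ k ↔ t ≤ ringChar F ^ k := by
  rw [OPair.nil_def] at h
  obtain ⟨h0, hne⟩ := h
  rw [OPair.ord_def, orderOf_dvd_iff_pow_eq_one, nilord_pow_eq_one_iff]
  rcases isEmpty_or_nonempty P.ι with hι | hι
  · -- trivial matrix ring
    have ht : t = 0 := by
      by_contra hc
      exact hne 0 (Nat.pos_of_ne_zero hc) (Subsingleton.elim _ _)
    subst ht
    constructor
    · intro _; exact Nat.zero_le _
    · intro _; exact Subsingleton.elim _ _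
  · haveI : CharP F (ringChar F) := ringChar.charP F
    have : Fact (ringChar F).Prime := ⟨CharP.char_is_prime F (ringChar F)⟩
    have : CharP (Matrix P.ι P.ι F) (ringChar F) := inferInstance
    have hcomm : Commute P.M (1 : Matrix P.ι P.ι F) := Commute.one_right _
    have key : (P.M - 1) ^ ringChar F ^ k = P.M ^ ringChar F ^ k - 1 := by
      rw [sub_pow_char_pow_of_commute (ringChar F) k hcomm, one_pow]
    rw [← sub_eq_zero, ← key]
    constructor
    · intro hz
      by_contra hlt
      exact hne _ (not_le.1 hlt) hz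
    · intro hle
      obtain ⟨d, hd⟩ := Nat.exists_eq_add_of_le hle
      rw [hd, pow_add, h0, zero_mul]

end Cfsg.Agent.Helper17.O9
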