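import Mathlib
import Cfsg.Agent.Helper99.O9.Defs

/-!
helper17 for helper99 (S2517, board #13715): piece (PAR) `nil_lt_of_even` of `tools/helper99_s2517/Skel.lean.txt`.
-/

set_option autoImplicit false
set_option linter.unusedSectionVars false
set_option linter.unusedVariables false

namespace Cfsg.Agent.Helper17.O9

open Matrix QuadraticMap Module Cfsg.Agent.Helper44 Cfsg.Agent.Helper44.QType Cfsg.Agent.Helper99.O9

universe u

section linalg

variable {K : Type*} [Field K] {V : Type*} [AddCommGroup V] [Module K V] [FiniteDimensional K V]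

/-- a nilpotent endomorphism whose powers below `n = dim V` do not vanish: `f ^ n = 0` and `f ^ (n-1)` has rank one -/
theorem par_linalg (f : Module.End K V) (n t : ℕ) (hn : finrank K V = n) (h1 : 1 ≤ n)
    (ht : f ^ t = 0) (hne : ∀ i, i < n → f ^ i ≠ 0) :
    f ^ n = 0 ∧ finrank K (LinearMap.range (f ^ (n - 1))) = 1 := by
  have hnt : n ≤ t := by
    by_contra hlt
    exact hne t (not_le.1 hlt) ht
  have hstrict : ∀ i, i < n → LinearMap.ker (f ^ i) < LinearMap.ker (f ^ (i + 1)) := by
    intro i hi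
    refine lt_of_le_of_ne ?_ ?_
    · rw [pow_succ', Module.End.mul_eq_comp]
      exact LinearMap.ker_le_ker_comp _ _
    · intro heq
      have hc := Module.End.ker_pow_constant heq (t - i)
      have hti : i + (t - i) = t := by omega
      rw [hti, ht] at hc
      have : LinearMap.ker (f ^ i) = ⊤ := by rw [hc]; exact LinearMap.ker_zero
      exact hne i hi (LinearMap.ker_eq_top.1 this)
  have hd : ∀ i, i ≤ n → i ≤ finrank K (LinearMap.ker (f ^ i)) := by
    intro i
    induction i with
    | zero => intro _; exact Nat.zero_le _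
    | succ i ih =>
      intro hi
      have h2 := ih (by omega)
      have h3 := Submodule.finrank_lt_finrank_of_lt (hstrict i (by omega))
      omega
  have hn0 : f ^ n = 0 := by
    have h2 := hd n le_rfl
    have h3 : finrank K (LinearMap.ker (f ^ n)) ≤ finrank K V := Submodule.finrank_le _
    have h4 : LinearMap.ker (f ^ n) = ⊤ := Submodule.eq_top_of_finrank_eq (by omega)
    exact LinearMap.ker_eq_top.1 h4
  refine ⟨hn0, ?_⟩
  have h2 := hd (n - 1) (by omega)
  have h3 : finrank K (LinearMap.ker (f ^ (n - 1))) < finrank K V := by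
    apply Submodule.finrank_lt
    intro htop
    exact hne (n - 1) (by omega) (LinearMap.ker_eq_top.1 htop)
  have h4 := LinearMap.finrank_range_add_finrank_ker (f ^ (n - 1))
  omega

end linalg

section form

variable {F : Type u} [Field F] [Fintype F]

/-- (PAR) a unipotent isometry `u` of a non-degenerate space of even dimension `n > 0` has `(u - 1)^(n-1) = 0`.
Route: with `N = u - 1` of index `n`, the form `β(x,y) = B(N^(n-1) x, y)` is alternating (adjoint of `N` is `-u⁻¹N`, `n - 1` odd,
`u` is trivial on `im N^(n-1)`) and factors through the line `V / ker N^(n-1)`, so it vanishes -/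
theorem nil_lt_of_even (hF : Odd (Fintype.card F)) {P : OPair F} (hP : P.ND) (he : Even P.dim)
    (h1 : 1 ≤ P.dim) {t : ℕ} (h : P.Nil t) : t + 1 ≤ P.dim := by
  classical
  by_contra hcon
  rw [OPair.nil_def] at h
  obtain ⟨ht0, htne⟩ := h
  rw [OPair.nd_def] at hP
  set n := P.dim with hn
  have hnt : n ≤ t := by omega
  set M : Matrix P.ι P.ι F := P.M with hM
  set N : Matrix P.ι P.ι F := M - 1 with hN
  -- the isometry property
  have hiso : ∀ x : P.ι → F, P.Q (M *ᵥ x) = P.Q x := by
    intro x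
    have := (Cfsg.Agent.Helper44.mem_isometryGroup_iff (⇑P.Q) (P.g : GL P.ι F)).1 P.g.2 x
    exact this
  have hB : ∀ x y : P.ι → F, polar P.Q (M *ᵥ x) (M *ᵥ y) = polar P.Q x y := by
    intro x y
    unfold polar
    rw [← Matrix.mulVec_add, hiso, hiso, hiso]
  have hNv : ∀ x : P.ι → F, N *ᵥ x = M *ᵥ x - x := by
    intro x
    rw [hN, Matrix.sub_mulVec, Matrix.one_mulVec]
  have hstar : ∀ x y : P.ι → F, polar P.Q (N *ᵥ x) (M *ᵥ y) = - polar P.Q x (N *ᵥ y) := by
    intro x y
    rw [hNv, hNv, polar_sub_left, polar_sub_right, hB]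
    ring
  have hcommNM : Commute N M := by
    rw [hN]
    exact (Commute.refl M).sub_left (Commute.one_left M)
  have hpow : ∀ (k : ℕ) (x y : P.ι → F),
      polar P.Q ((N ^ k) *ᵥ x) ((M ^ k) *ᵥ y) = (-1) ^ k * polar P.Q x ((N ^ k) *ᵥ y) := by
    intro k
    induction k with
    | zero => intro x y; simp
    | succ k ih =>
      intro x y
      have e1 : (N ^ (k + 1)) *ᵥ x = N *ᵥ ((N ^ k) *ᵥ x) := by
        rw [Matrix.mulVec_mulVec, ← pow_succ']
      have e2 : (M ^ (k + 1)) *ᵥ y = M *ᵥ ((M ^ k) *ᵥ y) := by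
        rw [Matrix.mulVec_mulVec, ← pow_succ']
      have e3 : N *ᵥ ((M ^ k) *ᵥ y) = (M ^ k) *ᵥ (N *ᵥ y) := by
        rw [Matrix.mulVec_mulVec, Matrix.mulVec_mulVec, (hcommNM.pow_right k).eq]
      have e4 : (N ^ k) *ᵥ (N *ᵥ y) = (N ^ (k + 1)) *ᵥ y := by
        rw [Matrix.mulVec_mulVec, ← pow_succ]
      rw [e1, e2, hstar, e3, ih, e4, pow_succ]
      ring
  -- the linear algebra
  have hfin : finrank F (P.ι → F) = n := by
    rw [Module.finrank_fintype_fun_eq_card, hn, OPair.dim_def]
  set f : Module.End F (P.ι → F) := Matrix.toLinAlgEquiv' N with hf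
  have hfpow : ∀ i : ℕ, f ^ i = Matrix.toLinAlgEquiv' (N ^ i) := by
    intro i
    rw [hf, map_pow]
  have hft : f ^ t = 0 := by
    rw [hfpow, ht0, map_zero]
  have hfne : ∀ i, i < n → f ^ i ≠ 0 := by
    intro i hi h0
    rw [hfpow] at h0
    have : N ^ i = 0 := by
      have h2 := (Matrix.toLinAlgEquiv' (R := F) (n := P.ι)).injective
      apply h2
      rw [h0, map_zero]
    exact htne i (by omega) this
  obtain ⟨hfn, hrank⟩ := par_linalg f n t hfin h1 hft hfne
  have hNn : N ^ n = 0 := by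
    rw [hfpow] at hfn
    have h2 := (Matrix.toLinAlgEquiv' (R := F) (n := P.ι)).injective
    apply h2
    rw [hfn, map_zero]
  set K : Matrix P.ι P.ι F := N ^ (n - 1) with hK
  have hKne : K ≠ 0 := htne (n - 1) (by omega)
  have hNK : N * K = 0 := by
    rw [hK, ← pow_succ', show n - 1 + 1 = n by omega, hNn]
  obtain ⟨v, hv⟩ : ∃ v : P.ι → F, K *ᵥ v ≠ 0 := by
    by_contra hall
    push Not at hall
    apply hKne
    have h2 := (Matrix.toLinAlgEquiv' (R := F) (n := P.ι)).injective
    apply h2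
    rw [map_zero]
    apply LinearMap.ext
    intro x
    rw [Matrix.toLinAlgEquiv'_apply, hall]
    rfl
  set w : P.ι → F := K *ᵥ v with hw
  have hrange : ∀ x : P.ι → F, ∃ c : F, K *ᵥ x = c • w := by
    intro x
    have hwmem : w ∈ LinearMap.range (f ^ (n - 1)) := by
      refine ⟨v, ?_⟩
      rw [hfpow, Matrix.toLinAlgEquiv'_apply]
    have hxmem : K *ᵥ x ∈ LinearMap.range (f ^ (n - 1)) := by
      refine ⟨x, ?_⟩
      rw [hfpow, Matrix.toLinAlgEquiv'_apply]
    have hw0 : (⟨w, hwmem⟩ : LinearMap.range (f ^ (n - 1))) ≠ 0 := by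
      intro h0
      apply hv
      exact congrArg Subtype.val h0
    obtain ⟨c, hc⟩ := (finrank_eq_one_iff_of_nonzero' _ hw0).1 hrank ⟨K *ᵥ x, hxmem⟩
    refine ⟨c, ?_⟩
    have := congrArg Subtype.val hc
    exact this.symm
  -- `B (K x, ·)` vanishes on the image of `N`
  have hKN : ∀ x z : P.ι → F, polar P.Q (K *ᵥ x) (N *ᵥ z) = 0 := by
    intro x z
    have h2 := hstar (K *ᵥ x) z
    rw [Matrix.mulVec_mulVec, hNK, Matrix.zero_mulVec, polar_zero_left] at h2
    have h3 : polar P.Q (K *ᵥ x) (N *ᵥ z) = 0 := by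
      have := neg_eq_zero.1 h2.symm
      exact this
    exact h3
  have hMk : ∀ y : P.ι → F, (M ^ (n - 1)) *ᵥ y =
      y + N *ᵥ ((∑ i ∈ Finset.range (n - 1), M ^ i) *ᵥ y) := by
    intro y
    have h2 : N * ∑ i ∈ Finset.range (n - 1), M ^ i = M ^ (n - 1) - 1 := mul_geom_sum M (n - 1)
    rw [Matrix.mulVec_mulVec, h2, Matrix.sub_mulVec, Matrix.one_mulVec]
    abel
  have hodd : Odd (n - 1) := by
    obtain ⟨m, hm⟩ := he
    exact ⟨m - 1, by omega⟩
  have hskew : ∀ x y : P.ι → F, polar P.Q (K *ᵥ x) y = - polar P.Q (K *ᵥ y) x := by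
    intro x y
    have h2 := hpow (n - 1) x y
    rw [hMk, polar_add_right, hKN, add_zero, hodd.neg_one_pow] at h2
    rw [← hK] at h2
    rw [h2, polar_comm]
    ring
  have h2ne : (2 : F) ≠ 0 := by
    intro h2
    have hc : ringChar F = 2 := CharP.ringChar_of_prime_eq_zero Nat.prime_two (by exact_mod_cast h2)
    have := FiniteField.even_card_of_char_two hc
    obtain ⟨m, hm⟩ := hF
    omega
  have hvv : polar P.Q w v = 0 := by
    have h2 := hskew v v
    rw [← hw] at h2
    have h3 : (2 : F) * polar P.Q w v = 0 := by linear_combination h2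
    rcases mul_eq_zero.1 h3 with h4 | h4
    · exact absurd h4 h2ne
    · exact h4
  have hzero : ∀ x y : P.ι → F, polar P.Q (K *ᵥ x) y = 0 := by
    intro x y
    obtain ⟨c, hc⟩ := hrange x
    obtain ⟨c', hc'⟩ := hrange y
    have h3 : polar P.Q w y = 0 := by
      have h4 := hskew v y
      rw [← hw] at h4
      rw [h4, hc', polar_smul_left, hvv]
      simp
    rw [hc, polar_smul_left, h3]
    simp
  exact hv (hP _ (hzero v))

end form

end Cfsg.Agent.Helper17.O9
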