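import Mathlib
import Cfsg.Agent.Helper19.OpBN.Defs
import Cfsg.Agent.Helper93.OpBNMEMX

/-!
# (ANOM) of helper19's S2548 farm (helper17): the anomaly `O⁺₄(2)`: the commutator subgroup has
trivial centraliser.
-/

set_option autoImplicit false

namespace Cfsg.Agent.Helper17.OpBN

open Matrix Cfsg Cfsg.Agent.Helper19.OpBN

variable {F : Type*} [Field F]

theorem eq_zero_or_one_of_card_two [Fintype F] (hF : Fintype.card F = 2) (x : F) :
    x = 0 ∨ x = 1 := by
  classical
  by_contra hcon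
  push Not at hcon
  have h3 : ({0, 1, x} : Finset F).card = 3 := by
    rw [Finset.card_insert_of_notMem, Finset.card_insert_of_notMem, Finset.card_singleton]
    · simp only [Finset.mem_singleton]
      exact fun h => hcon.2 h.symm
    · simp only [Finset.mem_insert, Finset.mem_singleton, not_or]
      exact ⟨zero_ne_one, fun h => hcon.1 h.symm⟩
  have := Finset.card_le_univ ({0, 1, x} : Finset F)
  omega

theorem one_add_one_of_card_two [Fintype F] (hF : Fintype.card F = 2) : (1 : F) + 1 = 0 := by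
  rcases eq_zero_or_one_of_card_two hF ((1 : F) + 1) with h | h
  · exact h
  · exfalso
    have : (1 : F) = 0 := by linear_combination h
    exact one_ne_zero this

/-- the linear algebra: a matrix commuting with `1 ⊗ ω`, `ω ⊗ 1` and `s ⊗ s` over the field with two
elements, invertible and with singular first column, is the identity -/
theorem anom_core (h2 : (1 : F) + 1 = 0) (h01 : ∀ x : F, x = 0 ∨ x = 1)
    (Z Zi : Matrix (Fin 4) (Fin 4) F) (hinv : Zi * Z = 1)
    (hq : Z 0 0 * Z 3 0 + Z 1 0 * Z 2 0 = 0)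
    (h1 : Z * !![0,1,0,0;1,1,0,0;0,0,0,1;0,0,1,1] = !![0,1,0,0;1,1,0,0;0,0,0,1;0,0,1,1] * Z)
    (h2' : Z * !![0,0,1,0;0,0,0,1;1,0,1,0;0,1,0,1] = !![0,0,1,0;0,0,0,1;1,0,1,0;0,1,0,1] * Z)
    (h3 : Z * !![0,0,0,1;0,0,1,0;0,1,0,0;1,0,0,0] = !![0,0,0,1;0,0,1,0;0,1,0,0;1,0,0,0] * Z) :
    Z = 1 := by
  -- (A)
  have A0 : Z 0 1 = Z 1 0 := by
    have := congrFun (congrFun h1 0) 0
    simp [Matrix.mul_apply, Fin.sum_univ_four] at this
    linear_combination this
  have A1 : Z 1 1 = Z 0 0 + Z 1 0 := by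
    have := congrFun (congrFun h1 1) 0
    simp [Matrix.mul_apply, Fin.sum_univ_four] at this
    linear_combination this
  have A2 : Z 2 1 = Z 3 0 := by
    have := congrFun (congrFun h1 2) 0
    simp [Matrix.mul_apply, Fin.sum_univ_four] at this
    linear_combination this
  have A3 : Z 3 1 = Z 2 0 + Z 3 0 := by
    have := congrFun (congrFun h1 3) 0
    simp [Matrix.mul_apply, Fin.sum_univ_four] at this
    linear_combination this
  -- (B)
  have B0 : Z 0 3 = Z 1 2 := by
    have := congrFun (congrFun h1 0) 2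
    simp [Matrix.mul_apply, Fin.sum_univ_four] at this
    linear_combination this
  have B1 : Z 1 3 = Z 0 2 + Z 1 2 := by
    have := congrFun (congrFun h1 1) 2
    simp [Matrix.mul_apply, Fin.sum_univ_four] at this
    linear_combination this
  have B2 : Z 2 3 = Z 3 2 := by
    have := congrFun (congrFun h1 2) 2
    simp [Matrix.mul_apply, Fin.sum_univ_four] at this
    linear_combination this
  have B3 : Z 3 3 = Z 2 2 + Z 3 2 := by
    have := congrFun (congrFun h1 3) 2
    simp [Matrix.mul_apply, Fin.sum_univ_four] at this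
    linear_combination this
  -- (C)
  have C0 : Z 0 2 = Z 2 0 := by
    have := congrFun (congrFun h2' 0) 0
    simp [Matrix.mul_apply, Fin.sum_univ_four] at this
    linear_combination this
  have C1 : Z 1 2 = Z 3 0 := by
    have := congrFun (congrFun h2' 1) 0
    simp [Matrix.mul_apply, Fin.sum_univ_four] at this
    linear_combination this
  have C2 : Z 2 2 = Z 0 0 + Z 2 0 := by
    have := congrFun (congrFun h2' 2) 0
    simp [Matrix.mul_apply, Fin.sum_univ_four] at this
    linear_combination this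
  have C3 : Z 3 2 = Z 1 0 + Z 3 0 := by
    have := congrFun (congrFun h2' 3) 0
    simp [Matrix.mul_apply, Fin.sum_univ_four] at this
    linear_combination this
  -- (D)
  have D1 : Z 1 3 = Z 2 0 := by
    have := congrFun (congrFun h3 1) 0
    simp [Matrix.mul_apply, Fin.sum_univ_four] at this
    linear_combination this
  have D3 : Z 3 3 = Z 0 0 := by
    have := congrFun (congrFun h3 3) 0
    simp [Matrix.mul_apply, Fin.sum_univ_four] at this
    linear_combination this
  -- the first column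
  have a3 : Z 3 0 = 0 := by linear_combination -C1 - B1 + D1 - C0
  have a12 : Z 1 0 = Z 2 0 := by
    linear_combination D3 - B3 - C2 - C3 - a3 - Z 2 0 * h2
  have b0 : Z 1 0 = 0 := by
    have : Z 1 0 * Z 1 0 = 0 := by
      rw [a3, ← a12] at hq
      linear_combination hq
    exact mul_self_eq_zero.1 this
  have c0 : Z 2 0 = 0 := by rw [← a12, b0]
  have a0 : Z 0 0 = 1 := by
    rcases h01 (Z 0 0) with h | h
    · exfalso
      have := congrFun (congrFun hinv 0) 0
      simp [Matrix.mul_apply, Fin.sum_univ_four, h, b0, c0, a3] at this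
    · exact h
  ext i j
  fin_cases i <;> fin_cases j <;> simp
  · exact a0
  · rw [A0, b0]
  · rw [C0, c0]
  · rw [B0, C1, a3]
  · exact b0
  · rw [A1, a0, b0, add_zero]
  · rw [C1, a3]
  · rw [B1, C0, C1, c0, a3, add_zero]
  · exact c0
  · rw [A2, a3]
  · rw [C2, a0, c0, add_zero]
  · rw [B2, C3, b0, a3, add_zero]
  · exact a3
  · rw [A3, c0, a3, add_zero]
  · rw [C3, b0, a3, add_zero]
  · rw [B3, C2, C3, a0, b0, c0, a3]; simp

theorem comm_mem_commutator {m : ℕ} (x y : OG m F) :
    x * y * x⁻¹ * y⁻¹ ∈ commutator (OG m F) := by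
  rw [commutator_def]
  have := Subgroup.commutator_mem_commutator (H₁ := (⊤ : Subgroup (OG m F))) (H₂ := ⊤)
    (Subgroup.mem_top x) (Subgroup.mem_top y)
  rwa [commutatorElement_def] at this

/-- (ANOM) the anomaly `O⁺₄(2)`: the commutator subgroup has trivial centraliser -/
theorem eq_one_of_commute_commutator_two [Fintype F] (hF : Fintype.card F = 2) (z : OG 2 F)
    (hz : ∀ w ∈ commutator (OG 2 F), z * w = w * z) : z = 1 := by
  have h2 := one_add_one_of_card_two hF
  have h2t : (2 : F) = 0 := by linear_combination h2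
  have h01 := eq_zero_or_one_of_card_two hF
  have hneg : (-1 : F) = 1 := by linear_combination (-1 : F) * h2
  -- the elements
  obtain ⟨x₀, hx₀⟩ := exists_of_isOJ
    (Cfsg.Agent.Helper93.OpBN.xMat_isOJ (0 : Fin (2 * 2)) 1 (by decide) (by decide) (1 : F))
  set s₀ : OG 2 F := sA (0 : Fin (2 - 1)) with hs₀
  have hs₀i : s₀⁻¹ = s₀ := sA_inv _
  -- explicit matrices
  have hX : mat x₀ = !![1,1,0,0;0,1,0,0;0,0,1,1;0,0,0,1] := by
    rw [hx₀]
    ext i j
    rw [xMat_apply]
    fin_cases i <;> fin_cases j <;> simp [hneg] <;> decide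
  have hXi : mat x₀⁻¹ = !![1,1,0,0;0,1,0,0;0,0,1,1;0,0,0,1] := by
    ext i j
    rw [inv_apply, hx₀, xMat_apply]
    fin_cases i <;> fin_cases j <;> simp [hneg] <;> decide
  have hS : mat s₀ = !![0,1,0,0;1,0,0,0;0,0,0,1;0,0,1,0] := by
    rw [hs₀, mat_sA]
    ext i j
    rw [pMat_apply]
    fin_cases i <;> fin_cases j <;> simp <;> decide
  have hR : mat (rr : OG 2 F) = !![1,0,0,0;0,0,1,0;0,1,0,0;0,0,0,1] := by
    rw [mat_rr]
    ext i j
    rw [pMat_apply]
    fin_cases i <;> fin_cases j <;> simp <;> decide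
  -- three elements of the commutator subgroup
  have hw1 : x₀ * s₀ * x₀⁻¹ * s₀⁻¹ ∈ commutator (OG 2 F) := comm_mem_commutator x₀ s₀
  have hw2 : (rr : OG 2 F) * (x₀ * s₀ * x₀⁻¹ * s₀⁻¹) * rr⁻¹ ∈ commutator (OG 2 F) :=
    (inferInstance : (commutator (OG 2 F)).Normal).conj_mem _ hw1 rr
  have hw3 : (rr : OG 2 F) * s₀ * rr⁻¹ * s₀⁻¹ ∈ commutator (OG 2 F) := comm_mem_commutator rr s₀
  have hM1 : mat (x₀ * s₀ * x₀⁻¹ * s₀⁻¹) = !![0,1,0,0;1,1,0,0;0,0,0,1;0,0,1,1] := by
    rw [hs₀i, mat_mul, mat_mul, mat_mul, hX, hXi, hS]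
    ext i j
    fin_cases i <;> fin_cases j <;> simp [Matrix.mul_apply, Fin.sum_univ_four, h2, h2t]
  have hM2 : mat ((rr : OG 2 F) * (x₀ * s₀ * x₀⁻¹ * s₀⁻¹) * rr⁻¹) =
      !![0,0,1,0;0,0,0,1;1,0,1,0;0,1,0,1] := by
    rw [rr_inv, mat_mul, mat_mul, hM1, hR]
    ext i j
    fin_cases i <;> fin_cases j <;> simp [Matrix.mul_apply, Fin.sum_univ_four]
  have hM3 : mat ((rr : OG 2 F) * s₀ * rr⁻¹ * s₀⁻¹) = !![0,0,0,1;0,0,1,0;0,1,0,0;1,0,0,0] := by
    rw [hs₀i, rr_inv, mat_mul, mat_mul, mat_mul, hR, hS]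
    ext i j
    fin_cases i <;> fin_cases j <;> simp [Matrix.mul_apply, Fin.sum_univ_four]
  have e1 := congrArg mat (hz _ hw1)
  rw [mat_mul, mat_mul _ z, hM1] at e1
  have e2 := congrArg mat (hz _ hw2)
  rw [mat_mul, mat_mul _ z, hM2] at e2
  have e3 := congrArg mat (hz _ hw3)
  rw [mat_mul, mat_mul _ z, hM3] at e3
  have hq : mat z 0 0 * mat z 3 0 + mat z 1 0 * mat z 2 0 = 0 := by
    have := q_col z (0 : Fin (2 * 2))
    rw [Fin.sum_univ_two] at this
    exact this
  apply mat_injective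
  rw [mat_one]
  exact anom_core h2 h01 (mat z) (mat z⁻¹) (inv_mul_mat z) hq e1 e2 e3

end Cfsg.Agent.Helper17.OpBN
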