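import Mathlib
import Cfsg.Agent.Helper19.OpBN.Defs

/-!
# (MXb) of helper19's S2548 farm (helper17): a monomial element moving every simple root group out
of `B` reverses the order of the positions (up to the middle pair): `B ∩ n B n⁻¹ = T`.
-/

set_option autoImplicit false

namespace Cfsg.Agent.Helper17.OpBN

open Matrix Cfsg Cfsg.Agent.Helper19.OpBN

variable {F : Type*} [Field F] {m : ℕ}

/-- a strictly decreasing sequence of `m` values below `2 m` whose last two terms have sum `≥ 2 m`
starts with `2 m - 1, 2 m - 2, …, m + 1` -/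
theorem dec_eq (m : ℕ) (f : ℕ → ℕ) (hf : ∀ j, j < 2 * m → f j < 2 * m)
    (hA : ∀ j, j + 1 < m → f (j + 1) < f j) (hD : 2 ≤ m → 2 * m ≤ f (m - 2) + f (m - 1)) :
    ∀ j, j + 1 < m → f j = 2 * m - 1 - j := by
  have up : ∀ j, j < m → f j + j ≤ 2 * m - 1 := by
    intro j
    induction j with
    | zero =>
      intro h0
      have := hf 0 (by omega)
      omega
    | succ j ih =>
      intro hj
      have := ih (by omega)
      have := hA j hj
      omega
  have lo : ∀ d, d + 2 ≤ m → m + 1 + d ≤ f (m - 2 - d) := by
    intro d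
    induction d with
    | zero =>
      intro h0
      have h1 := hD (by omega)
      have h2 := hA (m - 2) (by omega)
      have e : m - 2 + 1 = m - 1 := by omega
      rw [e] at h2
      simp only [Nat.sub_zero, Nat.add_zero]
      omega
    | succ d ih =>
      intro hd
      have h1 := ih (by omega)
      have h2 := hA (m - 2 - (d + 1)) (by omega)
      have e : m - 2 - (d + 1) + 1 = m - 2 - d := by omega
      rw [e] at h2
      omega
  intro j hj
  have h1 := up j (by omega)
  have h2 := lo (m - 2 - j) (by omega)
  have e : m - 2 - (m - 2 - j) = j := by omega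
  rw [e] at h2
  omega

/-- Step 1: if the permutation of `n` does not invert the root `k`, then `n X_k n⁻¹ ⊆ B`. -/
theorem conj_mem_Bsub_of_lt (n : OG m F) (π : Equiv.Perm (Fin (2 * m)))
    (hπ : ∀ a b : Fin (2 * m), a ≠ π b → mat n a b = 0) (k : Fin (m - 1))
    (hP : π (ia k) < π (ib k)) : ∀ x ∈ Xset k, n * x * n⁻¹ ∈ Bsub m F := by
  have hrev : ∀ a, π (Fin.rev a) = Fin.rev (π a) := mono_perm_rev n π hπ
  rintro x ⟨t, hx⟩
  rw [mem_Bsub_iff]
  intro a' b' hlt
  obtain ⟨a, rfl⟩ := π.surjective a'
  obtain ⟨b, rfl⟩ := π.surjective b'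
  rw [mono_conj_apply' n π hπ x a b]
  suffices hz : mat x a b = 0 by rw [hz]; simp
  rw [hx, xMat_apply]
  have hab : a ≠ b := by
    rintro rfl
    exact lt_irrefl _ hlt
  have T2 : ¬ (ia k = a ∧ ib k = b) := by
    rintro ⟨rfl, rfl⟩
    exact absurd hlt (not_lt.2 hP.le)
  have T3 : ¬ (Fin.rev (ib k) = a ∧ Fin.rev (ia k) = b) := by
    rintro ⟨rfl, rfl⟩
    rw [hrev, hrev, Fin.rev_lt_rev] at hlt
    exact absurd hlt (not_lt.2 hP.le)
  rw [if_neg hab, if_neg T2, if_neg T3]
  simp

/-- (MXb) a monomial element moving every root group out of `B` reverses the order (up to the middle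
pair) -/
theorem conj_mem_Bsub_iff_of_not (n : OG m F) (hn : n ∈ Mono m F)
    (hA : ∀ k : Fin (m - 1), ¬ ∀ x ∈ Xset k, n * x * n⁻¹ ∈ Bsub m F)
    (hD : ∀ k : Fin (m - 1), k.val + 2 = m → ¬ ∀ x ∈ XsetD k, n * x * n⁻¹ ∈ Bsub m F)
    (u : OG m F) (hu : u ∈ Bsub m F) : n⁻¹ * u * n ∈ Bsub m F ↔ u ∈ Tsub m F := by
  obtain ⟨π, hπ⟩ := hn
  have hrev : ∀ a, π (Fin.rev a) = Fin.rev (π a) := mono_perm_rev n π hπ
  -- the inequalities
  have ineqA : ∀ k : Fin (m - 1), π (ib k) < π (ia k) := by
    intro k
    by_contra hcon
    apply hA k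
    apply conj_mem_Bsub_of_lt n π hπ k
    have hne : π (ia k) ≠ π (ib k) := fun e => by
      have := π.injective e
      rw [Fin.ext_iff, val_ia, val_ib] at this
      omega
    exact lt_of_le_of_ne (not_lt.1 hcon) hne
  have ineqD : ∀ k : Fin (m - 1), k.val + 2 = m →
      π (rPerm m (ib k)) < π (rPerm m (ia k)) := by
    intro k hk
    by_contra hcon
    apply hD k hk
    have hπ' : ∀ a b : Fin (2 * m), a ≠ (π * rPerm m) b → mat (n * rr) a b = 0 := by
      intro a b hab
      rw [mat_mul, mat_rr, Matrix.mul_apply, Finset.sum_eq_single (rPerm m b)]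
      · rw [hπ a _ hab, zero_mul]
      · intro c _ hc
        rw [pMat_apply, if_neg hc, mul_zero]
      · intro h; exact absurd (Finset.mem_univ _) h
    have hne : (π * rPerm m) (ia k) ≠ (π * rPerm m) (ib k) := fun e => by
      have := (π * rPerm m).injective e
      rw [Fin.ext_iff, val_ia, val_ib] at this
      omega
    have hle : (π * rPerm m) (ia k) ≤ (π * rPerm m) (ib k) := not_lt.1 hcon
    have h1 := conj_mem_Bsub_of_lt (n * rr) (π * rPerm m) hπ' k (lt_of_le_of_ne hle hne)
    rintro y ⟨x, hx, rfl⟩
    have h2 := h1 x hx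
    have e : n * rr * x * (n * rr)⁻¹ = n * (rr * x * rr⁻¹) * n⁻¹ := by group
    rw [e] at h2
    exact h2
  -- the values of `π`
  set f : ℕ → ℕ := fun j => if hj : j < 2 * m then (π ⟨j, hj⟩).val else 0 with hf
  have hfval : ∀ a : Fin (2 * m), f a.val = (π a).val := by
    intro a
    simp only [hf, dif_pos a.2]
  have hfrev : ∀ a : Fin (2 * m), (π (Fin.rev a)).val = 2 * m - 1 - (π a).val := by
    intro a
    rw [hrev, val_rev]
  have hhalf : ∀ j, j + 1 < m → f j = 2 * m - 1 - j := by
    apply dec_eq m f
    · intro j hj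
      simp only [hf, dif_pos hj]
      exact (π ⟨j, hj⟩).2
    · intro j hj
      have h1 := ineqA ⟨j, by omega⟩
      rw [Fin.lt_def, ← hfval, ← hfval, val_ia, val_ib] at h1
      exact h1
    · intro h2
      have h1 := ineqD ⟨m - 2, by omega⟩ (by simp only; omega)
      have e1 : (rPerm m (ib (⟨m - 2, by omega⟩ : Fin (m - 1)))).val = m := by
        rw [val_rPerm, val_ib]
        simp only
        split_ifs <;> omega
      have e2 : (rPerm m (ia (⟨m - 2, by omega⟩ : Fin (m - 1)))).val = m - 2 := by
        rw [val_rPerm, val_ia]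
        simp only
        split_ifs <;> omega
      rw [Fin.lt_def, ← hfval, ← hfval, e1, e2] at h1
      -- `f m = 2 m - 1 - f (m - 1)`
      have e3 := hfrev (⟨m - 1, by omega⟩ : Fin (2 * m))
      rw [← hfval, ← hfval, val_rev] at e3
      simp only at e3
      have e4 : 2 * m - 1 - (m - 1) = m := by omega
      rw [e4] at e3
      have e5 : f (m - 1) < 2 * m := by
        simp only [hf, dif_pos (show m - 1 < 2 * m by omega)]
        exact (π ⟨m - 1, _⟩).2
      omega
  have E1 : ∀ a : Fin (2 * m), a.val + 1 ≠ m → a.val ≠ m →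
      (π a).val = 2 * m - 1 - a.val := by
    intro a h1 h2
    have ha := a.2
    by_cases h3 : a.val + 1 < m
    · rw [← hfval, hhalf a.val h3]
    · have h4 : (Fin.rev a).val + 1 < m := by rw [val_rev]; omega
      have h5 := hhalf (Fin.rev a).val h4
      rw [hfval, hfrev, val_rev] at h5
      have := (π a).2
      omega
  have E2 : ∀ a : Fin (2 * m), (a.val + 1 = m ∨ a.val = m) →
      ((π a).val + 1 = m ∨ (π a).val = m) := by
    intro a ha
    by_contra hcon
    have hb := (π a).2
    have h1 := E1 (Fin.rev (π a)) (by rw [val_rev]; omega) (by rw [val_rev]; omega)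
    have h2 : π (Fin.rev (π a)) = π a := by
      apply Fin.ext
      rw [h1, val_rev]
      omega
    have h3 := π.injective h2
    have h4 := congrArg Fin.val h3
    rw [val_rev] at h4
    omega
  constructor
  · intro hB
    rw [mem_Bsub_iff] at hB hu
    rw [mem_Tsub_iff]
    intro c d hcd
    rcases lt_or_gt_of_ne hcd with hlt | hgt
    · obtain ⟨a, rfl⟩ := π.surjective c
      obtain ⟨b, rfl⟩ := π.surjective d
      have hab : a ≠ b := by
        rintro rfl
        exact hcd rfl
      rcases lt_or_gt_of_ne hab with h1 | h1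
      · -- `a < b`: the middle pair
        have ha := a.2
        have hb := b.2
        have hlt' : (π a).val < (π b).val := hlt
        have h1' : a.val < b.val := h1
        have hmid : a.val + 1 = m ∧ b.val = m := by
          by_contra hcon
          by_cases ha1 : a.val + 1 = m ∨ a.val = m
          · by_cases hb1 : b.val + 1 = m ∨ b.val = m
            · omega
            · have := E2 a ha1
              have := E1 b (by omega) (by omega)
              omega
          · have e1 := E1 a (by omega) (by omega)
            by_cases hb1 : b.val + 1 = m ∨ b.val = m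
            · have := E2 b hb1
              omega
            · have := E1 b (by omega) (by omega)
              omega
        have hb_rev : b = Fin.rev a := Fin.ext (by rw [val_rev]; omega)
        have hc1 : (π a).val + 1 = m := by
          have h2 := E2 a (Or.inl hmid.1)
          have h3 : (π b).val = 2 * m - 1 - (π a).val := by rw [hb_rev, hrev, val_rev]
          omega
        rw [hb_rev, hrev]
        exact mid_zero u hu (π a) hc1
      · -- `b < a`
        have h2 := hB a b h1
        rw [mono_conj_apply n π hπ u a b] at h2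
        have e1 := mono_inv_apply_ne_zero n π hπ a
        have e2 := mono_apply_ne_zero n π hπ b
        rcases mul_eq_zero.1 h2 with h3 | h3
        · rcases mul_eq_zero.1 h3 with h4 | h4
          · exact absurd h4 e1
          · exact h4
        · exact absurd h3 e2
    · exact hu c d hgt
  · intro hT
    rw [mem_Tsub_iff] at hT
    rw [mem_Bsub_iff]
    intro a b hab
    rw [mono_conj_apply n π hπ u a b, hT (π a) (π b) (fun e => by
      have := π.injective e
      rw [this] at hab
      exact lt_irrefl _ hab)]
    simp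

end Cfsg.Agent.Helper17.OpBN
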