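import Mathlib
import Cfsg.Agent.Helper17.FixedCosets

set_option autoImplicit false

namespace Cfsg.Agent.Helper17

open Subgroup MulAction

variable {G : Type*} [Group G]

/-- If an `r`-group `K` normalizes `D`, then `|D| ≡ |C_D(K)| (mod r)`. -/
theorem card_modEq_card_inf_centralizer [Finite G] {r : ℕ} [Fact r.Prime] (K D : Subgroup G)
    (hK : IsPGroup r K) (hKD : K ≤ normalizer (D : Set G)) :
    Nat.card D ≡ Nat.card (D ⊓ centralizer (K : Set G) : Subgroup G) [MOD r] := by
  letI : MulAction K D := MulAction.compHom D (Subgroup.inclusion hKD)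
  have hsmul : ∀ (q : K) (t : D), ((q • t : D) : G) = q * t * (q : G)⁻¹ := fun q t => rfl
  have h := hK.card_modEq_card_fixedPoints D
  have e : fixedPoints K D ≃ (D ⊓ centralizer (K : Set G) : Subgroup G) :=
    { toFun := fun t => ⟨(t.1 : G), by
        refine ⟨t.1.2, ?_⟩
        change (t.1 : G) ∈ centralizer (K : Set G)
        rw [Subgroup.mem_centralizer_iff]
        intro k hk
        have := congrArg Subtype.val (t.2 ⟨k, hk⟩)
        rw [hsmul] at this
        simp only at this
        calc k * (t.1 : G) = k * t.1 * k⁻¹ * k := by group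
          _ = t.1 * k := by rw [this]⟩
      invFun := fun t => ⟨⟨t.1, t.2.1⟩, by
        intro k
        apply Subtype.ext
        rw [hsmul]
        have := (Subgroup.mem_centralizer_iff.mp t.2.2) k k.2
        simp only
        rw [this]; group⟩
      left_inv := fun t => rfl
      right_inv := fun t => rfl }
  rwa [Nat.card_congr e] at h

/-- Burnside's lemma for a Sylow subgroup of prime order acting on the cosets of its normalizer:
`(#orbits) * p = n_p + (p - 1)`. -/
theorem card_orbits_mul_prime [Finite G] {p : ℕ} [Fact p.Prime] (P : Sylow p G)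
    (hP : Nat.card (P : Subgroup G) = p) :
    Nat.card (orbitRel.Quotient ↥(P : Subgroup G) (G ⧸ normalizer ((P : Subgroup G) : Set G))) * p
      = Nat.card (Sylow p G) + (p - 1) := by
  classical
  have hp : p.Prime := Fact.out
  haveI : Fintype G := Fintype.ofFinite G
  haveI : Fintype (G ⧸ normalizer ((P : Subgroup G) : Set G)) := Fintype.ofFinite _
  haveI : Fintype ↥(P : Subgroup G) := Fintype.ofFinite _
  haveI : Fintype (orbitRel.Quotient ↥(P : Subgroup G) (G ⧸ normalizer ((P : Subgroup G) : Set G))) :=
    Fintype.ofFinite _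
  have key := MulAction.sum_card_fixedBy_eq_card_orbits_mul_card_group ↥(P : Subgroup G)
    (G ⧸ normalizer ((P : Subgroup G) : Set G))
  rw [← Finset.add_sum_erase _ _ (Finset.mem_univ (1 : ↥(P : Subgroup G)))] at key
  have h1 : Fintype.card (fixedBy (G ⧸ normalizer ((P : Subgroup G) : Set G))
      (1 : ↥(P : Subgroup G))) = Nat.card (Sylow p G) := by
    rw [P.card_eq_index_normalizer, Subgroup.index, ← Nat.card_eq_fintype_card]
    apply Nat.card_congr
    exact { toFun := fun c => c.1
            invFun := fun c => ⟨c, by simp⟩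
            left_inv := fun c => rfl
            right_inv := fun c => rfl }
  have h2 : ∀ g ∈ (Finset.univ : Finset ↥(P : Subgroup G)).erase 1,
      Fintype.card (fixedBy (G ⧸ normalizer ((P : Subgroup G) : Set G)) g) = 1 := by
    intro g hg
    have hg1 : g ≠ 1 := Finset.ne_of_mem_erase hg
    have hord : orderOf (g : G) = p := by
      have h1 : orderOf g ∣ p := by
        have h0 := orderOf_dvd_natCard g
        rwa [hP] at h0
      rw [Subgroup.orderOf_coe]
      rcases (Nat.dvd_prime hp).mp h1 with h | h
      · exact absurd (orderOf_eq_one_iff.mp h) hg1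
      · exact h
    have := card_fixedBy_eq_one P hP (g : G) hord
    rw [← Nat.card_eq_fintype_card]
    exact this
  rw [Finset.sum_congr rfl h2, h1] at key
  simp only [Finset.sum_const, smul_eq_mul, mul_one, Finset.card_erase_of_mem (Finset.mem_univ _),
    Finset.card_univ] at key
  rw [← Nat.card_eq_fintype_card (α := ↥(P : Subgroup G)), hP,
    ← Nat.card_eq_fintype_card] at key
  exact key.symm

/-- If `S` centralizes `x ∈ H`, then the `S`-orbit of the base coset consists of fixed points of
`x`, whence `|S| ≤ |S ∩ H| * |Fix(x)|`. -/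
theorem card_le_card_inf_mul_card_fixedBy [Finite G] (H S : Subgroup G) (x : G) (hx : x ∈ H)
    (hS : ∀ s ∈ S, s * x = x * s) :
    Nat.card S ≤ Nat.card (S ⊓ H : Subgroup G) * Nat.card (fixedBy (G ⧸ H) x) := by
  have h1 := Subgroup.card_eq_card_quotient_mul_card_subgroup (H.subgroupOf S)
  have h2 : Nat.card (H.subgroupOf S) = Nat.card (S ⊓ H : Subgroup G) := by
    rw [inf_comm, ← Subgroup.inf_subgroupOf_right]
    exact Nat.card_congr (Subgroup.subgroupOfEquivOfLe (inf_le_right : H ⊓ S ≤ S)).toEquiv
  let f : (↥S ⧸ H.subgroupOf S) → fixedBy (G ⧸ H) x :=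
    Quotient.lift (fun s : ↥S => (⟨QuotientGroup.mk (s : G), by
      rw [mem_fixedBy]
      change (QuotientGroup.mk (x * (s : G)) : G ⧸ H) = QuotientGroup.mk (s : G)
      rw [QuotientGroup.eq]
      have := hS s s.2
      rw [← this]
      simpa using H.inv_mem hx⟩ : fixedBy (G ⧸ H) x)) (by
      intro a b hab
      apply Subtype.ext
      change (QuotientGroup.mk (a : G) : G ⧸ H) = QuotientGroup.mk (b : G)
      rw [QuotientGroup.eq]
      have := QuotientGroup.leftRel_apply.mp hab
      rwa [Subgroup.mem_subgroupOf] at this)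
  have hf : Function.Injective f := by
    intro a b
    refine Quotient.inductionOn₂ a b ?_
    intro a b hab
    apply Quotient.sound
    apply QuotientGroup.leftRel_apply.mpr
    rw [Subgroup.mem_subgroupOf]
    have := congrArg Subtype.val hab
    change (QuotientGroup.mk (a : G) : G ⧸ H) = QuotientGroup.mk (b : G) at this
    rwa [QuotientGroup.eq] at this
  have h3 : Nat.card (↥S ⧸ H.subgroupOf S) ≤ Nat.card (fixedBy (G ⧸ H) x) :=
    Nat.card_le_card_of_injective f hf
  rw [h1, h2, mul_comm]
  exact Nat.mul_le_mul_left _ h3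

end Cfsg.Agent.Helper17
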