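import Mathlib
import Cfsg.Agent.Helper17.SylowKit

set_option autoImplicit false
set_option linter.style.haveILetI false

/-!
# A small kit for killing simple orders by hand

`cen_dvd`: if `P` is a Sylow `p`-subgroup of prime order, `q` a prime dividing `|N(P)|` but not
`p - 1`, and the Sylow `q`-subgroups have order `q`, then `p` divides `|N(Q)|`.
-/

namespace Cfsg.Agent.Helper17.Ord

open Cfsg.Agent.Helper17 Subgroup

variable {G : Type*} [Group G] [Finite G]

/-- All Sylow `q`-normalizers have the same order. -/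
theorem card_normalizer_sylow_eq {q : ℕ} [Fact q.Prime] (Q Q' : Sylow q G) :
    Nat.card (normalizer ((Q : Subgroup G) : Set G)) =
      Nat.card (normalizer ((Q' : Subgroup G) : Set G)) := by
  have h1 := card_normalizer_mul_card_sylow Q
  have h2 := card_normalizer_mul_card_sylow Q'
  have hpos : 0 < Nat.card (Sylow q G) := Nat.card_pos
  exact Nat.eq_of_mul_eq_mul_right hpos (h1.trans h2.symm)

/-- **(CEN)** `q ∣ |N(P)|`, `q ∤ p - 1`, `|P| = p`, `|Q| = q` imply `q ∣ |C(P)|` and
`p ∣ |N(Q)|`. -/
theorem cen_dvd {p q : ℕ} [Fact p.Prime] [Fact q.Prime] (P : Sylow p G)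
    (hP : Nat.card (P : Subgroup G) = p)
    (hq : q ∣ Nat.card (normalizer ((P : Subgroup G) : Set G))) (hqp : ¬ q ∣ p - 1)
    (Q : Sylow q G) (hQ : Nat.card (Q : Subgroup G) = q) :
    q ∣ Nat.card (centralizer ((P : Subgroup G) : Set G)) ∧
      p ∣ Nat.card (normalizer ((Q : Subgroup G) : Set G)) := by
  have hqprime : q.Prime := Fact.out
  obtain ⟨hd1, -⟩ := relIndex_dvd_of_card_sylow_prime P hP
  have hcm := card_centralizer_mul_relIndex (P : Subgroup G)
  have hqC : q ∣ Nat.card (centralizer ((P : Subgroup G) : Set G)) := by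
    rw [← hcm] at hq
    rcases (Nat.Prime.dvd_mul hqprime).mp hq with h | h
    · exact h
    · exact absurd (h.trans hd1) hqp
  refine ⟨hqC, ?_⟩
  obtain ⟨x, hx⟩ := exists_prime_orderOf_dvd_card' (G := centralizer ((P : Subgroup G) : Set G)) q hqC
  have hxo : orderOf (x : G) = q := by rw [Subgroup.orderOf_coe]; exact hx
  have hzq : IsPGroup q (zpowers (x : G)) := by
    apply IsPGroup.of_card (n := 1)
    rw [Nat.card_zpowers, hxo, pow_one]
  obtain ⟨Q0, hQ0⟩ := hzq.exists_le_sylow
  have hQ0card : Nat.card (Q0 : Subgroup G) = q := by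
    rw [Q0.card_eq_multiplicity, ← Q.card_eq_multiplicity, hQ]
  have hQ0eq : zpowers (x : G) = (Q0 : Subgroup G) := by
    apply Subgroup.eq_of_le_of_card_ge hQ0
    rw [Nat.card_zpowers, hxo, hQ0card]
  have hPle : (P : Subgroup G) ≤ normalizer ((Q0 : Subgroup G) : Set G) := by
    intro a ha
    have hax : a * (x : G) = (x : G) * a := x.2 a ha
    rw [← hQ0eq, Subgroup.mem_normalizer_iff]
    intro y
    have hconj : ∀ k : ℤ, a * (x : G) ^ k * a⁻¹ = (x : G) ^ k := by
      intro k
      have hc : Commute a ((x : G) ^ k) := (show Commute a (x : G) from hax).zpow_right k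
      rw [hc.eq, mul_inv_cancel_right]
    constructor
    · intro hy
      obtain ⟨k, rfl⟩ := Subgroup.mem_zpowers_iff.mp hy
      rw [hconj]
      exact Subgroup.zpow_mem_zpowers _ _
    · intro hy
      obtain ⟨k, hk⟩ := Subgroup.mem_zpowers_iff.mp hy
      have : y = a⁻¹ * (a * y * a⁻¹) * a := by group
      rw [this, ← hk]
      have hc : Commute a ((x : G) ^ k) := (show Commute a (x : G) from hax).zpow_right k
      have : a⁻¹ * (x : G) ^ k * a = (x : G) ^ k := by
        rw [mul_assoc, ← hc.eq, inv_mul_cancel_left]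
      rw [this]
      exact Subgroup.zpow_mem_zpowers _ _
  have := Subgroup.card_dvd_of_le hPle
  rw [hP, card_normalizer_sylow_eq Q0 Q] at this
  exact this

end Cfsg.Agent.Helper17.Ord
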