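import Mathlib
import Cfsg.Agent.Helper17.OrdKit
import Cfsg.Agent.Helper17.LemmaN
import Cfsg.Agent.Helper39.SimpOrd.Kit

set_option autoImplicit false
set_option linter.style.haveILetI false

/-!
# No simple group of order 6160 = 2^4 * 5 * 7 * 11
-/

namespace Cfsg.Agent.Helper17.Ord

open Cfsg.Agent.Helper17 Cfsg.Agent.Helper39.SimpOrd Subgroup

variable {G : Type*} [Group G] [Finite G] [IsSimpleGroup G]

/-- `n_7 = 22`, `|N_7| = 280`, so a Sylow 5 centralizes a Sylow 7 and `7 ∣ |N_5|`: `n_5 = 11`;
then Lemma N for the subgroup `N_5` of index 11 contradicts `|N_11| = 110`. -/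
theorem no_simple_6160 (h : Nat.card G = 6160) : False := by
  have hG : ¬ IsMulCommutative G := not_comm_of_simple_of_not_prime (by rw [h]; norm_num)
  haveI : Fact (Nat.Prime 5) := ⟨by norm_num⟩
  haveI : Fact (Nat.Prime 7) := ⟨by norm_num⟩
  haveI : Fact (Nat.Prime 11) := ⟨by norm_num⟩
  obtain ⟨P5⟩ : Nonempty (Sylow 5 G) := inferInstance
  obtain ⟨P7⟩ : Nonempty (Sylow 7 G) := inferInstance
  obtain ⟨P11⟩ : Nonempty (Sylow 11 G) := inferInstance
  have hP5 : Nat.card (P5 : Subgroup G) = 5 ^ 1 :=
    card_sylow_subgroup_of_card_eq (m := 1232) (by rw [h]; norm_num) (by norm_num) P5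
  have hP7 : Nat.card (P7 : Subgroup G) = 7 ^ 1 :=
    card_sylow_subgroup_of_card_eq (m := 880) (by rw [h]; norm_num) (by norm_num) P7
  -- Sylow counts
  have h7 := card_sylow_mem_npList hG 7 1 880 (by norm_num) (by rw [h]; norm_num) (by norm_num)
    (by norm_num) (by norm_num)
  have hL7 : npList 7 1 880 = [22] := by decide +kernel
  rw [hL7, List.mem_singleton] at h7
  have h11 := card_sylow_mem_npList hG 11 1 560 (by norm_num) (by rw [h]; norm_num) (by norm_num)
    (by norm_num) (by norm_num)
  have hL11 : npList 11 1 560 = [56] := by decide +kernel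
  rw [hL11, List.mem_singleton] at h11
  have h5 := card_sylow_mem_npList hG 5 1 1232 (by norm_num) (by rw [h]; norm_num) (by norm_num)
    (by norm_num) (by norm_num)
  have hL5 : npList 5 1 1232 = [11, 56, 616] := by decide +kernel
  rw [hL5] at h5
  simp only [List.mem_cons, List.mem_nil_iff, or_false] at h5
  have hN7 : Nat.card (normalizer ((P7 : Subgroup G) : Set G)) = 280 :=
    card_normalizer_of_card_sylow P7 h h7 (by norm_num) (by norm_num)
  have hN11 : Nat.card (normalizer ((P11 : Subgroup G) : Set G)) = 110 :=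
    card_normalizer_of_card_sylow P11 h h11 (by norm_num) (by norm_num)
  -- (CEN): `7 ∣ |N_5|`
  have hcen := (cen_dvd (p := 7) (q := 5) P7 (by rw [hP7]; norm_num) (by rw [hN7]; norm_num)
    (by norm_num) P5 (by rw [hP5]; norm_num)).2
  have hn5 : Nat.card (Sylow 5 G) = 11 := by
    rcases h5 with h5 | h5 | h5
    · exact h5
    · exfalso
      have hN5 : Nat.card (normalizer ((P5 : Subgroup G) : Set G)) = 110 :=
        card_normalizer_of_card_sylow P5 h h5 (by norm_num) (by norm_num)
      rw [hN5] at hcen; omega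
    · exfalso
      have hN5 : Nat.card (normalizer ((P5 : Subgroup G) : Set G)) = 10 :=
        card_normalizer_of_card_sylow P5 h h5 (by norm_num) (by norm_num)
      rw [hN5] at hcen; omega
  -- Lemma N for the subgroup `N_5` of index 11
  have hidx : (normalizer ((P5 : Subgroup G) : Set G)).index = 11 := by
    rw [← hn5]; exact (P5.card_eq_index_normalizer).symm
  have hne : normalizer ((P5 : Subgroup G) : Set G) ≠ ⊤ :=
    normalizer_sylow_ne_top P5 (by rw [hn5]; norm_num)
  have := two_mul_card_normalizer_dvd_of_index hG _ hne 11 (Or.inl hidx)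
    (by rw [h]; norm_num) P11
  rw [hN11] at this
  omega

end Cfsg.Agent.Helper17.Ord
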