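import Mathlib
import Cfsg.Agent.Helper17.SylowKit
import Cfsg.Agent.Helper9.Sieve
import Cfsg.Agent.S0144
import Cfsg.Agent.S5185

set_option autoImplicit false

namespace Cfsg.Agent.Helper17

open Subgroup

/-- In a non-abelian finite simple group, the Sylow subgroup for the smallest prime divisor of the
order is not cyclic. -/
theorem not_isCyclic_sylow_minFac_of_simple {G : Type*} [Group G] [Finite G] [IsSimpleGroup G]
    (hG : ¬ IsMulCommutative G) {p : ℕ} [Fact p.Prime] (hmin : (Nat.card G).minFac = p)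
    (P : Sylow p G) : ¬ IsCyclic (P : Subgroup G) := by
  intro hPcyc
  have hp : p.Prime := Fact.out
  have hle := hPcyc.normalizer_le_centralizer hmin
  have hpd : p ∣ Nat.card G := hmin ▸ Nat.minFac_dvd _
  have h1 : Nat.card (P : Subgroup G) ≠ 1 := by
    intro h
    have := P.card_eq_multiplicity
    rw [h] at this
    have h2 : p ∣ p ^ (Nat.card G).factorization p :=
      dvd_pow_self p (by
        have := (hp.factorization_pos_of_dvd Nat.card_pos.ne' hpd)
        omega)
    rw [← this] at h2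
    exact hp.one_lt.ne' (Nat.dvd_one.mp h2)
  have h2 : Nat.card (P : Subgroup G) ≠ Nat.card G := by
    intro h
    have htop : (P : Subgroup G) = ⊤ := Subgroup.eq_top_of_card_eq _ h
    apply hG
    have : IsCyclic G := by
      have e : (P : Subgroup G) ≃* G := htop ▸ Subgroup.topEquiv
      exact isCyclic_of_surjective e e.surjective
    exact ⟨⟨fun a b => by
      obtain ⟨g, hg⟩ := IsCyclic.exists_generator (α := G)
      obtain ⟨m, rfl⟩ := Subgroup.mem_zpowers_iff.mp (hg a)
      obtain ⟨n, rfl⟩ := Subgroup.mem_zpowers_iff.mp (hg b)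
      exact (Commute.zpow_zpow_self g m n).eq⟩⟩
  exact not_normalizer_le_centralizer_of_simple P h1 h2 hle

/-- A Sylow subgroup of prime order is cyclic. -/
theorem isCyclic_sylow_of_card_eq {G : Type*} [Group G] [Finite G] {q m : ℕ} [Fact q.Prime]
    (hG : Nat.card G = q ^ 1 * m) (hm : ¬ q ∣ m) (Q : Sylow q G) : IsCyclic (Q : Subgroup G) := by
  have hq : q.Prime := Fact.out
  have hQ : Nat.card (Q : Subgroup G) = q := by
    simpa using card_sylow_subgroup_of_card_eq hG hm Q
  haveI : Fact (Nat.card (Q : Subgroup G)).Prime := ⟨hQ.symm ▸ hq⟩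
  exact isCyclic_of_prime_card rfl

/-- A non-abelian simple group of order `12 r`, `r ≥ 5` prime, has order 60. -/
theorem card_eq_sixty_of_card_eq_twelve_mul {G : Type*} [Group G] [Finite G] [IsSimpleGroup G]
    (hG : ¬ IsMulCommutative G) (r : ℕ) (hr : r.Prime) (hr5 : 5 ≤ r)
    (hcard : Nat.card G = 12 * r) : Nat.card G = 60 := by
  haveI : Fact r.Prime := ⟨hr⟩
  have hr12 : ¬ r ∣ 12 := by
    intro h
    have hle := Nat.le_of_dvd (by norm_num) h
    interval_cases r <;> first | omega | (norm_num at hr) | (norm_num at h)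
  have hcard' : Nat.card G = r ^ 1 * 12 := by rw [hcard]; ring
  have hdvd : Nat.card (Sylow r G) ∣ 12 := card_sylow_dvd_of_card_eq hcard' hr12
  have hmod : Nat.card (Sylow r G) ≡ 1 [MOD r] := card_sylow_modEq_one r G
  have hne1 := card_sylow_ne_one_of_simple hcard' hr12 one_ne_zero (by norm_num)
  have hle : Nat.card (Sylow r G) ≤ 12 := Nat.le_of_dvd (by norm_num) hdvd
  have hpos : 0 < Nat.card (Sylow r G) := Nat.card_pos
  have hrd : r ∣ Nat.card (Sylow r G) - 1 := (Nat.modEq_iff_dvd' hpos).mp hmod.symm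
  generalize Nat.card (Sylow r G) = n at *
  have hcases : r = 5 ∨ r = 11 := by
    interval_cases n
    all_goals first
      | omega
      | (exfalso; revert hdvd; decide)
      | (have := Nat.le_of_dvd (by norm_num) hrd; omega)
      | (right
         rcases (Nat.dvd_prime (by norm_num : Nat.Prime 11)).mp hrd with h | h
         · omega
         · exact h)
  rcases hcases with rfl | rfl
  · rw [hcard]
  · exfalso
    exact Helper9.sieve_kill hG 11 1 12 (by norm_num) hcard' (by norm_num) one_ne_zero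
      (by norm_num) (by decide +kernel)



theorem prime_dvd_mul_primes {s q r : ℕ} (hs : s.Prime) (hq : q.Prime) (hr : r.Prime)
    (h : s ∣ q * r) : s = q ∨ s = r := by
  rcases (Nat.Prime.dvd_mul hs).mp h with h | h
  · left; exact (Nat.prime_dvd_prime_iff_eq hs hq).mp h
  · right; exact (Nat.prime_dvd_prime_iff_eq hs hr).mp h

/-- Main structural step: in a simple group of order `p²qr` (distinct primes), `p = 2` and `3` is
one of `q, r`. -/
theorem p_sq_qr_aux {G : Type*} [Group G] [Finite G] [IsSimpleGroup G]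
    (hnc : ¬ IsMulCommutative G) (p q r : ℕ) (hp : p.Prime) (hq : q.Prime) (hr : r.Prime)
    (hpq : p ≠ q) (hpr : p ≠ r) (hqr : q ≠ r) (hG : Nat.card G = p ^ 2 * q * r) :
    p = 2 ∧ (q = 3 ∨ r = 3) := by
  haveI : Fact p.Prime := ⟨hp⟩
  haveI : Fact q.Prime := ⟨hq⟩
  haveI : Fact r.Prime := ⟨hr⟩
  have hp2 := hp.two_le
  have hq2 := hq.two_le
  have hr2 := hr.two_le
  have hcop : ∀ {a b : ℕ}, a.Prime → b.Prime → a ≠ b → ¬ a ∣ b := fun ha hb hab h =>
    hab ((Nat.prime_dvd_prime_iff_eq ha hb).mp h)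
  -- the smallest prime is p
  have hmin : (Nat.card G).minFac = p := by
    have hne : Nat.card G ≠ 1 := by
      rw [hG]
      have : 2 ^ 2 * 2 * 2 ≤ p ^ 2 * q * r :=
        Nat.mul_le_mul (Nat.mul_le_mul (Nat.pow_le_pow_left hp2 2) hq2) hr2
      omega
    have hl : (Nat.card G).minFac.Prime := Nat.minFac_prime hne
    have hld : (Nat.card G).minFac ∣ p ^ 2 * q * r := hG ▸ Nat.minFac_dvd _
    rcases (Nat.Prime.dvd_mul hl).mp hld with h | h
    · rcases (Nat.Prime.dvd_mul hl).mp h with h | h
      · exact (Nat.prime_dvd_prime_iff_eq hl hp).mp (hl.dvd_of_dvd_pow h)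
      · exfalso
        have hlq := (Nat.prime_dvd_prime_iff_eq hl hq).mp h
        obtain ⟨Q⟩ : Nonempty (Sylow q G) := inferInstance
        have hm : ¬ q ∣ p ^ 2 * r := by
          intro h
          rcases (Nat.Prime.dvd_mul hq).mp h with h | h
          · exact hcop hq hp (Ne.symm hpq) (hq.dvd_of_dvd_pow h)
          · exact hcop hq hr hqr h
        exact not_isCyclic_sylow_minFac_of_simple hnc hlq Q
          (isCyclic_sylow_of_card_eq (m := p ^ 2 * r) (by rw [hG]; ring) hm Q)
    · exfalso
      have hlr := (Nat.prime_dvd_prime_iff_eq hl hr).mp h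
      obtain ⟨R⟩ : Nonempty (Sylow r G) := inferInstance
      have hm : ¬ r ∣ p ^ 2 * q := by
        intro h
        rcases (Nat.Prime.dvd_mul hr).mp h with h | h
        · exact hcop hr hp (Ne.symm hpr) (hr.dvd_of_dvd_pow h)
        · exact hcop hr hq (Ne.symm hqr) h
      exact not_isCyclic_sylow_minFac_of_simple hnc hlr R
        (isCyclic_sylow_of_card_eq (m := p ^ 2 * q) (by rw [hG]; ring) hm R)
  have hqd : q ∣ Nat.card G := ⟨p ^ 2 * r, by rw [hG]; ring⟩
  have hrd : r ∣ Nat.card G := ⟨p ^ 2 * q, by rw [hG]; ring⟩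
  have hpltq : p < q := lt_of_le_of_ne (hmin ▸ Nat.minFac_le_of_dvd hq2 hqd) hpq
  have hpltr : p < r := lt_of_le_of_ne (hmin ▸ Nat.minFac_le_of_dvd hr2 hrd) hpr
  -- the Sylow p-subgroup
  obtain ⟨P⟩ : Nonempty (Sylow p G) := inferInstance
  have hpm : ¬ p ∣ q * r := by
    intro h
    rcases prime_dvd_mul_primes hp hq hr h with h | h
    · exact hpq h
    · exact hpr h
  have hG' : Nat.card G = p ^ 2 * (q * r) := by rw [hG]; ring
  have hPcard : Nat.card (P : Subgroup G) = p ^ 2 := card_sylow_subgroup_of_card_eq hG' hpm P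
  have hPnc : ¬ IsCyclic (P : Subgroup G) := not_isCyclic_sylow_minFac_of_simple hnc hmin P
  letI : CommGroup (P : Subgroup G) := IsPGroup.commGroupOfCardEqPrimeSq hPcard
  have hexp : ∀ a : (P : Subgroup G), a ^ p = 1 := by
    intro a
    have h1 : orderOf a ∣ p ^ 2 := hPcard ▸ orderOf_dvd_natCard a
    obtain ⟨k, hk, hk'⟩ := (Nat.dvd_prime_pow hp).mp h1
    have hk2 : k ≠ 2 := by
      rintro rfl
      exact hPnc (isCyclic_of_orderOf_eq_card a (by rw [hk', hPcard]))
    have : orderOf a ∣ p := by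
      rw [hk']
      interval_cases k
      · simp
      · simp
      · exact absurd rfl hk2
    exact orderOf_dvd_iff_pow_eq_one.mp this
  obtain ⟨Θ, hΘ⟩ := Cfsg.Agent.S5185.exists_embedding_GL2 p hexp hPcard
  have hAut : Nat.card (MulAut (P : Subgroup G)) ∣ (p ^ 2 - 1) * (p ^ 2 - p) := by
    have := Subgroup.card_dvd_of_injective Θ hΘ
    rw [Matrix.card_GL_field, Fin.prod_univ_two, ZMod.card] at this
    simpa only [Fin.val_zero, pow_zero, Fin.val_one, pow_one] using this
  -- N/C
  set d := (centralizer ((P : Subgroup G) : Set G)).relIndex (normalizer ((P : Subgroup G) : Set G))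
    with hd
  have hd1 : d ∣ Nat.card (MulAut (P : Subgroup G)) :=
    relIndex_centralizer_normalizer_dvd_card_mulAut (P : Subgroup G)
  have hd2 : d ∣ (p ^ 2 - 1) * (p ^ 2 - p) := hd1.trans hAut
  have hdne : d ≠ 1 := by
    intro h1
    have hle : normalizer ((P : Subgroup G) : Set G) ≤ centralizer ((P : Subgroup G) : Set G) :=
      Subgroup.relIndex_eq_one.mp h1
    refine not_normalizer_le_centralizer_of_simple P ?_ ?_ hle
    · rw [hPcard]
      have : 2 ^ 2 ≤ p ^ 2 := Nat.pow_le_pow_left hp2 2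
      omega
    · rw [hPcard, hG']
      intro h
      have h2 : p ^ 2 * 1 = p ^ 2 * (q * r) := by rw [mul_one]; exact h
      have h3 := Nat.eq_of_mul_eq_mul_left (pow_pos hp.pos 2) h2
      have : 2 * 2 ≤ q * r := Nat.mul_le_mul hq2 hr2
      omega
  have hd3 : d ∣ q * r := by
    have hPC : (P : Subgroup G) ≤ centralizer ((P : Subgroup G) : Set G) := by
      intro x hx
      rw [Subgroup.mem_centralizer_iff]
      intro y hy
      have := mul_comm (⟨y, hy⟩ : (P : Subgroup G)) ⟨x, hx⟩
      exact congrArg Subtype.val this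
    have h1 : p ^ 2 ∣ Nat.card (centralizer ((P : Subgroup G) : Set G)) :=
      hPcard ▸ Subgroup.card_dvd_of_le hPC
    have h2 := card_centralizer_mul_relIndex (P : Subgroup G)
    have h3 : Nat.card (normalizer ((P : Subgroup G) : Set G)) ∣ Nat.card G :=
      Subgroup.card_subgroup_dvd_card _
    obtain ⟨c, hc⟩ := h1
    have h4 : p ^ 2 * (c * d) ∣ p ^ 2 * (q * r) := by
      rw [← h2, hc, hG'] at h3
      rw [← mul_assoc]; exact h3
    have h5 := Nat.dvd_of_mul_dvd_mul_left (pow_pos hp.pos 2) h4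
    exact (Dvd.intro_left c rfl).trans h5
  -- a prime divisor s of d
  obtain ⟨s, hs, hsd⟩ := Nat.exists_prime_and_dvd hdne
  have hsqr : s = q ∨ s = r := prime_dvd_mul_primes hs hq hr (hsd.trans hd3)
  have hps : p < s := by rcases hsqr with rfl | rfl <;> assumption
  have hs2 : s ∣ (p ^ 2 - 1) * (p ^ 2 - p) := hsd.trans hd2
  have e1 : p ^ 2 - 1 = (p - 1) * (p + 1) := by
    obtain ⟨k, rfl⟩ : ∃ k, p = k + 1 := ⟨p - 1, by omega⟩
    simp only [Nat.add_sub_cancel]
    have : (k + 1) ^ 2 = k * (k + 1 + 1) + 1 := by ring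
    rw [this, Nat.add_sub_cancel]
  have e2 : p ^ 2 - p = p * (p - 1) := by
    rw [Nat.mul_sub, mul_one, pow_two]
  have hnd : ∀ {m : ℕ}, 0 < m → m < s → ¬ s ∣ m := fun h0 hlt h =>
    absurd (Nat.le_of_dvd h0 h) (by omega)
  have hsp1 : s ∣ p + 1 := by
    rw [e1, e2] at hs2
    rcases (Nat.Prime.dvd_mul hs).mp hs2 with h | h
    · rcases (Nat.Prime.dvd_mul hs).mp h with h | h
      · exact absurd h (hnd (by omega) (by omega))
      · exact h
    · rcases (Nat.Prime.dvd_mul hs).mp h with h | h
      · exact absurd h (hnd (by omega) (by omega))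
      · exact absurd h (hnd (by omega) (by omega))
  have hseq : s = p + 1 := by
    have := Nat.le_of_dvd (by omega) hsp1
    omega
  have hp2' : p = 2 := by
    rcases hp.eq_two_or_odd with h | h
    · exact h
    · rcases hs.eq_two_or_odd with h' | h'
      · omega
      · omega
  refine ⟨hp2', ?_⟩
  rcases hsqr with h | h
  · left; omega
  · right; omega

end Cfsg.Agent.Helper17
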