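import Cfsg.Agent.Helper8.S3AWalk

/-!
helper17 for helper8 (S2858 wave 2, board #14762): leaf (TM) `T2_decomp` of `tools/helper8_s2858/Skel2.lean.txt`.
-/
set_option autoImplicit false
namespace Cfsg.Agent.Helper17.S3A
open Cfsg Cfsg.Agent.Helper8.S3A
variable {G : Type*} [Group G] {M₁ M₂ : Subgroup G}

/-- (TM) pure group theory (`H¹(C₃, Zs) = 0` by hand): with `m := d x d⁻¹ x⁻¹ ∈ Zs`, `d³ = 1` gives
`m (d m d⁻¹) (d² m d⁻²) = 1`; put `w := d m d⁻¹`, `x₀ := x w`; then `d x₀ d⁻¹ = x₀`. -/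
theorem T2_decomp {D Zs : Subgroup G} {d : G} (hd : d ^ 3 = 1) (hZD : Zs ≤ D)
    (hZc : ∀ z ∈ Zs, ∀ x ∈ D, z * x = x * z) (hZsq : ∀ z ∈ Zs, z * z = 1)
    (hZd : ∀ z ∈ Zs, d * z * d⁻¹ ∈ Zs) (hDd : ∀ x ∈ D, d * x * d⁻¹ * x⁻¹ ∈ Zs) :
    ∀ x ∈ D, ∃ x₀ ∈ D, ∃ w ∈ Zs, x = x₀ * w ∧ d * x₀ = x₀ * d := by
  intro x hx
  obtain ⟨m, hm⟩ : ∃ m, m = d * x * d⁻¹ * x⁻¹ := ⟨_, rfl⟩
  have hmZ : m ∈ Zs := by rw [hm]; exact hDd x hx
  obtain ⟨w, hw⟩ : ∃ w, w = d * m * d⁻¹ := ⟨_, rfl⟩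
  have hwZ : w ∈ Zs := by rw [hw]; exact hZd m hmZ
  obtain ⟨v, hv⟩ : ∃ v, v = d * w * d⁻¹ := ⟨_, rfl⟩
  have hvZ : v ∈ Zs := by rw [hv]; exact hZd w hwZ
  have key : v * w * m = 1 := by
    have hd' : d * d * d = 1 := by rw [← pow_three', hd]
    have h1 : v * w * m = (d * d * d) * x * (d * d * d)⁻¹ * x⁻¹ := by
      rw [hv, hw, hm]; group
    rw [h1, hd']; group
  have hinv : ∀ z ∈ Zs, z⁻¹ = z := fun z hz => inv_eq_of_mul_eq_one_left (hZsq z hz)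
  have hvw : v = m * w := by
    have h1 : v = (w * m)⁻¹ := by
      rw [eq_inv_iff_mul_eq_one, ← mul_assoc]; exact key
    rw [h1, mul_inv_rev, hinv m hmZ, hinv w hwZ]
  refine ⟨x * w, D.mul_mem hx (hZD hwZ), w, hwZ, ?_, ?_⟩
  · rw [mul_assoc, hZsq w hwZ, mul_one]
  · have h1 : d * x = m * x * d := by rw [hm]; group
    have h2 : d * w = v * d := by rw [hv]; group
    have hc : m * x = x * m := hZc m hmZ x hx
    calc d * (x * w) = (d * x) * w := by rw [mul_assoc]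
      _ = m * x * d * w := by rw [h1]
      _ = m * x * (d * w) := by simp only [mul_assoc]
      _ = m * x * (v * d) := by rw [h2]
      _ = m * x * (m * w * d) := by rw [hvw]
      _ = (m * x) * m * w * d := by simp only [mul_assoc]
      _ = x * (m * m) * w * d := by rw [hc]; simp only [mul_assoc]
      _ = x * w * d := by rw [hZsq m hmZ, mul_one]

end Cfsg.Agent.Helper17.S3A
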