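import Mathlib
import Cfsg.Agent.Helper17.CountOrder
import Cfsg.Agent.S1019

set_option autoImplicit false

namespace Cfsg.Agent.Helper17

open Subgroup MulAction
open scoped Pointwise

variable {G : Type*} [Group G]

/-- If `z` has prime order `p` and is self-centralizing, then Sylow `p`-subgroups have order `p`. -/
theorem card_sylow_of_self_centralizing [Finite G] {p : ℕ} [Fact p.Prime] (z : G)
    (hz : orderOf z = p) (hC : centralizer ({z} : Set G) = zpowers z) (S : Sylow p G) :
    Nat.card (S : Subgroup G) = p := by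
  have hp : p.Prime := Fact.out
  have hcard : Nat.card (zpowers z) = p ^ 1 := by rw [Nat.card_zpowers, hz, pow_one]
  obtain ⟨Q, hQ⟩ := (IsPGroup.of_card hcard).exists_le_sylow
  suffices h : Nat.card (Q : Subgroup G) = p by
    rw [S.card_eq_multiplicity, ← Q.card_eq_multiplicity, h]
  have hzQ : z ∈ (Q : Subgroup G) := hQ (mem_zpowers z)
  haveI : Nontrivial (Q : Subgroup G) := by
    refine ⟨⟨⟨z, hzQ⟩, 1, ?_⟩⟩
    intro h
    have h1 : z = 1 := congrArg Subtype.val h
    rw [h1, orderOf_one] at hz
    exact hp.one_lt.ne hz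
  have hcn : Nontrivial (center (Q : Subgroup G)) := Q.2.center_nontrivial
  obtain ⟨c, hc⟩ := exists_ne (1 : center (Q : Subgroup G))
  have hc1 : ((c : (Q : Subgroup G)) : G) ≠ 1 := by
    intro h
    apply hc
    apply Subtype.ext
    apply Subtype.ext
    exact h
  have hcz : ((c : (Q : Subgroup G)) : G) ∈ zpowers z := by
    rw [← hC, mem_centralizer_singleton_iff]
    have := mem_center_iff.mp c.2 ⟨z, hzQ⟩
    have := congrArg Subtype.val this
    simpa using this.symm
  have hoc : orderOf ((c : (Q : Subgroup G)) : G) = p := by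
    have h1 : orderOf ((c : (Q : Subgroup G)) : G) ∣ p := by
      have := orderOf_dvd_natCard (⟨_, hcz⟩ : zpowers z)
      rwa [hcard, pow_one, Subgroup.orderOf_mk] at this
    rcases (Nat.dvd_prime hp).mp h1 with h | h
    · exact absurd (orderOf_eq_one_iff.mp h) hc1
    · exact h
  have hgen : zpowers z = zpowers ((c : (Q : Subgroup G)) : G) :=
    (Subgroup.eq_of_le_of_card_ge (zpowers_le.mpr hcz) (by rw [Nat.card_zpowers, Nat.card_zpowers, hoc, hz])).symm
  have hzc : z ∈ zpowers ((c : (Q : Subgroup G)) : G) := hgen ▸ mem_zpowers z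
  obtain ⟨k, hk⟩ := mem_zpowers_iff.mp hzc
  have hQle : (Q : Subgroup G) ≤ zpowers z := by
    intro q hq
    rw [← hC, mem_centralizer_singleton_iff]
    have h1 := mem_center_iff.mp c.2 ⟨q, hq⟩
    have h2 : q * ((c : (Q : Subgroup G)) : G) = ((c : (Q : Subgroup G)) : G) * q :=
      congrArg Subtype.val h1
    have h3 : Commute q ((c : (Q : Subgroup G)) : G) := h2
    rw [← hk]
    exact (h3.zpow_right k).eq
  have := le_antisymm hQle hQ
  rw [this, hcard, pow_one]

/-- centralizer of a non-identity element of `zpowers z` (`z` of prime order, self-centralizing) -/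
theorem centralizer_eq_of_mem_zpowers [Finite G] {p : ℕ} [Fact p.Prime] (z : G)
    (hz : orderOf z = p) (hC : centralizer ({z} : Set G) = zpowers z) (g' : G)
    (hg' : g' ∈ zpowers z) (hne : g' ≠ 1) : centralizer ({g'} : Set G) = zpowers z := by
  have hp : p.Prime := Fact.out
  have hog : orderOf g' = p := by
    have h1 : orderOf g' ∣ p := by
      have := orderOf_dvd_natCard (⟨g', hg'⟩ : zpowers z)
      rwa [Nat.card_zpowers, hz, Subgroup.orderOf_mk] at this
    rcases (Nat.dvd_prime hp).mp h1 with h | h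
    · exact absurd (orderOf_eq_one_iff.mp h) hne
    · exact h
  have hgen : zpowers g' = zpowers z :=
    Subgroup.eq_of_le_of_card_ge (zpowers_le.mpr hg') (by rw [Nat.card_zpowers, Nat.card_zpowers, hog, hz])
  apply le_antisymm
  · intro x hx
    rw [← hC, mem_centralizer_singleton_iff]
    have hx' : Commute x g' := (mem_centralizer_singleton_iff.mp hx)
    have hzg : z ∈ zpowers g' := hgen ▸ mem_zpowers z
    obtain ⟨k, hk⟩ := mem_zpowers_iff.mp hzg
    rw [← hk]
    exact (hx'.zpow_right k).eq
  · intro x hx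
    rw [mem_centralizer_singleton_iff]
    obtain ⟨j, rfl⟩ := mem_zpowers_iff.mp hx
    obtain ⟨k, rfl⟩ := mem_zpowers_iff.mp hg'
    exact ((Commute.refl z).zpow_zpow j k).eq

/-- every element of order `p` has a conjugacy class of size `|G| / p`. -/
theorem card_conj_mul_eq_of_self_centralizing [Finite G] {p : ℕ} [Fact p.Prime] (z : G)
    (hz : orderOf z = p) (hC : centralizer ({z} : Set G) = zpowers z) (g : G)
    (hg : orderOf g = p) : Nat.card {y : G // IsConj g y} * p = Nat.card G := by
  have hp : p.Prime := Fact.out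
  have hS := card_sylow_of_self_centralizing z hz hC
  obtain ⟨Qg, hQg⟩ := exists_sylow_eq_zpowers hS g hg
  obtain ⟨Qz, hQz⟩ := exists_sylow_eq_zpowers hS z hz
  obtain ⟨h, hh⟩ := MulAction.exists_smul_eq G Qg Qz
  have hmem : h * g * h⁻¹ ∈ zpowers z := by
    rw [← hQz, ← hh, Sylow.coe_subgroup_smul, Subgroup.mem_pointwise_smul_iff_inv_smul_mem]
    have : g ∈ (Qg : Subgroup G) := hQg ▸ mem_zpowers g
    simpa [MulAut.smul_def, mul_assoc] using this
  have hne : h * g * h⁻¹ ≠ 1 := by
    intro h1
    have : g = 1 := by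
      have := congrArg (fun t => h⁻¹ * t * h) h1
      simpa [mul_assoc] using this
    rw [this, orderOf_one] at hg
    exact hp.one_lt.ne hg
  have hcent := centralizer_eq_of_mem_zpowers z hz hC _ hmem hne
  have hconj : IsConj g (h * g * h⁻¹) := isConj_iff.mpr ⟨h, rfl⟩
  have h1 := Cfsg.Agent.S1019.card_preimage_conj (h * g * h⁻¹) (Set.univ : Set G)
  have e1 : Nat.card {x : G // x⁻¹ * (h * g * h⁻¹) * x ∈ (Set.univ : Set G)} = Nat.card G :=
    Nat.card_congr (Equiv.subtypeUnivEquiv (fun _ => Set.mem_univ _))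
  have e2 : Nat.card {y : G // IsConj (h * g * h⁻¹) y ∧ y ∈ (Set.univ : Set G)} =
      Nat.card {y : G // IsConj g y} :=
    Nat.card_congr (Equiv.subtypeEquivRight (fun y => by
      simp only [Set.mem_univ, and_true]
      exact ⟨fun hy => hconj.trans hy, fun hy => hconj.symm.trans hy⟩))
  rw [e1, e2, hcent, Nat.card_zpowers, hz] at h1
  rw [h1, mul_comm]

theorem class_formula [Finite G] (p : ℕ) [Fact p.Prime] (z : G) (hz : orderOf z = p)
    (hC : centralizer ({z} : Set G) = zpowers z) :
    ∃ n t : ℕ, t = Nat.card {c : ConjClasses G // ∃ g : G, ConjClasses.mk g = c ∧ orderOf g = p} ∧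
      t ∣ p - 1 ∧ Nat.card (Sylow p G) = 1 + n * p ∧
      Nat.card G * t = (p - 1) * p * (1 + n * p) := by
  classical
  have hp : p.Prime := Fact.out
  have hS := card_sylow_of_self_centralizing z hz hC
  have hE := card_orderOf_eq_prime hS
  -- sum over classes
  let T := {c : ConjClasses G // ∃ g : G, ConjClasses.mk g = c ∧ orderOf g = p}
  let S := {g : G // orderOf g = p}
  let cls : S → T := fun s => ⟨ConjClasses.mk s.1, s.1, rfl, s.2⟩
  haveI : Fintype T := Fintype.ofFinite T
  have hsum : Nat.card S = ∑ c : T, Nat.card {s : S // cls s = c} := by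
    rw [← Nat.card_sigma]
    exact Nat.card_congr (Equiv.sigmaFiberEquiv cls).symm
  have hfib : ∀ c : T, Nat.card {s : S // cls s = c} * p = Nat.card G := by
    rintro ⟨c, g₀, rfl, hg₀⟩
    rw [← card_conj_mul_eq_of_self_centralizing z hz hC g₀ hg₀]
    congr 1
    apply Nat.card_congr
    refine
      { toFun := fun s => ⟨s.1.1, ?_⟩
        invFun := fun y => ⟨⟨y.1, ?_⟩, ?_⟩
        left_inv := fun s => rfl
        right_inv := fun y => rfl }
    · have h1 : (cls s.1).1 = ConjClasses.mk g₀ := congrArg Subtype.val s.2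
      exact (ConjClasses.mk_eq_mk_iff_isConj.mp h1).symm
    · obtain ⟨h, hh⟩ := isConj_iff.mp y.2
      have : SemiconjBy h g₀ y.1 := by
        unfold SemiconjBy; rw [← hh]; group
      rw [← this.orderOf_eq, hg₀]
    · apply Subtype.ext
      exact ConjClasses.mk_eq_mk_iff_isConj.mpr y.2.symm
  have hmain : Nat.card S * p = Nat.card T * Nat.card G := by
    rw [hsum, Finset.sum_mul]
    simp only [hfib]
    rw [Finset.sum_const, Finset.card_univ, smul_eq_mul, ← Nat.card_eq_fintype_card (α := T)]
  -- n_p = 1 + n p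
  have hmod : Nat.card (Sylow p G) ≡ 1 [MOD p] := card_sylow_modEq_one p G
  have hnpos : 0 < Nat.card (Sylow p G) := Nat.card_pos
  obtain ⟨n, hn⟩ : ∃ n, Nat.card (Sylow p G) = 1 + n * p := by
    have h1 : 1 ≤ Nat.card (Sylow p G) := hnpos
    have h2 := (Nat.modEq_iff_dvd' h1).mp hmod.symm
    obtain ⟨n, hn⟩ := h2
    exact ⟨n, by rw [mul_comm]; omega⟩
  refine ⟨n, Nat.card T, rfl, ?_, hn, ?_⟩
  · -- t ∣ p - 1
    obtain ⟨Qz, hQz⟩ := exists_sylow_eq_zpowers hS z hz
    have hN := card_normalizer_mul_card_sylow Qz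
    have hcent0 : centralizer ((zpowers z : Subgroup G) : Set G) = centralizer ({z} : Set G) := by
      ext x
      rw [mem_centralizer_iff, mem_centralizer_singleton_iff]
      constructor
      · intro h; exact (h z (mem_zpowers z)).symm
      · intro h y hy
        obtain ⟨k, rfl⟩ := mem_zpowers_iff.mp hy
        have hc : Commute x z := h
        exact (hc.zpow_right k).eq.symm
    have hcc : Nat.card (centralizer ((Qz : Subgroup G) : Set G)) = p := by
      rw [hQz, hcent0, hC, Nat.card_zpowers, hz]
    have hNC := card_centralizer_mul_relIndex (Qz : Subgroup G)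
    rw [hcc] at hNC
    set d := (centralizer ((Qz : Subgroup G) : Set G)).relIndex (normalizer ((Qz : Subgroup G) : Set G))
    -- T * |G| = S * p = n_p (p-1) p ;  |G| = p d n_p
    have h3 : Nat.card T * (p * d * Nat.card (Sylow p G)) = Nat.card (Sylow p G) * (p - 1) * p := by
      rw [hNC, hN, ← hmain]
      change Nat.card {g : G // orderOf g = p} * p = _
      rw [hE]
    have h4 : (Nat.card T * d) * (p * Nat.card (Sylow p G)) = (p - 1) * (p * Nat.card (Sylow p G)) := by
      calc (Nat.card T * d) * (p * Nat.card (Sylow p G))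
          = Nat.card T * (p * d * Nat.card (Sylow p G)) := by ring
        _ = Nat.card (Sylow p G) * (p - 1) * p := h3
        _ = _ := by ring
    have h5 := Nat.eq_of_mul_eq_mul_right (Nat.mul_pos hp.pos hnpos) h4
    exact ⟨d, h5.symm⟩
  · rw [← hn, mul_comm, ← hmain]
    change Nat.card {g : G // orderOf g = p} * p = _
    rw [hE]; ring

end Cfsg.Agent.Helper17
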