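import Mathlib
import Cfsg.Agent.Helper5.SpBN.Api

/-!
# (CN) for S2545 (helper17 for helper5): `s B s ≠ B`.
-/

set_option autoImplicit false

namespace Cfsg.Agent.Helper17.SpBNCN

open Matrix Cfsg.Agent.Helper5.SpBN

variable {F : Type*} [Field F] {m : ℕ}

theorem sSign_mul_self (k : Fin m) (b : Fin m ⊕ Fin m) : sSign F k b * sSign F k b = 1 := by
  unfold sSign
  split_ifs <;> simp

theorem sPerm_rowIdx (k : Fin m) : sPerm k (rowIdx k) = colIdx k := by
  apply pos_injective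
  rw [pos_sPerm, pos_rowIdx, pos_colIdx]
  simp

theorem xMat_mem_Bsub (k : Fin m) (t : F) (x : SpG m F) (hx : x.1 = xMat k t) : x ∈ Bsub m F := by
  rw [mem_Bsub_iff]
  intro a b hab
  have hk := k.2
  have hne : a ≠ b := fun h => by rw [h] at hab; exact lt_irrefl _ hab
  rw [hx, xMat_apply, if_neg hne]
  have h1 : ¬ (rowIdx k = a ∧ colIdx k = b) := by
    rintro ⟨rfl, rfl⟩
    rw [pos_rowIdx, pos_colIdx] at hab
    omega
  have h2 : ¬ (Sum.swap (colIdx k) = a ∧ Sum.swap (rowIdx k) = b) := by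
    rintro ⟨rfl, rfl⟩
    rw [pos_swap, pos_swap, pos_rowIdx, pos_colIdx] at hab
    omega
  rw [if_neg h1, if_neg h2]
  simp

theorem xMat_row_col (k : Fin m) (t : F) : xMat k t (rowIdx k) (colIdx k) = t := by
  rw [xMat_apply, if_neg (rowIdx_ne_colIdx k), if_pos ⟨rfl, rfl⟩]
  by_cases hk1 : k.val + 1 < m
  · have h2 : ¬ (Sum.swap (colIdx k) = rowIdx k ∧ Sum.swap (rowIdx k) = colIdx k) := by
      rintro ⟨h, -⟩
      have := congrArg pos h
      rw [pos_swap, pos_colIdx, pos_rowIdx] at this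
      omega
    rw [if_pos hk1, if_neg h2]; simp
  · rw [if_neg hk1]; simp

theorem conj_ne (hX : ∀ (k : Fin m) (t : F), xMat k t ∈ Matrix.symplecticGroup (Fin m) F)
    (s : SpG m F) (hs : s ∈ Sset m F) :
    (fun b : SpG m F => s * b * s) '' (Bsub m F : Set (SpG m F)) ≠ (Bsub m F : Set (SpG m F)) := by
  obtain ⟨k, hk⟩ := hs
  intro h
  have hxB : (⟨xMat k 1, hX k 1⟩ : SpG m F) ∈ (Bsub m F : Set (SpG m F)) :=
    xMat_mem_Bsub k 1 _ rfl
  have hmem : s * (⟨xMat k 1, hX k 1⟩ : SpG m F) * s ∈ (Bsub m F : Set (SpG m F)) := by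
    rw [← h]
    exact ⟨_, hxB, rfl⟩
  have h0 := (mem_Bsub_iff _).1 hmem (colIdx k) (rowIdx k) (by rw [pos_rowIdx, pos_colIdx]; omega)
  have hπ : ∀ a b : Fin m ⊕ Fin m, a ≠ sPerm k b → s.1 a b = 0 := by
    intro a b hab
    rw [hk, sMat_apply, if_neg hab]
  rw [coe_mul', mul_mono_apply s (sPerm k) hπ, sPerm_rowIdx, coe_mul', Matrix.mul_apply,
    Finset.sum_eq_single (rowIdx k)] at h0
  · rw [hk, sMat_apply, if_pos (sPerm_rowIdx k).symm] at h0
    change sSign F k (rowIdx k) * xMat k 1 (rowIdx k) (colIdx k) * sSign F k (rowIdx k) = 0 at h0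
    rw [xMat_row_col, mul_one, sSign_mul_self] at h0
    exact one_ne_zero h0
  · intro a _ ha
    rw [hπ, zero_mul]
    intro hc
    apply ha
    rw [← sPerm_sPerm k a, ← hc, ← sPerm_rowIdx, sPerm_sPerm]
  · intro h'; exact absurd (Finset.mem_univ _) h'

end Cfsg.Agent.Helper17.SpBNCN
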