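import Mathlib
import Cfsg.Agent.Helper5.SpBN.Api

/-!
# (TOP1) for S2545 (helper17 for helper5): the group generated by the reflections is transitive on
the coordinate lines.
-/

set_option autoImplicit false

namespace Cfsg.Agent.Helper17.SpBNTOP1

open Matrix Cfsg.Agent.Helper5.SpBN

variable {F : Type*} [Field F] {m : ℕ}

theorem exists_pos_eq (p : ℕ) (hp : p < 2 * m) : ∃ a : Fin m ⊕ Fin m, pos a = p := by
  by_cases h : p < m
  · exact ⟨Sum.inl ⟨p, h⟩, rfl⟩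
  · refine ⟨Sum.inr ⟨2 * m - 1 - p, by omega⟩, ?_⟩
    rw [pos_inr]
    show 2 * m - 1 - (2 * m - 1 - p) = p
    omega

theorem sSign_ne_zero (k : Fin m) (b : Fin m ⊕ Fin m) : sSign F k b ≠ 0 := by
  unfold sSign
  split_ifs <;> simp

theorem exists_sPerm_eq (a₀ a : Fin m ⊕ Fin m) (h : pos a = pos a₀ + 1) :
    ∃ k : Fin m, sPerm k a₀ = a := by
  have ha := pos_lt a
  by_cases hp : pos a₀ < m
  · refine ⟨⟨pos a₀, hp⟩, ?_⟩
    apply pos_injective
    rw [pos_sPerm, h]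
    simp
  · refine ⟨⟨2 * m - 2 - pos a₀, by omega⟩, ?_⟩
    apply pos_injective
    rw [pos_sPerm, h]
    simp only
    split_ifs <;> omega

theorem exists_closure_Sset_map_aux
    (hS : ∀ k : Fin m, sMat (F := F) k ∈ Matrix.symplecticGroup (Fin m) F)
    (hm : 1 ≤ m) : ∀ (p : ℕ) (a : Fin m ⊕ Fin m), pos a = p →
    ∃ n ∈ Subgroup.closure (Sset m F), ∃ ε : F, ε ≠ 0 ∧
      ∀ c, n.1 c (Sum.inl ⟨0, hm⟩) = if c = a then ε else 0 := by
  intro p
  induction p with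
  | zero =>
    intro a ha
    have ha' : a = Sum.inl ⟨0, hm⟩ := pos_injective (by rw [ha]; rfl)
    refine ⟨1, Subgroup.one_mem _, 1, one_ne_zero, fun c => ?_⟩
    rw [coe_one', Matrix.one_apply, ha']
  | succ p ih =>
    intro a ha
    have hlt := pos_lt a
    obtain ⟨a₀, ha₀⟩ := exists_pos_eq (m := m) p (by omega)
    obtain ⟨n₀, hn₀, ε₀, hε₀, hcol⟩ := ih a₀ ha₀
    obtain ⟨k, hk⟩ := exists_sPerm_eq a₀ a (by rw [ha, ha₀])
    refine ⟨⟨sMat k, hS k⟩ * n₀,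
      Subgroup.mul_mem _ (Subgroup.subset_closure ⟨k, rfl⟩) hn₀,
      sSign F k a₀ * ε₀, mul_ne_zero (sSign_ne_zero k a₀) hε₀, fun c => ?_⟩
    rw [coe_mul', Matrix.mul_apply, Finset.sum_eq_single a₀]
    · rw [hcol a₀, if_pos rfl]
      show sMat k c a₀ * ε₀ = _
      rw [sMat_apply, hk]
      split_ifs <;> simp
    · intro d _ hd
      rw [hcol d, if_neg hd, mul_zero]
    · intro h; exact absurd (Finset.mem_univ _) h

theorem exists_closure_Sset_map (hS : ∀ k : Fin m, sMat (F := F) k ∈ Matrix.symplecticGroup (Fin m) F)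
    (hm : 1 ≤ m) (a : Fin m ⊕ Fin m) :
    ∃ n ∈ Subgroup.closure (Sset m F), ∃ ε : F, ε ≠ 0 ∧
      ∀ c, n.1 c (Sum.inl ⟨0, hm⟩) = if c = a then ε else 0 :=
  exists_closure_Sset_map_aux hS hm (pos a) a rfl

end Cfsg.Agent.Helper17.SpBNTOP1
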